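import Cfsg.Agent.TwistedOut.Common
import Cfsg.Agent.Lib.Ree.TorusH
import Cfsg.Agent.Lib.Ree.Borel
import Cfsg.Agent.CG26.FieldAutCard

/-!
The outer automorphisms of the small Ree groups are the field automorphisms (helper97).
-/

set_option autoImplicit false
set_option linter.unusedSectionVars false

namespace Cfsg.Agent.TwistedOut.Ree

open Cfsg.Lie Cfsg.Agent.ChevGroup Cfsg.Agent.ChevIsogeny Cfsg.Agent.Twisted
open Cfsg.Agent.Twisted.TypeG2

universe u

variable {F : Type u} [Field F] [Fintype F] {m : ℕ} {K : Rels chevG2 F}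

variable (Z : Frame (T := MT) K PP (3 ^ m) fd) (hK : Fintype.card F = 3 ^ (2 * m + 1))

set_option quotPrecheck false in
local notation "G₁" => genG MT K (g2Words F (3 ^ m))

set_option quotPrecheck false in
local notation "𝔻" => (gens Z hK).data

set_option quotPrecheck false in
local notation "σq" => (3 * 3 ^ m : ℕ)

omit [Fintype F] in
theorem mapW_g2Words (τ : F ≃+* F) :
    ∀ w ∈ g2Words F (3 ^ m), mapW (τ : F →+* F) w ∈ g2Words F (3 ^ m) := by
  have hU : ∀ t u v : F, mapW (τ : F →+* F) (reeWordU (3 ^ m) t u v) =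
      reeWordU (3 ^ m) (τ t) (τ u) (τ v) := fun t u v => by
    simp [mapW, reeWordU, map_pow, map_add]
  rintro w ⟨t, u, v, rfl | rfl⟩
  · exact ⟨τ t, τ u, τ v, Or.inl (hU t u v)⟩
  · refine ⟨τ t, τ u, τ v, Or.inr ?_⟩
    rw [reeWordV, mapW_negWord, hU]
    rfl

/-- the field automorphisms of the small Ree group -/
noncomputable def fAut : (F ≃+* F) →* MulAut ↥G₁ :=
  fieldAut (g2Words F (3 ^ m)) mapW_g2Words

/-- an element of the unipotent group -/
noncomputable def uEl (t u v : F) : ↥G₁ :=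
  ⟨wordU K m t u v, (Subgroup.mem_inf.1 ((mem_U1_iff Z hK).2 ⟨t, u, v, rfl⟩)).1⟩

include Z hK

theorem uEl_mem (t u v : F) : uEl Z hK t u v ∈ uG Z hK :=
  Subgroup.mem_subgroupOf.2 ((mem_U1_iff Z hK).2 ⟨t, u, v, rfl⟩)

theorem exists_uEl {x : ↥G₁} (hx : x ∈ uG Z hK) : ∃ t u v, x = uEl Z hK t u v := by
  obtain ⟨t, u, v, h⟩ := (mem_U1_iff Z hK).1 (Subgroup.mem_subgroupOf.1 hx)
  exact ⟨t, u, v, Subtype.ext h⟩

theorem uEl_inj {t u v t' u' v' : F} (h : uEl Z hK t u v = uEl Z hK t' u' v') :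
    t = t' ∧ u = u' ∧ v = v' :=
  wordU_inj Z hK (congrArg Subtype.val h)

theorem uEl_zero : uEl Z hK 0 0 0 = 1 := Subtype.ext (wordU_zero Z hK)

/-- The multiplication of the unipotent group. -/
theorem uEl_mul (t u v t' u' v' : F) :
    uEl Z hK t u v * uEl Z hK t' u' v' =
      uEl Z hK (t + t') (u + u' - t * t' ^ σq)
        (v + v' - t ^ 2 * t' ^ σq - u * t' + t * t' ^ σq * t') := by
  obtain ⟨a, b, c, h⟩ := exists_uEl Z hK (mul_mem (uEl_mem Z hK t u v) (uEl_mem Z hK t' u' v'))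
  rw [h]
  have h' : wordU K m t u v * wordU K m t' u' v' = wordU K m a b c := congrArg Subtype.val h
  rw [wordU, wordU, wordU, form_mul_eq Z hK] at h'
  obtain ⟨-, ht, -, -, hu, hv⟩ := form_inj Z h'
  have e3 : (t' ^ 3 ^ m) ^ 3 = t' ^ σq := by rw [← pow_mul, mul_comm]
  rw [e3] at hu hv
  rw [← ht, ← hu, ← hv]
  congr 1 <;> ring

theorem uEl_split (t u v : F) : uEl Z hK t u v = uEl Z hK t 0 0 * uEl Z hK 0 u v := by
  have h0 : (0 : F) ^ σq = 0 := zero_pow (by positivity)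
  rw [uEl_mul, h0]
  congr 1 <;> ring

theorem uEl_cube (t u v : F) :
    uEl Z hK t u v ^ 3 = uEl Z hK 0 0 (-(t ^ (σq + 2))) := by
  have h3 := (pow_facts hK).1
  rw [pow_succ, pow_two, uEl_mul, uEl_mul, pow_add t σq 2]
  congr 1
  · linear_combination t * h3
  · linear_combination (u - t * t ^ σq) * h3
  · linear_combination (v - u * t) * h3

theorem cube_eq_one_iff {t u v : F} : uEl Z hK t u v ^ 3 = 1 ↔ t = 0 := by
  rw [uEl_cube]
  constructor
  · intro h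
    have h2 := (uEl_inj Z hK (h.trans (uEl_zero Z hK).symm)).2.2
    exact pow_eq_zero_iff (n := σq + 2) (by omega) |>.1 (neg_eq_zero.1 h2)
  · rintro rfl
    rw [zero_pow (by omega), neg_zero, uEl_zero]

theorem torG_conj_uEl (z : Fˣ) (t u v : F) :
    torG Z hK z * uEl Z hK t u v * (torG Z hK z)⁻¹ =
      uEl Z hK ((lam Z z : F) * t) ((lam Z z : F) ^ (σq + 1) * u) ((lam Z z : F) ^ (σq + 2) * v) :=
  Subtype.ext (hHom_conj_wordU Z hK z t u v)

theorem torG_eq_one_of_mem_uG {z : Fˣ} (h : torG Z hK z ∈ uG Z hK) : z = 1 := by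
  have e := (coord_bijective Z hK).1 (a₁ := (1, z)) (a₂ := (⟨_, h⟩, 1))
    (Subtype.ext (by simp))
  exact congrArg Prod.snd e

theorem lam_surj : Function.Surjective (lam Z) :=
  Finite.injective_iff_surjective.1 (lam_inj Z hK)

theorem exists_gen (hm : 1 ≤ m) :
    ∃ z₀ : Fˣ, (∀ z, z ∈ Subgroup.zpowers z₀) ∧ z₀ ^ 2 ≠ 1 := by
  obtain ⟨z₀, hz₀⟩ := IsCyclic.exists_generator (α := Fˣ)
  refine ⟨z₀, hz₀, fun h => ?_⟩
  have h1 := orderOf_dvd_of_pow_eq_one h
  rw [orderOf_eq_card_of_forall_mem_zpowers hz₀, Nat.card_units, Nat.card_eq_fintype_card, hK]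
    at h1
  have h2 := Nat.le_of_dvd (by norm_num) h1
  have h3 : 3 ^ 3 ≤ 3 ^ (2 * m + 1) := Nat.pow_le_pow_right (by norm_num) (by omega)
  omega

theorem index_uG (hm : 1 ≤ m) : ¬ 3 ∣ (uG Z hK).index := by
  have hc := (uG Z hK).card_mul_index
  rw [card_uG Z hK, card_genG Z hK, mul_assoc] at hc
  have hi := Nat.eq_of_mul_eq_mul_left (by positivity) hc
  rw [hi, Nat.Prime.dvd_mul Nat.prime_three]
  have h1 : 3 ∣ 3 ^ (2 * m + 1) := dvd_pow_self _ (Nat.succ_ne_zero _)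
  have h2 : 3 ∣ (3 ^ (2 * m + 1)) ^ 3 := h1.trans (dvd_pow_self _ (by norm_num))
  have h3 : 1 ≤ 3 ^ (2 * m + 1) := Nat.one_le_pow _ _ (by norm_num)
  omega

theorem mem_bG_of_normalizes {g : ↥G₁}
    (h : g * uEl Z hK 1 0 0 * g⁻¹ ∈ uG Z hK) : g ∈ bG Z hK :=
  uG_ti Z hK (uEl_mem Z hK 1 0 0)
    (fun e => one_ne_zero (uEl_inj Z hK (e.trans (uEl_zero Z hK).symm)).1) h

/-- After composing with an element of `U`, the torus is fixed as well. -/
theorem exists_fix_T (hm : 1 ≤ m) (α : MulAut ↥G₁) (hα : ∀ x, α x ∈ uG Z hK ↔ x ∈ uG Z hK) :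
    ∃ g ∈ uG Z hK, ∀ z, ∃ w, MulAut.conj g (α (torG Z hK z)) = torG Z hK w := by
  obtain ⟨z₀, hgen, hz₀⟩ := exists_gen Z hK hm
  have hB : α (torG Z hK z₀) ∈ bG Z hK := by
    refine mem_bG_of_normalizes Z hK ?_
    obtain ⟨y, hy⟩ := α.surjective (uEl Z hK 1 0 0)
    rw [← hy, ← map_inv, ← map_mul, ← map_mul, hα]
    exact conj_mem_uG Z hK (torG_mem_bG Z hK z₀) ((hα y).1 (hy ▸ uEl_mem Z hK 1 0 0))
  obtain ⟨u, hu, z₁, e⟩ := exists_coord Z hK hB
  have hz₁ : z₁ ^ 2 ≠ 1 := by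
    intro h
    have h2 : α (torG Z hK (z₀ ^ 2)) ∈ uG Z hK := by
      rw [map_pow, map_pow, e, pow_two]
      have e2 : u * torG Z hK z₁ * (u * torG Z hK z₁) =
          u * (torG Z hK z₁ * u * (torG Z hK z₁)⁻¹) * torG Z hK (z₁ ^ 2) := by
        rw [map_pow]; group
      rw [e2, h, map_one, mul_one]
      exact mul_mem hu (conj_mem_uG Z hK (torG_mem_bG Z hK z₁) hu)
    exact hz₀ (torG_eq_one_of_mem_uG Z hK ((hα _).1 h2))
  obtain ⟨w, hw, ew⟩ := coset_conj Z hK hu hz₁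
  refine ⟨w⁻¹, inv_mem hw, fun z => ?_⟩
  obtain ⟨n, rfl⟩ := Subgroup.mem_zpowers_iff.1 (hgen z)
  refine ⟨z₁ ^ n, ?_⟩
  rw [map_zpow, map_zpow, map_zpow, map_zpow, e, ew, MulAut.conj_apply]
  congr 1
  group

theorem fAut_uEl (τ : F ≃+* F) (t u v : F) :
    fAut τ (uEl Z hK t u v) = uEl Z hK (τ t) (τ u) (τ v) := by
  refine Subtype.ext ?_
  show ChevFixed.mapGroup (τ : F →+* F) (wordU K m t u v) = wordU K m (τ t) (τ u) (τ v)
  rw [← wv_wordU Z, ← wv_wordU Z, mapGroup_wv]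
  congr 1
  simp [mapW, reeWordU, map_pow, map_add]

theorem fAut_torG (τ : F ≃+* F) (z : Fˣ) :
    fAut τ (torG Z hK z) = torG Z hK (Units.map (τ : F →* F) z) := by
  refine Subtype.ext ?_
  show ChevFixed.mapGroup (τ : F →+* F) (tor MT K (cvec Z z)) =
    tor MT K (cvec Z (Units.map (τ : F →* F) z))
  rw [mapGroup_tor]
  congr 1
  funext j
  match j with
  | 0 => exact map_pow (Units.map (τ : F →* F)) z (3 ^ m)
  | 1 => rfl

theorem lam_map (τ : F ≃+* F) (z : Fˣ) :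
    (lam Z (Units.map (τ : F →* F) z) : F) = τ (lam Z z : F) := by
  rw [lam_eq, lam_eq]
  simp only [Units.val_mul, Units.val_zpow_eq_zpow_val, Units.val_pow_eq_pow_val, map_mul,
    map_zpow₀, map_pow, Units.coe_map]
  rfl

/-- An automorphism fixing `U` and the torus is a field automorphism on `U/U'`, up to the torus. -/
theorem exists_field (hm : 1 ≤ m) (α : MulAut ↥G₁) (hα : ∀ x, α x ∈ uG Z hK ↔ x ∈ uG Z hK)
    (hT : ∀ z, ∃ w, α (torG Z hK z) = torG Z hK w) :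
    ∃ (c : Fˣ) (τ : F ≃+* F),
      (∀ t, ∃ u v, MulAut.conj (torG Z hK c) (α (uEl Z hK t 0 0)) = uEl Z hK (τ t) u v) ∧
      ∀ z, MulAut.conj (torG Z hK c) (α (torG Z hK z)) = torG Z hK (Units.map (τ : F →* F) z) := by
  classical
  choose π hπ using hT
  choose A B C hABC using fun t => exists_uEl Z hK ((hα (uEl Z hK t 0 0)).2 (uEl_mem Z hK t 0 0))
  have hE : ∀ u v, ∃ u' v', α (uEl Z hK 0 u v) = uEl Z hK 0 u' v' := fun u v => by
    obtain ⟨t', u', v', h⟩ := exists_uEl Z hK ((hα _).2 (uEl_mem Z hK 0 u v))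
    obtain rfl : t' = 0 := (cube_eq_one_iff Z hK).1 (by
      rw [← h, ← map_pow, (cube_eq_one_iff Z hK).2 rfl, map_one])
    exact ⟨u', v', h⟩
  have hadd : ∀ s t, A (s + t) = A s + A t := fun s t => by
    have h := congrArg α (uEl_mul Z hK s 0 0 t 0 0)
    rw [uEl_split Z hK (s + t), map_mul, map_mul, hABC, hABC, hABC, uEl_mul] at h
    obtain ⟨u', v', e⟩ := hE (0 + 0 - s * t ^ σq) (0 + 0 - s ^ 2 * t ^ σq - 0 * t + s * t ^ σq * t)
    rw [e, uEl_mul, add_zero] at h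
    exact (uEl_inj Z hK h).1.symm
  have hscale : ∀ z t, A ((lam Z z : F) * t) = (lam Z (π z) : F) * A t := fun z t => by
    have h := congrArg α (torG_conj_uEl Z hK z t 0 0)
    rw [map_mul, map_mul, map_inv, hπ, hABC, torG_conj_uEl, mul_zero, mul_zero, hABC] at h
    exact (uEl_inj Z hK h).1.symm
  have hA1 : A 1 ≠ 0 := by
    intro h
    have h3 : α (uEl Z hK 1 0 0) ^ 3 = 1 := by rw [hABC, cube_eq_one_iff]; exact h
    rw [← map_pow, MulEquiv.map_eq_one_iff] at h3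
    exact one_ne_zero ((cube_eq_one_iff Z hK).1 h3)
  let e : F → F := fun a => (A 1)⁻¹ * A a
  have heπ : ∀ z, e (lam Z z : F) = lam Z (π z) := fun z => by
    show (A 1)⁻¹ * A _ = _
    rw [show A (lam Z z : F) = lam Z (π z) * A 1 by simpa using hscale z 1, mul_left_comm,
      inv_mul_cancel₀ hA1, mul_one]
  have hA0 : A 0 = 0 := by simpa using hadd 0 0
  let f : F →+* F :=
    { toFun := e
      map_one' := inv_mul_cancel₀ hA1
      map_zero' := by show (A 1)⁻¹ * A 0 = 0; rw [hA0, mul_zero]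
      map_add' := fun a c => by show (A 1)⁻¹ * A (a + c) = _; rw [hadd, mul_add]
      map_mul' := fun a c => by
        rcases eq_or_ne a 0 with rfl | ha
        · show (A 1)⁻¹ * A (0 * c) = (A 1)⁻¹ * A 0 * ((A 1)⁻¹ * A c)
          rw [zero_mul, hA0, mul_zero, zero_mul]
        · obtain ⟨z, hz⟩ := lam_surj Z hK (Units.mk0 a ha)
          have hz' : (lam Z z : F) = a := by rw [hz, Units.val_mk0]
          have h := hscale z c
          have h' := heπ z
          rw [hz'] at h h'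
          show (A 1)⁻¹ * A (a * c) = e a * ((A 1)⁻¹ * A c)
          rw [h, h', mul_left_comm] }
  obtain ⟨c, hc⟩ := lam_surj Z hK (Units.mk0 (A 1)⁻¹ (inv_ne_zero hA1))
  let τ : F ≃+* F := RingEquiv.ofBijective f (Finite.injective_iff_bijective.1 f.injective)
  refine ⟨c, τ, fun t => ⟨(lam Z c : F) ^ (σq + 1) * B t, (lam Z c : F) ^ (σq + 2) * C t, ?_⟩,
    fun z => ?_⟩
  · rw [MulAut.conj_apply, hABC, torG_conj_uEl]
    congr 1
    rw [hc, Units.val_mk0]
    rfl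
  · rw [MulAut.conj_apply, hπ, ← map_inv, ← map_mul, ← map_mul, mul_comm, inv_mul_cancel_left]
    refine congrArg _ (lam_inj Z hK (Units.ext ?_))
    rw [lam_map Z hK τ z]
    exact (heπ z).symm

theorem pow_exp_facts (hm : 1 ≤ m) :
    (σq + 1) * (σq - 1) = 3 * (Fintype.card F - 1) + 2 ∧
      (σq + 2) * (σq - 2) + 1 = 3 * (Fintype.card F - 1) := by
  rw [hK]
  have hp : 3 ^ 1 ≤ 3 ^ m := Nat.pow_le_pow_right (by norm_num) hm
  obtain ⟨k, hk⟩ : ∃ k, 3 * 3 ^ m = k + 2 := ⟨3 * 3 ^ m - 2, by omega⟩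
  have e : 3 * 3 ^ (2 * m + 1) = (3 * 3 ^ m) * (3 * 3 ^ m) := by
    rw [pow_succ, two_mul, pow_add]; ring
  rw [hk] at e
  have e2 : 3 * (3 ^ (2 * m + 1) - 1) = 3 * 3 ^ (2 * m + 1) - 3 := by omega
  rw [e2, hk, e, show k + 2 - 1 = k + 1 by omega, show k + 2 - 2 = k by omega]
  have : 3 ≤ k + 2 := by omega
  have e3 : (k + 2) * (k + 2) = k * k + 4 * k + 4 := by ring
  have e4 : (k + 2 + 1) * (k + 1) = k * k + 4 * k + 3 := by ring
  have e5 : (k + 2 + 2) * k = k * k + 4 * k := by ring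
  omega

/-- Every element is a power with exponent `σ + 2`, every square one with exponent `σ + 1`. -/
theorem exists_pow_eq (hm : 1 ≤ m) (x : F) :
    (∃ t, t ^ (σq + 2) = x) ∧ ∃ t, t ^ (σq + 1) = x ^ 2 := by
  obtain ⟨e1, e2⟩ := pow_exp_facts Z hK hm
  rcases eq_or_ne x 0 with rfl | hx
  · exact ⟨⟨0, zero_pow (by omega)⟩, ⟨0, by rw [zero_pow (by omega), zero_pow (by omega)]⟩⟩
  have hf : ∀ y : F, y ≠ 0 → y ^ (3 * (Fintype.card F - 1)) = 1 := fun y hy => by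
    rw [mul_comm, pow_mul, FiniteField.pow_card_sub_one_eq_one y hy, one_pow]
  refine ⟨⟨x⁻¹ ^ (σq - 2), ?_⟩, ⟨x ^ (σq - 1), ?_⟩⟩
  · have h := hf x⁻¹ (inv_ne_zero hx)
    rw [← e2, pow_succ, mul_inv_eq_one₀ hx, mul_comm (σq + 2), pow_mul] at h
    exact h
  · rw [← pow_mul, mul_comm, e1, pow_add, hf x hx, one_mul]

theorem exists_moved (hm : 1 ≤ m) : ∃ t : F, t ≠ 0 ∧ t ≠ 1 ∧ t ^ σq ≠ t := by
  classical
  have h3 : ({0, 1, -1} : Finset F) ≠ Finset.univ := by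
    intro h
    have hc := congrArg Finset.card h
    rw [Finset.card_univ, hK] at hc
    have h4 : 3 ^ 3 ≤ 3 ^ (2 * m + 1) := Nat.pow_le_pow_right (by norm_num) (by omega)
    have h5 : ({0, 1, -1} : Finset F).card ≤ 3 := Finset.card_le_three
    omega
  obtain ⟨t, ht⟩ : ∃ t : F, t ∉ ({0, 1, -1} : Finset F) := by
    by_contra h
    push Not at h
    exact h3 (Finset.eq_univ_iff_forall.2 h)
  simp only [Finset.mem_insert, Finset.mem_singleton, not_or] at ht
  refine ⟨t, ht.1, ht.2.1, fun he => ?_⟩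
  have h9 : (t ^ σq) ^ σq = t ^ 3 := by
    rw [← pow_mul, show σq * σq = 3 * 3 ^ m * 3 ^ m * 3 by ring, pow_mul,
      (pow_facts hK).2.2.2.2.2 t]
  rw [he, he] at h9
  have h10 : t * ((t - 1) * (t + 1)) = 0 := by linear_combination -h9
  rcases mul_eq_zero.1 h10 with h | h
  · exact ht.1 h
  rcases mul_eq_zero.1 h with h | h
  · exact ht.2.1 (sub_eq_zero.1 h)
  · exact ht.2.2 (eq_neg_of_add_eq_zero_left h)

/-- An additive map killing all squares is zero. -/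
theorem eq_zero_of_sq {R : F → F} (hadd : ∀ a b, R (a + b) = R a + R b)
    (hsq : ∀ a, R (a ^ 2) = 0) (a : F) : R a = 0 := by
  have h3 := (pow_facts hK).1
  have e : (a + 1) ^ 2 = a + (a - 1) ^ 2 := by linear_combination a * h3
  have := hsq (a + 1)
  rwa [e, hadd, hsq, add_zero] at this

/-- The rigidity step. -/
theorem eq_one_of_fix (hm : 1 ≤ m) (α : MulAut ↥G₁)
    (hU : ∀ t, ∃ u v, α (uEl Z hK t 0 0) = uEl Z hK t u v)
    (hα : ∀ x, α x ∈ uG Z hK ↔ x ∈ uG Z hK)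
    (hT : ∀ z, α (torG Z hK z) = torG Z hK z) : α = 1 := by
  classical
  choose B C hBC using hU
  have h0σ : (0 : F) ^ σq = 0 := zero_pow (by positivity)
  have hZ : ∀ v, α (uEl Z hK 0 0 v) = uEl Z hK 0 0 v := fun v => by
    obtain ⟨t, ht⟩ := (exists_pow_eq Z hK hm (-v)).1
    have hv : uEl Z hK t 0 0 ^ 3 = uEl Z hK 0 0 v := by rw [uEl_cube, ht, neg_neg]
    rw [← hv, map_pow, hBC, uEl_cube, uEl_cube]
  have hE : ∀ u, ∃ P R, α (uEl Z hK 0 u 0) = uEl Z hK 0 P R := fun u => by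
    obtain ⟨t', u', v', h⟩ := exists_uEl Z hK ((hα _).2 (uEl_mem Z hK 0 u 0))
    obtain rfl : t' = 0 := (cube_eq_one_iff Z hK).1 (by
      rw [← h, ← map_pow, (cube_eq_one_iff Z hK).2 rfl, map_one])
    exact ⟨u', v', h⟩
  choose P R hPR using hE
  have hgen : ∀ t u v, α (uEl Z hK t u v) = uEl Z hK t (B t + P u) (C t + R u + v) := by
    intro t u v
    have e1 : uEl Z hK 0 u v = uEl Z hK 0 u 0 * uEl Z hK 0 0 v := by
      rw [uEl_mul]
      congr 1 <;> ring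
    rw [uEl_split Z hK t u v, map_mul, hBC, e1, map_mul, hPR, hZ, uEl_mul, uEl_mul, h0σ]
    congr 1 <;> ring
  have hPadd : ∀ a b, P (a + b) = P a + P b ∧ R (a + b) = R a + R b := fun a b => by
    have h := congrArg α (uEl_mul Z hK 0 a 0 0 b 0)
    rw [map_mul, hPR, hPR, uEl_mul] at h
    simp only [h0σ, zero_mul, mul_zero, add_zero, sub_zero, zero_pow two_ne_zero] at h
    rw [hPR] at h
    obtain ⟨-, h1, h2⟩ := uEl_inj Z hK h
    exact ⟨h1.symm, h2.symm⟩
  have hB0 : B 0 = 0 ∧ C 0 = 0 := by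
    have h := hBC 0
    rw [uEl_zero, map_one, ← uEl_zero Z hK] at h
    obtain ⟨-, h1, h2⟩ := uEl_inj Z hK h
    exact ⟨h1.symm, h2.symm⟩
  have hscale : ∀ z t, B ((lam Z z : F) * t) = (lam Z z : F) ^ (σq + 1) * B t ∧
      C ((lam Z z : F) * t) = (lam Z z : F) ^ (σq + 2) * C t := fun z t => by
    have h := congrArg α (torG_conj_uEl Z hK z t 0 0)
    rw [map_mul, map_mul, map_inv, hT, hBC, torG_conj_uEl, mul_zero, mul_zero, hBC] at h
    obtain ⟨-, h1, h2⟩ := uEl_inj Z hK h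
    exact ⟨h1.symm, h2.symm⟩
  have hscP : ∀ z u, P ((lam Z z : F) ^ (σq + 1) * u) = (lam Z z : F) ^ (σq + 1) * P u := fun z u => by
    have h := congrArg α (torG_conj_uEl Z hK z 0 u 0)
    rw [map_mul, map_mul, map_inv, hT, hPR, torG_conj_uEl, mul_zero, mul_zero, hPR] at h
    exact (uEl_inj Z hK h).2.1.symm
  have hBt : ∀ t, B t = t ^ (σq + 1) * B 1 ∧ C t = t ^ (σq + 2) * C 1 := fun t => by
    rcases eq_or_ne t 0 with rfl | ht
    · rw [hB0.1, hB0.2, zero_pow (by omega), zero_pow (by omega)]; simp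
    · obtain ⟨z, hz⟩ := lam_surj Z hK (Units.mk0 t ht)
      have := hscale z 1
      rwa [hz, Units.val_mk0, mul_one] at this
  have hP : ∀ u, P u = P 1 * u := by
    intro u
    have h0 : P 0 = 0 := by simpa using (hPadd 0 0).1
    refine sub_eq_zero.1 (eq_zero_of_sq Z hK (R := fun u => P u - P 1 * u)
      (fun a b => by simp only [(hPadd a b).1]; ring) (fun a => ?_) u)
    obtain ⟨t, ht⟩ := (exists_pow_eq Z hK hm a).2
    rcases eq_or_ne t 0 with rfl | ht0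
    · rw [zero_pow (by omega)] at ht
      simp [← ht, h0]
    · obtain ⟨z, hz⟩ := lam_surj Z hK (Units.mk0 t ht0)
      have := hscP z 1
      rw [hz, Units.val_mk0, mul_one, ht] at this
      simp only [this]; ring
  have hrel : ∀ s t, B (s + t) + P (-(s * t ^ σq)) = B s + B t - s * t ^ σq ∧
      C (s + t) + R (-(s * t ^ σq)) = C s + C t - B s * t := fun s t => by
    have h := congrArg α (uEl_mul Z hK s 0 0 t 0 0)
    rw [map_mul, hBC, hBC, hgen, uEl_mul] at h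
    obtain ⟨-, h1, h2⟩ := uEl_inj Z hK h
    simp only [zero_add, zero_sub] at h1 h2
    exact ⟨h1.symm, by linear_combination -h2⟩
  have hpow : ∀ s t : F, (s + t) ^ σq = s ^ σq + t ^ σq := (pow_facts hK).2.2.1
  obtain ⟨t₀, ht₀, ht₁, ht⟩ := exists_moved Z hK hm
  -- the middle coordinate
  have hB1 : B 1 = 0 ∧ P 1 = 1 := by
    have e : ∀ s t : F, B 1 * (s ^ σq * t + s * t ^ σq) = (P 1 - 1) * (s * t ^ σq) := fun s t => by
      have h := (hrel s t).1
      rw [(hBt _).1, (hBt s).1, (hBt t).1, hP, pow_succ, pow_succ, pow_succ, hpow] at h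
      linear_combination h
    have e11 := e 1 1
    have e10 := e t₀ 1
    simp only [one_pow, mul_one, one_mul] at e11 e10
    have hb : B 1 * (t₀ ^ σq - t₀) = 0 := by linear_combination e10 - t₀ * e11
    have hb0 := (mul_eq_zero.1 hb).resolve_right (sub_ne_zero.2 ht)
    refine ⟨hb0, ?_⟩
    rw [hb0, zero_mul] at e11
    exact sub_eq_zero.1 e11.symm
  have hBz : ∀ t, B t = 0 := fun t => by rw [(hBt t).1, hB1.1, mul_zero]
  -- the last coordinate
  have hR : ∀ u, R u = 0 := by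
    refine eq_zero_of_sq Z hK (fun a b => (hPadd a b).2) fun a => ?_
    obtain ⟨t, ht'⟩ := (exists_pow_eq Z hK hm a).2
    have h := (hrel t (-t)).2
    rw [add_neg_cancel, hB0.2, hBz, zero_mul, sub_zero, zero_add, (hBt t).2, (hBt (-t)).2] at h
    have ho : Odd (σq : ℕ) := Odd.mul (by decide) (Odd.pow (by decide))
    have ho2 : Odd (σq + 2) := ho.add_even even_two
    rw [ho2.neg_pow, ho.neg_pow, neg_mul, add_neg_cancel, mul_neg, neg_neg, ← pow_succ'] at h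
    rw [← ht']
    exact h
  have hC1 : C 1 = 0 := by
    have h := (hrel t₀ 1).2
    rw [hR, hBz, (hBt _).2, (hBt t₀).2, pow_add, pow_add, hpow, one_pow, add_zero, zero_mul,
      sub_zero, sub_eq_zero.symm] at h
    have h3 := (pow_facts hK).1
    have h' : C 1 * ((1 - t₀) * (t₀ ^ σq - t₀)) = 0 := by
      linear_combination h - C 1 * (t₀ * t₀ ^ σq + t₀) * h3
    exact (mul_eq_zero.1 h').resolve_right
      (mul_ne_zero (sub_ne_zero.2 (Ne.symm ht₁)) (sub_ne_zero.2 ht))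
  have hUU : ∀ t u v, α (uEl Z hK t u v) = uEl Z hK t u v := fun t u v => by
    rw [hgen, hBz, hP, hB1.2, hR, (hBt t).2, hC1]
    congr 1 <;> ring
  have hBfix : ∀ b ∈ bG Z hK, α b = b := fun b hb => by
    obtain ⟨u, hu, z, rfl⟩ := exists_coord Z hK hb
    obtain ⟨t, a, v, rfl⟩ := exists_uEl Z hK hu
    rw [map_mul, hUU, hT]
  -- the Weyl element
  have hsplit : ∀ g : ↥G₁, g ∈ bG Z hK ∨
      ∃ b ∈ bG Z hK, ∃ u ∈ uG Z hK, g = b * nG Z hK * u := by
    intro g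
    rcases mem_B1_or_bigCell Z hK g.2 with h | ⟨b, hb, u, hu, e⟩
    · exact Or.inl (Subgroup.mem_subgroupOf.2 h)
    · refine Or.inr ⟨⟨b, (Subgroup.mem_inf.1 hb).1⟩, Subgroup.mem_subgroupOf.2 hb,
        ⟨u, (Subgroup.mem_inf.1 hu).1⟩, Subgroup.mem_subgroupOf.2 hu, Subtype.ext ?_⟩
      rw [Subgroup.coe_mul, Subgroup.coe_mul, nG_val Z hK]
      exact e
  obtain ⟨z₀, -, hz₀⟩ := exists_gen Z hK hm
  have hnn : (nG Z hK)⁻¹ = nG Z hK := inv_eq_of_mul_eq_one_right (nG_sq Z hK)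
  obtain ⟨w, hw⟩ : α (nG Z hK) * nG Z hK ∈ hSub Z hK := by
    rw [← torG_centralizer Z hK hz₀, Subgroup.mem_centralizer_singleton_iff]
    have h := congrArg α (nG_mul_torG Z hK z₀⁻¹)
    rw [inv_inv, map_mul, map_mul, hT, hT] at h
    rw [mul_assoc, nG_mul_torG, ← mul_assoc, h, mul_assoc]
  have hn : α (nG Z hK) = torG Z hK w * nG Z hK := by
    rw [hw, mul_assoc, nG_sq, mul_one]
  obtain ⟨b, hb, u', hu', e⟩ : ∃ b ∈ bG Z hK, ∃ u' ∈ uG Z hK,
      nG Z hK * uEl Z hK 1 0 0 * nG Z hK = b * nG Z hK * u' := by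
    refine (hsplit _).resolve_left fun h => ?_
    have h' := Subgroup.mem_subgroupOf.1 h
    nth_rw 2 [← hnn] at h'
    rw [Subgroup.coe_mul, Subgroup.coe_mul, Subgroup.coe_inv, nG_val Z hK] at h'
    have := eq_one_of_nJ_conj Z hK (Subgroup.mem_subgroupOf.1 (uEl_mem Z hK 1 0 0)) h'
    exact one_ne_zero ((wordU_eq_one_iff Z hK).1 this).1
  have hw1 : torG Z hK w = 1 := by
    have h := congrArg α e
    obtain ⟨t', a', v', rfl⟩ := exists_uEl Z hK hu'
    rw [map_mul, map_mul, map_mul, map_mul, hn, hUU, hUU, hBfix b hb] at h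
    set x := torG Z hK w with hx
    have hxn : nG Z hK * x = x⁻¹ * nG Z hK := by rw [hx, nG_mul_torG, map_inv]
    have hxn' : nG Z hK * x⁻¹ = x * nG Z hK := by rw [hx, ← map_inv, nG_mul_torG, inv_inv]
    have el : x * nG Z hK * uEl Z hK 1 0 0 * (x * nG Z hK) =
        x * b * x * nG Z hK * (x * uEl Z hK t' a' v' * x⁻¹) := by
      have h1 : x * nG Z hK = nG Z hK * x⁻¹ := hxn'.symm
      calc x * nG Z hK * uEl Z hK 1 0 0 * (x * nG Z hK)
          = x * (nG Z hK * uEl Z hK 1 0 0 * nG Z hK) * x⁻¹ := by nth_rw 2 [h1]; group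
        _ = x * b * (nG Z hK * uEl Z hK t' a' v') * x⁻¹ := by rw [e]; group
        _ = x * b * (x * nG Z hK * x) * uEl Z hK t' a' v' * x⁻¹ := by
            rw [mul_assoc x (nG Z hK) x, hxn]; group
        _ = _ := by group
    have hc : ((x * b * x : ↥G₁) : ↥(chevG2.group F)) = ((b * x : ↥G₁) : ↥(chevG2.group F)) := by
      refine (bigCell_unique Z hK ?_ ?_ ?_ ?_ (u := ((x * uEl Z hK t' a' v' * x⁻¹ : ↥G₁) :
        ↥(chevG2.group F))) (u' := (uEl Z hK t' a' v' : ↥(chevG2.group F))) ?_).1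
      · exact Subgroup.mem_subgroupOf.1
          (mul_mem (mul_mem (torG_mem_bG Z hK w) hb) (torG_mem_bG Z hK w))
      · exact Subgroup.mem_subgroupOf.1 (mul_mem hb (torG_mem_bG Z hK w))
      · exact Subgroup.mem_subgroupOf.1 (conj_mem_uG Z hK (torG_mem_bG Z hK w) (uEl_mem Z hK _ _ _))
      · exact Subgroup.mem_subgroupOf.1 (uEl_mem Z hK _ _ _)
      · rw [← nG_val Z hK, ← Subgroup.coe_mul, ← Subgroup.coe_mul, ← Subgroup.coe_mul,
          ← Subgroup.coe_mul, ← el, h, mul_assoc b x]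
    have := mul_right_cancel (Subtype.ext hc : x * b * x = b * x)
    exact mul_eq_right.1 this
  rw [hw1, one_mul] at hn
  refine MulEquiv.ext fun g => ?_
  rw [MulAut.one_apply]
  rcases hsplit g with h | ⟨b', hb', u, hu, rfl⟩
  · exact hBfix g h
  · obtain ⟨t, a, v, rfl⟩ := exists_uEl Z hK hu
    rw [map_mul, map_mul, hn, hBfix b' hb', hUU]

/-- Every automorphism is inner times field. -/
theorem exists_eq (hm : 1 ≤ m) (α : MulAut ↥G₁) :
    ∃ g τ, α = MulAut.conj g * fAut τ := by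
  haveI : Fact (Nat.Prime 3) := ⟨Nat.prime_three⟩
  have hP : IsPGroup 3 (uG Z hK) := IsPGroup.of_card (n := (2 * m + 1) * 3)
    (by rw [card_uG Z hK, ← pow_mul])
  obtain ⟨g₁, h₁⟩ := exists_conj_fix hP (index_uG Z hK hm) α
  obtain ⟨g₂, hg₂, h₂⟩ := exists_fix_T Z hK hm (MulAut.conj g₁ * α) h₁
  have h₁' : ∀ x, (MulAut.conj g₂ * (MulAut.conj g₁ * α)) x ∈ uG Z hK ↔ x ∈ uG Z hK := fun x => by
    rw [← h₁ x]
    show g₂ * _ * g₂⁻¹ ∈ uG Z hK ↔ _
    rw [Subgroup.mul_mem_cancel_right _ (inv_mem hg₂), Subgroup.mul_mem_cancel_left _ hg₂]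
    rfl
  obtain ⟨c, τ, hcU, hcT⟩ := exists_field Z hK hm _ h₁' h₂
  have hfU : ∀ (τ : F ≃+* F) x, x ∈ uG Z hK → fAut τ x ∈ uG Z hK := fun τ x hx => by
    obtain ⟨t, u, v, rfl⟩ := exists_uEl Z hK hx
    rw [fAut_uEl]
    exact uEl_mem Z hK _ _ _
  have hone : MulAut.conj (torG Z hK c) * (MulAut.conj g₂ * (MulAut.conj g₁ * α)) *
      fAut τ.symm = 1 := by
    refine eq_one_of_fix Z hK hm _ (fun t => ?_) (fun x => ?_) fun z => ?_
    · obtain ⟨u, v, hb⟩ := hcU (τ.symm t)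
      rw [RingEquiv.apply_symm_apply] at hb
      exact ⟨u, v, by rw [MulAut.mul_apply, fAut_uEl, map_zero]; exact hb⟩
    · rw [MulAut.mul_apply, MulAut.mul_apply, MulAut.conj_apply]
      set y := (MulAut.conj g₂ * (MulAut.conj g₁ * α)) (fAut τ.symm x) with hy
      have e1 : torG Z hK c * y * (torG Z hK c)⁻¹ ∈ uG Z hK ↔ y ∈ uG Z hK := by
        refine ⟨fun h => ?_, conj_mem_uG Z hK (torG_mem_bG Z hK c)⟩
        have := conj_mem_uG Z hK (inv_mem (torG_mem_bG Z hK c)) h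
        convert this using 1
        group
      rw [e1, h₁']
      refine ⟨fun h => ?_, hfU _ x⟩
      have := hfU τ _ h
      rwa [← MulAut.mul_apply, ← map_mul, show τ * τ.symm = 1 from RingEquiv.ext τ.apply_symm_apply,
        map_one, MulAut.one_apply] at this
    · rw [MulAut.mul_apply, fAut_torG]
      refine (hcT _).trans (congrArg _ (Units.ext ?_))
      exact τ.apply_symm_apply (z : F)
  have hτ : (fAut τ.symm : MulAut ↥G₁) = (fAut τ)⁻¹ := by
    rw [← map_inv]; rfl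
  rw [hτ, mul_inv_eq_one, ← mul_assoc, ← mul_assoc, ← map_mul, ← map_mul] at hone
  exact ⟨(torG Z hK c * g₂ * g₁)⁻¹, τ, by rw [← hone, map_inv, inv_mul_cancel_left]⟩

/-- No nontrivial field automorphism is inner. -/
theorem eq_one_of_inner (τ : F ≃+* F) (g : ↥G₁) (h : MulAut.conj g = fAut τ) : τ = 1 := by
  have h' : ∀ t, g * uEl Z hK t 0 0 * g⁻¹ = uEl Z hK (τ t) 0 0 := fun t => by
    rw [← MulAut.conj_apply, h, fAut_uEl, map_zero]
  obtain ⟨u, hu, z, rfl⟩ := exists_coord Z hK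
    (mem_bG_of_normalizes Z hK (h' 1 ▸ uEl_mem Z hK _ _ _))
  obtain ⟨a, b, c, rfl⟩ := exists_uEl Z hK hu
  have hx : ∀ t : F, (lam Z z : F) * t = τ t := fun t => by
    have e : torG Z hK z * uEl Z hK t 0 0 * (torG Z hK z)⁻¹ * (uEl Z hK a b c)⁻¹ =
        (uEl Z hK a b c)⁻¹ * uEl Z hK (τ t) 0 0 := by
      rw [← h' t]; group
    rw [torG_conj_uEl] at e
    obtain ⟨a', b', c', e'⟩ := exists_uEl Z hK (inv_mem (uEl_mem Z hK a b c))
    rw [e', uEl_mul, uEl_mul] at e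
    linear_combination (uEl_inj Z hK e).1
  have hk : (lam Z z : F) = 1 := by simpa using hx 1
  refine RingEquiv.ext fun x => ?_
  rw [← hx x, hk, one_mul]
  rfl

theorem card_out (hm : 1 ≤ m) : Nat.card (Cfsg.Out ↥(twistedG2 F (3 ^ m))) = 2 * m + 1 := by
  haveI : Fact (Nat.Prime 3) := ⟨Nat.prime_three⟩
  rw [twistedG2, ← card_out_congr (G := ↥G₁) (genEquiv MT K (g2Words F (3 ^ m))),
    card_out_of_split (fAut (K := K) (m := m)) (exists_eq Z hK hm)
      (fun τ g => eq_one_of_inner Z hK τ g),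
    CG26.card_fieldAut 3 _ hK]

end Cfsg.Agent.TwistedOut.Ree
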