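import Cfsg.Agent.TwistedOut.Frame
import Cfsg.Agent.Twisted.Groups.D4
import Cfsg.Agent.CG26.FieldAutCard

/-!
The outer automorphisms of `³D₄(q)` are the field automorphisms (helper97).
-/

set_option autoImplicit false
set_option linter.unusedSectionVars false

namespace Cfsg.Agent.TwistedOut.TrialityD4

open Cfsg.Lie Cfsg.Agent.ChevGroup Cfsg.Agent.ChevIsogeny Cfsg.Agent.Twisted
open Cfsg.Agent.Twisted.TypeD4

universe u

theorem cover_ok : coverB (MT.S) orb = true := by decide +kernel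

theorem opp_ok : oppB (MT.S) orb W0 = true := by decide +kernel

theorem actw_14 : (MT.S).actw (fd.O.wd 1) (14 : Fin MT.tab.n) = 22 := by decide +kernel

theorem sub1 : List.Sublist ([12, 13, 18] : List (Fin MT.tab.n)) MT.posList := by decide +kernel

theorem perm1 : List.Perm ([18, 13, 12] : List (Fin MT.tab.n)) [12, 13, 18] := by decide

theorem perm2 : List.Perm ([14] : List (Fin MT.tab.n)) [14] := List.Perm.refl _

variable {F : Type u} [Field F] [Fintype F] {q : ℕ} {K : Rels chevD4 F}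

set_option quotPrecheck false in
local notation "G₁" => genG MT K (d4Words F q)

omit [Fintype F] in
theorem mapW_d4Words (τ : F ≃+* F) :
    ∀ w ∈ d4Words F q, mapW (τ : F →+* F) w ∈ d4Words F q := by
  rintro w (⟨t, ht, r, hr, rfl⟩ | ⟨t, rs, hr, rfl⟩)
  · exact Or.inl ⟨τ t, by rw [← map_pow, ht], r, hr, rfl⟩
  · exact Or.inr ⟨τ t, rs, hr, by simp [mapW, map_pow]⟩

/-- the field automorphisms of `³D₄(q)` -/
noncomputable def fAut : (F ≃+* F) →* MulAut ↥G₁ := fieldAut (d4Words F q) mapW_d4Words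

variable (Z : Frame (T := MT) K PP q fd)

/-- an element of the root group of the orbit `0` -/
noncomputable def pEl {t : F} (ht : t ^ q = t) : ↥G₁ :=
  ⟨(MT.rel K).x 14 t, (gen1_mem Z ht).1⟩

/-- an element of the root group of the orbit `1` -/
noncomputable def cEl (t : F) : ↥G₁ :=
  ⟨prodX MT K [18, 13, 12] (tri q t), (tri_mem Z t).1⟩

variable (hq : IsPrimePow q) (hK : Fintype.card F = q ^ 3)

set_option quotPrecheck false in
local notation "𝔻" => (gens Z hq hK).data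

include Z hq hK

theorem hyp {p f : ℕ} (hp : p.Prime) (hf : 1 ≤ f) (hqf : q = p ^ f) :
    Hyp 𝔻 (MT.shapeR K) W0 p := by
  refine hyp_of_gens (gens Z hq hK) long_ok distinct_ok orth_ok cover_ok opp_ok
    ((gens Z hq hK).faith torOk simple_orth) hp ⟨f * 12, ?_⟩ ?_
  · rw [(𝔻).card_U1 (MT.shapeR K) ((gens Z hq hK).longest long_ok)]
    simp only [W0, List.map_cons, List.map_nil, List.prod_cons, List.prod_nil, card_X0 Z hq hK,
      card_X1 Z hq hK]
    rw [hqf]; ring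
  · rw [card_H1 Z hq hK, Nat.coprime_comm, hp.coprime_iff_not_dvd]
    intro h
    have hdq : p ∣ q := hqf ▸ dvd_pow_self _ (by omega)
    have h3 : 1 ≤ q ^ 3 := Nat.one_le_pow _ _ hq.pos
    rcases hp.dvd_mul.1 h with h | h
    · have h2 : p ∣ q ^ 3 - 1 + 1 := by
        rw [Nat.sub_add_cancel h3]; exact dvd_pow hdq (by norm_num)
      have := (Nat.dvd_add_right h).1 h2
      exact hp.one_lt.ne' (Nat.dvd_one.1 this)
    · have h2 : p ∣ q - 1 + 1 := by rwa [Nat.sub_add_cancel hq.one_lt.le]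
      have := (Nat.dvd_add_right h).1 h2
      exact hp.one_lt.ne' (Nat.dvd_one.1 this)

theorem pEl_mem {t : F} (ht : t ^ q = t) : pEl Z ht ∈ xS 𝔻 0 :=
  x_mem_Sg (MT.rel K) (T := fun r => r ∈ fd.O.cls 0) (r := 14) (by decide) t

theorem cEl_mem (t : F) : cEl Z t ∈ xS 𝔻 1 := by
  show prodX MT K [18, 13, 12] (tri q t) ∈ Sg (MT.rel K) (· ∈ fd.O.cls 1)
  refine Subgroup.list_prod_mem _ fun y hy => ?_
  obtain ⟨r, hr, rfl⟩ := List.mem_map.1 hy
  refine x_mem_Sg _ (T := fun r => r ∈ fd.O.cls 1) ?_ _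
  simp only [List.mem_cons, List.not_mem_nil, or_false] at hr
  rcases hr with rfl | rfl | rfl <;> decide

theorem exists_pEl {x : ↥G₁} (hx : x ∈ xS 𝔻 0) : ∃ (t : F) (ht : t ^ q = t), x = pEl Z ht := by
  obtain ⟨t, ht, h⟩ := cls0 Z (g := (x : ↥(chevD4.group F))) hx ((gens Z hq hK).fixed _ x.2)
  exact ⟨t, ht, Subtype.ext h⟩

theorem exists_cEl {x : ↥G₁} (hx : x ∈ xS 𝔻 1) : ∃ t, x = cEl Z t := by
  obtain ⟨t, h⟩ := cls1 Z (g := (x : ↥(chevD4.group F))) hx ((gens Z hq hK).fixed _ x.2)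
  exact ⟨t, Subtype.ext h⟩

theorem pEl_inj {t t' : F} {ht : t ^ q = t} {ht' : t' ^ q = t'} (h : pEl Z ht = pEl Z ht') :
    t = t' := Z.iso.x_injective _ (congrArg Subtype.val h :)

theorem tri_inj {v w : Fin MT.tab.n → F}
    (h : prodX MT K [18, 13, 12] v = prodX MT K [18, 13, 12] w) :
    v 18 = w 18 ∧ v 13 = w 13 ∧ v 12 = w 12 := by
  rw [Z.prodX_perm perm1 (list_ok Z _ (by decide)), Z.prodX_perm perm1 (list_ok Z _ (by decide))] at h
  have h' := Z.prodX_inj sub1 h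
  exact ⟨h' 18 (by simp), h' 13 (by simp), h' 12 (by simp)⟩

theorem cEl_inj {t t' : F} (h : cEl Z t = cEl Z t') : t = t' := by
  simpa [tri] using (tri_inj Z hq hK (congrArg Subtype.val h :)).1

theorem pEl_eq_one {t : F} {ht : t ^ q = t} : pEl Z ht = 1 ↔ t = 0 := by
  constructor
  · intro h
    have h' : (MT.rel K).x 14 t = (MT.rel K).x 14 0 := by
      rw [(MT.rel K).x_zero]; exact congrArg Subtype.val h
    exact Z.iso.x_injective _ h'
  · rintro rfl
    exact Subtype.ext ((MT.rel K).x_zero _)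

theorem cEl_add (s t : F) : cEl Z s * cEl Z t = cEl Z (s + t) := by
  obtain ⟨hadd, -, -⟩ := qpow_hom hq hK
  refine Subtype.ext ?_
  show prodX MT K [18, 13, 12] (tri q s) * prodX MT K [18, 13, 12] (tri q t) = _
  rw [Z.prodX_mul (fun r hr s hs => Z.commList_commute (list_ok Z _ (by decide)) hr hs)]
  have h2 : (s + t) ^ q ^ 2 = s ^ q ^ 2 + t ^ q ^ 2 := by
    simp only [pow_two, pow_mul, hadd]
  refine Z.prodX_congr fun r hr => ?_
  simp only [List.mem_cons, List.not_mem_nil, or_false] at hr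
  rcases hr with rfl | rfl | rfl <;> simp [tri, hadd, h2]

/-- The scalars by which an element of the torus acts. -/
theorem exists_chi {x : ↥G₁} (hx : x ∈ tS 𝔻) :
    ∃ c : Fin MT.tab.l → Fˣ, (x : ↥(chevD4.group F)) = tor MT K c ∧
      (chi MT c 14 : F) ^ q = chi MT c 14 ∧
      (∀ {t : F} (ht : t ^ q = t), ∃ ht', x * pEl Z ht * x⁻¹ = pEl Z (t := (chi MT c 14 : F) * t) ht') ∧
      (∀ t, x * cEl Z t * x⁻¹ = cEl Z ((chi MT c 18 : F) * t)) ∧
      (chi MT c 13 : F) = (chi MT c 18 : F) ^ q ∧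
      (chi MT c 12 : F) = (chi MT c 18 : F) ^ (q ^ 2) := by
  obtain ⟨c, hc⟩ := Z.exists_tor torOk (h := (x : ↥(chevD4.group F))) hx
  have hp : ∀ {t : F} (ht : t ^ q = t),
      ∃ ht', x * pEl Z ht * x⁻¹ = pEl Z (t := (chi MT c 14 : F) * t) ht' := fun {t} ht => by
    obtain ⟨t', ht', h⟩ := exists_pEl Z hq hK (x := x * pEl Z ht * x⁻¹)
      (H_conj_Sg (MT.rel K) (h := (x : ↥(chevD4.group F))) hx (pEl_mem Z hq hK ht))
    have h' : tor MT K c * (MT.rel K).x 14 t * (tor MT K c)⁻¹ = (MT.rel K).x 14 t' := by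
      rw [hc]; exact congrArg Subtype.val h
    rw [Z.tor_conj] at h'
    obtain rfl := Z.iso.x_injective _ h'
    exact ⟨ht', h⟩
  have h14 : (chi MT c 14 : F) ^ q = chi MT c 14 := by
    obtain ⟨h, -⟩ := hp (one_pow q)
    simpa using h
  have hq' : ∀ t, ∃ t', x * cEl Z t * x⁻¹ = cEl Z t' ∧ (chi MT c 18 : F) * t = t' ∧
      (chi MT c 13 : F) * t ^ q = t' ^ q ∧ (chi MT c 12 : F) * t ^ q ^ 2 = t' ^ q ^ 2 := fun t => by
    obtain ⟨t', h⟩ := exists_cEl Z hq hK (x := x * cEl Z t * x⁻¹)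
      (H_conj_Sg (MT.rel K) (h := (x : ↥(chevD4.group F))) hx (cEl_mem Z hq hK t))
    have h' : tor MT K c * prodX MT K [18, 13, 12] (tri q t) * (tor MT K c)⁻¹ =
        prodX MT K [18, 13, 12] (tri q t') := by rw [hc]; exact congrArg Subtype.val h
    rw [Z.tor_prodX_conj] at h'
    obtain ⟨e1, e2, e3⟩ := tri_inj Z hq hK h'
    exact ⟨t', h, by simpa [tri] using e1, by simpa [tri] using e2, by simpa [tri] using e3⟩
  refine ⟨c, hc.symm, h14, hp, fun t => ?_, ?_, ?_⟩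
  · obtain ⟨t', h, rfl, -⟩ := hq' t
    exact h
  · obtain ⟨t', -, rfl, e, -⟩ := hq' 1
    simpa using e
  · obtain ⟨t', -, rfl, -, e⟩ := hq' 1
    simpa using e

/-- Two elements of the torus with equal scalars are equal. -/
theorem tS_ext {x y : ↥G₁} (hx : x ∈ tS 𝔻) (hy : y ∈ tS 𝔻) {a b : F}
    (hxp : ∀ {t : F} (ht : t ^ q = t), ∃ ht', x * pEl Z ht * x⁻¹ = pEl Z (t := a * t) ht')
    (hyp : ∀ {t : F} (ht : t ^ q = t), ∃ ht', y * pEl Z ht * y⁻¹ = pEl Z (t := a * t) ht')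
    (hxc : ∀ t, x * cEl Z t * x⁻¹ = cEl Z (b * t))
    (hyc : ∀ t, y * cEl Z t * y⁻¹ = cEl Z (b * t)) : x = y := by
  have hz : ((x⁻¹ * y : ↥G₁) : ↥(chevD4.group F)) = 1 := by
    refine (gens Z hq hK).faith torOk simple_orth _
      ⟨SetLike.coe_mem _, SetLike.coe_mem (⟨_, mul_mem (inv_mem hx) hy⟩ : ↥(tS 𝔻))⟩
      fun k a ha => ?_
    set A : ↥G₁ := ⟨a, ha.1⟩
    have hA : x * A * x⁻¹ = y * A * y⁻¹ := by
      match k with
      | 0 =>
        obtain ⟨t, ht, e⟩ := exists_pEl Z hq hK (x := A) ha.2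
        obtain ⟨_, e1⟩ := hxp ht
        obtain ⟨_, e2⟩ := hyp ht
        rw [e, e1, e2]
      | 1 =>
        obtain ⟨t, e⟩ := exists_cEl Z hq hK (x := A) ha.2
        rw [e, hxc, hyc]
    have hcom : x⁻¹ * y * A = A * (x⁻¹ * y) := by
      calc x⁻¹ * y * A = x⁻¹ * (y * A * y⁻¹) * y := by group
        _ = _ := by rw [← hA]; group
    exact (congrArg Subtype.val hcom :)
  exact inv_mul_eq_one.1 (Subtype.ext hz)

theorem card_units_fixed : Nat.card {u : Fˣ // u ^ q = u} = q - 1 := by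
  rw [← card_units_pow_eq_one (F := F) (n := q - 1) (hK ▸ Nat.sub_one_dvd_pow_sub_one q 3)]
  refine Nat.card_congr (Equiv.subtypeEquivRight fun u => ?_)
  rw [← pow_sub_mul_pow u hq.one_lt.le, pow_one, mul_eq_right]

/-- All pairs of scalars occur in the torus. -/
theorem exists_torus (a b : Fˣ) (ha : a ^ q = a) : ∃ x ∈ tS 𝔻, ∃ c : Fin MT.tab.l → Fˣ,
    (x : ↥(chevD4.group F)) = tor MT K c ∧ chi MT c 14 = a ∧ chi MT c 18 = b ∧
      (∀ {t : F} (ht : t ^ q = t), ∃ ht', x * pEl Z ht * x⁻¹ = pEl Z (t := (a : F) * t) ht') ∧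
      ∀ t, x * cEl Z t * x⁻¹ = cEl Z ((b : F) * t) := by
  classical
  choose c hc h14 hp hcl h13 h12 using fun x : ↥(tS 𝔻) => exists_chi Z hq hK x.2
  let f : ↥(tS 𝔻) → {u : Fˣ // u ^ q = u} × Fˣ := fun x =>
    (⟨chi MT (c x) 14, Units.ext (by rw [Units.val_pow_eq_pow_val]; exact h14 x)⟩, chi MT (c x) 18)
  have hinj : Function.Injective f := by
    intro x y e
    simp only [f, Prod.mk.injEq, Subtype.mk.injEq] at e
    refine Subtype.ext (tS_ext Z hq hK x.2 y.2 (a := (chi MT (c x) 14 : F))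
      (b := (chi MT (c x) 18 : F)) (fun ht => hp x ht) (fun ht => ?_) (hcl x) fun t => ?_)
    · rw [e.1]; exact hp y ht
    · rw [e.2]; exact hcl y t
  have hcard : Nat.card ↥(tS 𝔻) = Nat.card ({u : Fˣ // u ^ q = u} × Fˣ) := by
    rw [Nat.card_prod, card_units_fixed Z hq hK, Nat.card_units,
      Nat.card_eq_fintype_card (α := F), hK, mul_comm, ← card_H1 Z hq hK]
    exact Nat.card_congr ⟨fun x => ⟨(x.1 : ↥(chevD4.group F)), x.1.2, x.2⟩,
      fun y => ⟨⟨y.1, y.2.1⟩, y.2.2⟩, fun _ => rfl, fun _ => rfl⟩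
  obtain ⟨x, hx⟩ := (hinj.bijective_of_nat_card_le hcard.ge).2 (⟨a, ha⟩, b)
  simp only [f, Prod.mk.injEq, Subtype.mk.injEq] at hx
  exact ⟨x.1, x.2, c x, hc x, hx.1, hx.2, fun ht => by rw [← hx.1]; exact hp x ht,
    fun t => by rw [← hx.2]; exact hcl x t⟩

theorem fAut_pEl (τ : F ≃+* F) {t : F} (ht : t ^ q = t) :
    ∃ ht', fAut τ (pEl Z ht) = pEl Z (t := τ t) ht' := by
  refine ⟨by rw [← map_pow, ht], Subtype.ext ?_⟩
  exact ChevFixed.mapGroup_x MT K (τ : F →+* F) 14 t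

theorem fAut_cEl (τ : F ≃+* F) (t : F) : fAut τ (cEl Z t) = cEl Z (τ t) := by
  refine Subtype.ext ?_
  show ChevFixed.mapGroup (τ : F →+* F) (prodX MT K [18, 13, 12] (tri q t)) = _
  rw [prodX, map_list_prod, List.map_map]
  refine congrArg List.prod (List.map_congr_left fun r _ => ?_)
  show ChevFixed.mapGroup (τ : F →+* F) ((MT.rel K).x r (tri q t r)) = _
  rw [ChevFixed.mapGroup_x MT K (τ : F →+* F)]
  congr 1
  unfold tri
  split_ifs <;> simp [map_pow]

theorem card_xS (k : Fin 2) : Nat.card ↥(xS 𝔻 k) = Nat.card ↥((𝔻).X k) :=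
  Nat.card_congr ⟨fun x => ⟨(x.1 : ↥(chevD4.group F)), x.1.2, x.2⟩,
    fun y => ⟨⟨y.1, y.2.1⟩, y.2.2⟩, fun _ => rfl, fun _ => rfl⟩

theorem perm_id {φ : MulAut ↥G₁} (k k' : Fin 2) (h : ∀ x, φ x ∈ xS 𝔻 k' ↔ x ∈ xS 𝔻 k) :
    k' = k := by
  have hcard : Nat.card ↥(xS 𝔻 k) = Nat.card ↥(xS 𝔻 k') :=
    Nat.card_congr (Equiv.subtypeEquiv φ.toEquiv fun x => (h x).symm)
  rw [card_xS Z hq hK, card_xS Z hq hK] at hcard
  have hne : q < q ^ 3 := lt_self_pow₀ hq.one_lt (by norm_num)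
  match k, k' with
  | 0, 0 => rfl
  | 1, 1 => rfl
  | 0, 1 => rw [card_X0 Z hq hK, card_X1 Z hq hK] at hcard; exact absurd hcard hne.ne
  | 1, 0 => rw [card_X0 Z hq hK, card_X1 Z hq hK] at hcard; exact absurd hcard.symm hne.ne

theorem exists_norm {u : F} (hu : u ≠ 0) (hu' : u ^ q = u) :
    ∃ μ : Fˣ, (μ : F) * (μ : F) ^ q * (μ : F) ^ q ^ 2 = u := by
  obtain ⟨g, hg⟩ := IsCyclic.exists_monoid_generator (α := Fˣ)
  have ho : orderOf g = q ^ 3 - 1 := by
    rw [orderOf_eq_card_of_forall_mem_powers hg, Nat.card_units, Nat.card_eq_fintype_card, hK]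
  obtain ⟨k, hk⟩ := (Submonoid.mem_powers_iff _ _).1 (hg (Units.mk0 u hu))
  have h1 : (g ^ k) ^ (q - 1) = 1 := by
    have h2 : Units.mk0 u hu ^ q = Units.mk0 u hu :=
      Units.ext (by rw [Units.val_pow_eq_pow_val]; exact hu')
    rw [← pow_sub_mul_pow (Units.mk0 u hu) hq.one_lt.le, pow_one, mul_eq_right] at h2
    rwa [hk]
  rw [← pow_mul, ← orderOf_dvd_iff_pow_eq_one, ho] at h1
  have e : q ^ 3 - 1 = (1 + q + q ^ 2) * (q - 1) := by
    have := hq.pos
    zify [show 1 ≤ q by omega, Nat.one_le_pow 3 q this]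
    ring
  rw [e] at h1
  obtain ⟨j, hj⟩ := Nat.dvd_of_mul_dvd_mul_right (Nat.sub_pos_of_lt hq.one_lt) h1
  refine ⟨g ^ j, ?_⟩
  have h3 : (Units.mk0 u hu : F) = ((g : F) ^ j) ^ (1 + q + q ^ 2) := by
    rw [← hk, Units.val_pow_eq_pow_val, hj, ← pow_mul, mul_comm]
  rw [Units.val_mk0] at h3
  rw [Units.val_pow_eq_pow_val, h3, pow_add, pow_add, pow_one]

variable {p f : ℕ} (hp : p.Prime) (hf : 1 ≤ f) (hqf : q = p ^ f)
include hp hf hqf

/-- A stable automorphism fixing `pEl 1` and the orbit `1` is trivial. -/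
theorem eq_one_of_fix {φ : MulAut ↥G₁} (hφ : (hyp Z hq hK hp hf hqf).Stable φ)
    (h0 : φ (pEl Z (one_pow q)) = pEl Z (one_pow q)) (h1 : ∀ t, φ (cEl Z t) = cEl Z t) : φ = 1 := by
  have H := hyp Z hq hK hp hf hqf
  refine (hyp Z hq hK hp hf hqf).eq_one_of_fix hφ fun k a ha => ?_
  match k with
  | 1 =>
    obtain ⟨t, rfl⟩ := exists_cEl Z hq hK ha
    exact h1 t
  | 0 =>
    obtain ⟨v, hv', rfl⟩ := exists_pEl Z hq hK ha
    rcases eq_or_ne v 0 with rfl | hv
    · rw [(pEl_eq_one Z hq hK).2 rfl, map_one]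
    obtain ⟨μ, hμ⟩ := exists_norm Z hq hK hv hv'
    obtain ⟨x, hx, c, hxc, c14, c18, hxp, hxq⟩ := exists_torus Z hq hK 1 μ (one_pow q)
    have hx' := ((hyp Z hq hK hp hf hqf).pres_tS hφ.1 x).2 hx
    have hφx : φ x = x := by
      obtain ⟨c', -, -, hp', hq', -, -⟩ := exists_chi Z hq hK hx'
      obtain ⟨_, e0⟩ := hp' (one_pow q)
      obtain ⟨_, e0'⟩ := hxp (one_pow q)
      have e14 : (chi MT c' 14 : F) = ((1 : Fˣ) : F) := by
        have e := congrArg φ e0'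
        simp only [Units.val_one, mul_one] at e
        rw [map_mul, map_mul, map_inv, h0, e0] at e
        simpa using pEl_inj Z hq hK e
      have e18 : (chi MT c' 18 : F) = (μ : F) := by
        have e := congrArg φ (hxq 1)
        rw [map_mul, map_mul, map_inv, h1, h1, hq'] at e
        simpa using cEl_inj Z hq hK e
      exact tS_ext Z hq hK hx' hx (a := ((1 : Fˣ) : F)) (b := (μ : F))
        (fun ht => by rw [← e14]; exact hp' ht) (fun ht => hxp ht)
        (fun t => by rw [← e18]; exact hq' t) hxq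
    set s : ↥G₁ := sEl 𝔻 1 with hs
    have hy : s * x * s⁻¹ ∈ tS 𝔻 := (hyp Z hq hK hp hf hqf).s_conj_tS hx
    obtain ⟨cy, hcy, -, hyp', -, -, -⟩ := exists_chi Z hq hK hy
    have hcy' : (gens Z hq hK).data.nJ 1 * tor MT K c * ((gens Z hq hK).data.nJ 1)⁻¹ =
        tor MT K cy := by
      rw [← hcy, ← hxc]
      rfl
    have h14 : (chi MT cy 14 : F) = v := by
      rw [chi_conj Z ((gens Z hq hK).data.nJ_coset 1) ((gens Z hq hK).split.invol 1) hcy' 14,
        show (gens Z hq hK).data.wd 1 = fd.O.wd 1 from rfl, actw_14, Z.chi_eq torOk]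
      obtain ⟨c'', hxc'', -, -, -, h13, h12⟩ := exists_chi Z hq hK hx
      have htc : tor MT K c = tor MT K c'' := hxc.symm.trans hxc''
      rw [← Z.chi_of_tor_eq htc 13, ← Z.chi_of_tor_eq htc 18, c18] at h13
      rw [← Z.chi_of_tor_eq htc 12, ← Z.chi_of_tor_eq htc 18, c18] at h12
      have v22 : ∀ j, fd.O.vec (22 : Fin MT.tab.n) j = 1 := by decide +kernel
      rw [Finset.prod_congr rfl (g := fun j => chi MT c ((MT.S).simple j))
        fun j _ => by rw [v22 j, zpow_one]]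
      erw [Fin.prod_univ_four]
      erw [show (MT.S).simple 0 = (18 : Fin MT.tab.n) from Fin.ext rfl,
        show (MT.S).simple 1 = (14 : Fin MT.tab.n) from Fin.ext rfl,
        show (MT.S).simple 2 = (13 : Fin MT.tab.n) from Fin.ext rfl,
        show (MT.S).simple 3 = (12 : Fin MT.tab.n) from Fin.ext rfl, c14, c18]
      rw [mul_one, Units.val_mul, Units.val_mul, h13, h12, hμ]
    obtain ⟨ht', e⟩ := hyp' (one_pow q)
    simp only [h14, mul_one] at e
    rw [← e, map_mul, map_mul, map_inv, h0, (hyp Z hq hK hp hf hqf).map_s_conj hφ 1 hx, hφx]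

theorem exists_eq (α : MulAut ↥G₁) : ∃ g τ, α = MulAut.conj g * fAut τ := by
  classical
  have H := hyp Z hq hK hp hf hqf
  obtain ⟨g, hg⟩ := H.exists_normalise α
  have hst : (hyp Z hq hK hp hf hqf).Stable (MulAut.conj g * α) :=
    (hyp Z hq hK hp hf hqf).stable_of_perm hg fun k k' h => perm_id Z hq hK k k' h
  set φ := MulAut.conj g * α with hφ
  obtain ⟨a₀, ha₀, hpa⟩ := exists_pEl Z hq hK (((hst.2 0).2 _).2 (pEl_mem Z hq hK (one_pow q)))
  choose A hA using fun t => exists_cEl Z hq hK (((hst.2 1).2 (cEl Z t)).2 (cEl_mem Z hq hK t))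
  have ha0 : a₀ ≠ 0 := fun h => by
    rw [(pEl_eq_one Z hq hK).2 h, MulEquiv.map_eq_one_iff, pEl_eq_one Z hq hK] at hpa
    exact one_ne_zero hpa
  have hadd : ∀ s t, A (s + t) = A s + A t := fun s t => by
    have h := congrArg φ (cEl_add Z hq hK s t)
    rw [map_mul, hA, hA, hA, cEl_add Z hq hK] at h
    exact (cEl_inj Z hq hK h).symm
  have hA1 : A 1 ≠ 0 := fun h => by
    have h0 : A 0 = 0 := by simpa using hadd 0 0
    have e : φ (cEl Z 1) = φ (cEl Z 0) := by rw [hA, hA, h, h0]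
    exact one_ne_zero (cEl_inj Z hq hK (φ.injective e))
  obtain ⟨τ, hτ⟩ := exists_ringEquiv_of_scale (fun t => (A 1)⁻¹ * A t)
    (fun s t => by simp only [hadd]; ring) (inv_mul_cancel₀ hA1) fun a ha => by
      obtain ⟨x, hx, c, -, -, -, -, hxq⟩ := exists_torus Z hq hK 1 (Units.mk0 a ha) (one_pow q)
      obtain ⟨c', -, -, -, hq', -, -⟩ := exists_chi Z hq hK ((H.pres_tS hst.1 x).2 hx)
      refine ⟨(chi MT c' 18 : F), fun t => ?_⟩
      have h := congrArg φ (hxq t)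
      rw [map_mul, map_mul, map_inv, hA, hq', Units.val_mk0, hA] at h
      rw [← cEl_inj Z hq hK h]; ring
  obtain ⟨x, hx, -, -, -, -, hxp, hxq⟩ := exists_torus Z hq hK (Units.mk0 a₀ ha0)⁻¹
    (Units.mk0 (A 1) hA1)⁻¹ (by rw [inv_pow]; congr 1; exact Units.ext (by simpa using ha₀))
  have hone : MulAut.conj x * φ * fAut τ.symm = 1 := by
    refine eq_one_of_fix Z hq hK hp hf hqf (H.stable_mul (H.stable_mul (H.stable_conj hx) hst)
      (H.stable_fieldAut mapW_d4Words τ.symm)) ?_ fun t => ?_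
    · obtain ⟨_, e1⟩ := fAut_pEl Z hq hK τ.symm (one_pow q)
      simp only [map_one] at e1
      obtain ⟨_, e2⟩ := hxp ha₀
      rw [MulAut.mul_apply, MulAut.mul_apply, e1, hpa, MulAut.conj_apply, e2]
      simp only [Units.val_inv_eq_inv_val, Units.val_mk0, inv_mul_cancel₀ ha0]
    · rw [MulAut.mul_apply, MulAut.mul_apply, fAut_cEl Z hq hK, hA, MulAut.conj_apply, hxq,
        Units.val_inv_eq_inv_val, Units.val_mk0]
      exact congrArg (cEl Z) ((hτ (τ.symm t)).trans (τ.apply_symm_apply t))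
  have hτ' : (fAut τ.symm : MulAut ↥G₁) = (fAut τ)⁻¹ := by rw [← map_inv]; rfl
  rw [hτ', mul_inv_eq_one, hφ, ← mul_assoc, ← map_mul] at hone
  exact ⟨(x * g)⁻¹, τ, by rw [← hone, map_inv, inv_mul_cancel_left]⟩

theorem eq_one_of_inner (τ : F ≃+* F) (g : ↥G₁) (h : MulAut.conj g = fAut τ) : τ = 1 := by
  have H := hyp Z hq hK hp hf hqf
  have hg := H.mem_tS_of_stable (g := g) (h ▸ H.stable_fieldAut mapW_d4Words τ)
  obtain ⟨c, -, -, -, hq', -, -⟩ := exists_chi Z hq hK hg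
  have hx : ∀ t : F, (chi MT c 18 : F) * t = τ t := fun t => by
    have e := hq' t
    rw [← MulAut.conj_apply, h, fAut_cEl Z hq hK] at e
    exact (cEl_inj Z hq hK e).symm
  have hk : (chi MT c 18 : F) = 1 := by simpa using hx 1
  refine RingEquiv.ext fun x => ?_
  rw [← hx x, hk, one_mul]
  rfl

theorem card_out : Nat.card (Cfsg.Out ↥(twistedD4 F q)) = 3 * f := by
  haveI : Fact p.Prime := ⟨hp⟩
  rw [twistedD4, ← card_out_congr (G := ↥G₁) (genEquiv MT K (d4Words F q)),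
    card_out_of_split (fAut (K := K) (q := q)) (exists_eq Z hq hK hp hf hqf)
      (fun τ g => eq_one_of_inner Z hq hK hp hf hqf τ g),
    CG26.card_fieldAut p (3 * f) (by rw [hK, hqf, ← pow_mul, mul_comm])]

end Cfsg.Agent.TwistedOut.TrialityD4
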