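import Cfsg.Agent.TwistedOut.UnitaryE6Basic
import Cfsg.Agent.CG26.FieldAutCard

/-!
The outer automorphisms of `²E₆(q)` are the diagonal and the field automorphisms (helper97).
-/

set_option autoImplicit false
set_option linter.unusedSectionVars false
set_option maxRecDepth 4000

namespace Cfsg.Agent.TwistedOut.UnitaryE6

open Cfsg.Lie Cfsg.Agent.ChevGroup Cfsg.Agent.ChevIsogeny Cfsg.Agent.Twisted
open Cfsg.Agent.Twisted.TypeE6

universe u

theorem commute_pairs :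
    ([(46, 42), (46, 37), (46, 56), (46, 36), (39, 56), (39, 36), (42, 43), (37, 40)] :
      List (Fin MT.tab.n × Fin MT.tab.n)).all (fun p => PP.commuteB chevE6 p.1.val p.2.val) = true := by
  decide +kernel

theorem terms_43 : chevE6.commTerms 39 42 = [(43, 1, 1, 1)] := by decide +kernel

theorem terms_40 : chevE6.commTerms 39 37 = [(40, -1, 1, 1)] := by decide +kernel

theorem sub4043 : List.Sublist ([40, 43] : List (Fin MT.tab.n)) MT.posList := by decide +kernel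

theorem actw_42 : (MT.S).actw (fd.O.wd 3) (42 : Fin MT.tab.n) = 57 := by decide +kernel
theorem actw_39 : (MT.S).actw (fd.O.wd 2) (39 : Fin MT.tab.n) = 44 := by decide +kernel
theorem actw_46 : (MT.S).actw (fd.O.wd 1) (46 : Fin MT.tab.n) = 47 := by decide +kernel

variable {F : Type u} [Field F] [Fintype F] {q : ℕ} {K : Rels chevE6 F}

set_option quotPrecheck false in
local notation "G₁" => genG MT K (e6Words F q)

omit [Fintype F] in
theorem mapW_e6Words (τ : F ≃+* F) :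
    ∀ w ∈ e6Words F q, mapW (τ : F →+* F) w ∈ e6Words F q := by
  rintro w (⟨t, ht, r, hr, rfl⟩ | ⟨t, rs, hr, rfl⟩)
  · exact Or.inl ⟨τ t, by rw [← map_pow, ht], r, hr, rfl⟩
  · exact Or.inr ⟨τ t, rs, hr, by simp [mapW, map_pow]⟩

/-- the field automorphisms of `²E₆(q)` -/
noncomputable def fAut : (F ≃+* F) →* MulAut ↥G₁ := fieldAut (e6Words F q) mapW_e6Words

variable (Z : Frame (T := MT) K PP q fd)

theorem fAut_one (τ : F ≃+* F) {r : Fin MT.tab.n} (hr : r ∈ ones) {t : F} (ht : t ^ q = t) :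
    ∃ ht', fAut τ (oneG Z hr ht) = oneG Z hr (t := τ t) ht' :=
  ⟨by rw [← map_pow, ht], Subtype.ext (ChevFixed.mapGroup_x MT K (τ : F →+* F) r t)⟩

theorem fAut_two (τ : F ≃+* F) {p : Fin MT.tab.n × Fin MT.tab.n} (hp : p ∈ pairs) (t : F) :
    fAut τ (twoG Z hp t) = twoG Z hp (τ t) := by
  refine Subtype.ext ?_
  show ChevFixed.mapGroup (τ : F →+* F) (prodX MT K [p.1, p.2] (duo q p.1 t)) = _
  rw [prodX, map_list_prod, List.map_map]
  refine congrArg List.prod (List.map_congr_left fun r _ => ?_)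
  show ChevFixed.mapGroup (τ : F →+* F) ((MT.rel K).x r (duo q p.1 t r)) = _
  rw [ChevFixed.mapGroup_x MT K (τ : F →+* F)]
  congr 1
  unfold duo
  split_ifs <;> simp [map_pow]

include Z

theorem chi_sums (c : Fin MT.tab.l → Fˣ) :
    chi MT c 57 = chi MT c 56 * chi MT c 42 ∧
    chi MT c 44 = chi MT c 42 * chi MT c 39 * chi MT c 37 ∧
    chi MT c 47 = chi MT c 46 * chi MT c 39 := by
  have v57 : ∀ j, fd.O.vec (57 : Fin MT.tab.n) j = ([1, 0, 1, 0, 0, 0] : List ℤ).getD j.val 0 := by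
    decide +kernel
  have v44 : ∀ j, fd.O.vec (44 : Fin MT.tab.n) j = ([0, 0, 1, 1, 1, 0] : List ℤ).getD j.val 0 := by
    decide +kernel
  have v47 : ∀ j, fd.O.vec (47 : Fin MT.tab.n) j = ([0, 1, 0, 1, 0, 0] : List ℤ).getD j.val 0 := by
    decide +kernel
  have e : ∀ (r : Fin MT.tab.n) (v : List ℤ), (∀ j, fd.O.vec r j = v.getD j.val 0) →
      chi MT c r = ∏ i : Fin 6, chi MT c ((MT.S).simple i) ^ v.getD i.val 0 := fun r v h => by
    rw [Z.chi_eq torOk]
    exact Finset.prod_congr rfl fun i _ => congrArg (chi MT c ((MT.S).simple i) ^ ·) (h i)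
  refine ⟨?_, ?_, ?_⟩
  · rw [e _ _ v57, Fin.prod_univ_six]
    simp
    rfl
  · rw [e _ _ v44, Fin.prod_univ_six]
    simp
    rfl
  · rw [e _ _ v47, Fin.prod_univ_six]
    simp
    rfl

variable (hq : IsPrimePow q) (hK : Fintype.card F = q ^ 2)

set_option quotPrecheck false in
local notation "𝔻" => (gens Z hq hK).data

include hq hK

/-- every value of a fixed parameter vector is realised in the torus -/
theorem exists_torus (a b c d : Fˣ) (hb : b ^ q = b) (hd : d ^ q = d) :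
    ∃ x ∈ tS 𝔻, ∃ s : Par F q, Acts Z (MulAut.conj x) s ∧
      (s.1.1 : Fˣ) = chi MT (cvec q a b c d) 46 ∧ (s.1.2 : Fˣ) = chi MT (cvec q a b c d) 39 ∧
      s.2.1 = chi MT (cvec q a b c d) 42 ∧ s.2.2 = chi MT (cvec q a b c d) 56 := by
  set x : ↥G₁ := ⟨tor MT K (cvec q a b c d),
    torus_mem Z (qpow_hom hq hK).1 hq.pos.ne' _ (sig_cvec Z hq hK a b c d hb hd)⟩
  have hx : x ∈ tS 𝔻 := Z.tor_mem_H _
  obtain ⟨c', s, hc', hs, e0, e1, e2, e3, -⟩ := exists_chi Z hq hK hx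
  have h : tor MT K c' = tor MT K (cvec q a b c d) := hc'.symm
  exact ⟨x, hx, s, hs, e0.trans (Z.chi_of_tor_eq h _), e1.trans (Z.chi_of_tor_eq h _),
    e2.trans (Z.chi_of_tor_eq h _), e3.trans (Z.chi_of_tor_eq h _)⟩

theorem exists_xA (μ : Fˣ) : ∃ x ∈ tS 𝔻, ∃ s : Par F q, Acts Z (MulAut.conj x) s ∧
    (s.1.2 : Fˣ) = 1 ∧ s.2.1 = μ := by
  obtain ⟨x, hx, s, hs, -, e1, e2, -⟩ := exists_torus Z hq hK μ⁻¹ 1 1 1 (one_pow q) (one_pow q)
  obtain ⟨c0, c1, c2, c3, c4, c5⟩ := cvec_val q μ⁻¹ (1 : Fˣ) 1 (1 : Fˣ)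
  obtain ⟨-, -, v2, v3, -, -⟩ := chi_simple (F := F) (cvec q μ⁻¹ 1 1 1)
  refine ⟨x, hx, s, hs, ?_, ?_⟩
  · rw [e1, v3, c1, c2, c3, c4]; simp
  · rw [e2, v2, c0, c2, c3]; simp

theorem exists_xB (μ : Fˣ) : ∃ x ∈ tS 𝔻, ∃ s : Par F q, Acts Z (MulAut.conj x) s ∧
    (s.1.1 : Fˣ) = 1 ∧ (s.1.2 : Fˣ) = μ⁻¹ * (μ ^ q)⁻¹ ∧ s.2.2 = μ⁻¹ := by
  obtain ⟨x, hx, s, hs, e0, e1, -, e3⟩ := exists_torus Z hq hK 1 1 μ 1 (one_pow q) (one_pow q)
  obtain ⟨c0, c1, c2, c3, c4, c5⟩ := cvec_val q (1 : Fˣ) (1 : Fˣ) μ (1 : Fˣ)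
  obtain ⟨v0, v1, -, v3, -, -⟩ := chi_simple (F := F) (cvec q 1 1 μ 1)
  refine ⟨x, hx, s, hs, ?_, ?_, ?_⟩
  · rw [e0, v1, c1, c3]; simp
  · rw [e1, v3, c1, c2, c3, c4]; simp
  · rw [e3, v0, c0, c2]; simp

/-- root groups of two orbits commute elementwise -/
def Comm (j k : Fin 4) : Prop := ∀ a ∈ xS 𝔻 j, ∀ b ∈ xS 𝔻 k, a * b = b * a

theorem comm_facts : Comm Z hq hK 0 2 ∧ Comm Z hq hK 0 3 ∧ Comm Z hq hK 1 3 ∧
    ¬ Comm Z hq hK 1 2 := by
  have hc := commute_pairs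
  simp only [List.all_cons, List.all_nil, Bool.and_true, Bool.and_eq_true] at hc
  obtain ⟨h1, h2, h3, h4, h5, h6, h7, h8⟩ := hc
  have key : ∀ {r : Fin MT.tab.n} (hr : r ∈ ones) {p : Fin MT.tab.n × Fin MT.tab.n} (hp : p ∈ pairs),
      PP.commuteB chevE6 r.val p.1.val = true → PP.commuteB chevE6 r.val p.2.val = true →
      ∀ {t : F} (ht : t ^ q = t) (u : F), oneG Z hr ht * twoG Z hp u = twoG Z hp u * oneG Z hr ht := by
    intro r hr p hp e1 e2 t ht u
    refine Subtype.ext ?_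
    show Commute ((MT.rel K).x r t) (prodX MT K [p.1, p.2] (duo q p.1 u))
    refine Commute.list_prod_right _ _ fun y hy => ?_
    obtain ⟨s, hs, rfl⟩ := List.mem_map.1 hy
    simp only [List.mem_cons, List.not_mem_nil, or_false] at hs
    rcases hs with rfl | rfl
    · exact Z.commute_x e1 _ _
    · exact Z.commute_x e2 _ _
  refine ⟨fun a ha b hb => ?_, fun a ha b hb => ?_, fun a ha b hb => ?_, fun hC => ?_⟩
  · obtain ⟨t, ht, rfl⟩ := exists_one Z hq hK m46 rfl sub46 ha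
    obtain ⟨u, rfl⟩ := exists_two Z hq hK p42 rfl sub42 hb
    exact key m46 p42 h1 h2 ht u
  · obtain ⟨t, ht, rfl⟩ := exists_one Z hq hK m46 rfl sub46 ha
    obtain ⟨u, rfl⟩ := exists_two Z hq hK p56 rfl sub56 hb
    exact key m46 p56 h3 h4 ht u
  · obtain ⟨t, ht, rfl⟩ := exists_one Z hq hK m39 rfl sub39 ha
    obtain ⟨u, rfl⟩ := exists_two Z hq hK p56 rfl sub56 hb
    exact key m39 p56 h5 h6 ht u
  · have h := congrArg Subtype.val (hC _ (one_mem Z hq hK m39 (k := 1) (by decide) (one_pow q)) _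
      (two_mem Z hq hK p42 (k := 2) (by decide) (by decide) (1 : F)))
    simp only [Subgroup.coe_mul, oneG, twoG, prodX, List.map_cons, List.map_nil, List.prod_cons,
      List.prod_nil, mul_one, duo, if_pos, show ((37 : Fin MT.tab.n) ≠ 42) by decide, if_false,
      one_pow] at h
    have e1 := IsoHyp.conj_eq (T := MT) (K := K) Z.iso.comm (MT.lt (39 : Fin MT.tab.n))
      (MT.lt (42 : Fin MT.tab.n)) (by decide +kernel) (by decide +kernel) (1 : F) 1
    have e2 := IsoHyp.conj_eq (T := MT) (K := K) Z.iso.comm (MT.lt (39 : Fin MT.tab.n))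
      (MT.lt (37 : Fin MT.tab.n)) (by decide +kernel) (by decide +kernel) (1 : F) 1
    rw [show chevE6.commTerms (39 : Fin MT.tab.n).val (42 : Fin MT.tab.n).val =
      [((43 : Fin MT.tab.n).val, 1, 1, 1)] from terms_43] at e1
    rw [show chevE6.commTerms (39 : Fin MT.tab.n).val (37 : Fin MT.tab.n).val =
      [((40 : Fin MT.tab.n).val, -1, 1, 1)] from terms_40] at e2
    simp only [IsoHyp.xN_val, List.map_cons, List.map_nil, List.prod_cons, List.prod_nil, mul_one,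
      IsoHyp.val, pow_one, Int.cast_one, Int.cast_neg, one_mul] at e1 e2
    set A := (MT.rel K).x (39 : Fin MT.tab.n) (1 : F)
    set B := (MT.rel K).x (42 : Fin MT.tab.n) (1 : F)
    set C := (MT.rel K).x (37 : Fin MT.tab.n) (1 : F)
    set D := (MT.rel K).x (43 : Fin MT.tab.n) (1 : F)
    set E := (MT.rel K).x (40 : Fin MT.tab.n) (-1 : F)
    have hA : (MT.rel K).x (39 : Fin MT.tab.n) (-1 : F) = A⁻¹ := (MT.rel K).x_neg _ _
    rw [hA] at e1 e2
    have h9 : B * D * (C * E) = B * C := by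
      rw [← e1, ← e2]
      calc A * B * A⁻¹ * (A * C * A⁻¹) = A * (B * C) * A⁻¹ := by group
        _ = _ := by rw [h]; group
    have hCE : C * E = E * C := (Z.commute_x h8 _ _).eq
    rw [hCE, mul_assoc] at h9
    have h10 : D * E = 1 := by
      have := mul_left_cancel h9
      rw [← mul_assoc] at this
      exact mul_eq_right.1 this
    have h11 : prodX MT K [40, 43] (fun r => if r = 40 then (1 : F) else 0) =
        prodX MT K [40, 43] (fun r => if r = 43 then (1 : F) else 0) := by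
      simp only [prodX, List.map_cons, List.map_nil, List.prod_cons, List.prod_nil, mul_one, if_pos,
        show ((43 : Fin MT.tab.n) ≠ 40) by decide, show ((40 : Fin MT.tab.n) ≠ 43) by decide, if_false,
        (MT.rel K).x_zero, one_mul]
      have hE : (MT.rel K).x (40 : Fin MT.tab.n) (1 : F) = E⁻¹ := by
        rw [← (MT.rel K).x_neg, neg_neg]
      rw [hE]
      exact (eq_inv_of_mul_eq_one_left h10).symm
    have := Z.prodX_inj sub4043 h11 40 (by simp)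
    simp at this

variable {p f : ℕ} (hp : p.Prime) (hf : 1 ≤ f) (hqf : q = p ^ f)
include hp hf hqf

theorem perm_id {φ : MulAut ↥G₁} (hφ : Normal1 𝔻 φ) (k k' : Fin 4)
    (h : ∀ x, φ x ∈ xS 𝔻 k' ↔ x ∈ xS 𝔻 k) : k' = k := by
  obtain ⟨x0, x1, x2, x3⟩ := card_X Z hq hK
  obtain ⟨c02, c03, c13, c12⟩ := comm_facts Z hq hK
  have hcard : ∀ j j' : Fin 4, (∀ x, φ x ∈ xS 𝔻 j' ↔ x ∈ xS 𝔻 j) → (j.val < 2 ↔ j'.val < 2) := by
    intro j j' hj
    have hc : Nat.card ↥(xS 𝔻 j) = Nat.card ↥(xS 𝔻 j') :=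
      Nat.card_congr (Equiv.subtypeEquiv φ.toEquiv fun x => (hj x).symm)
    rw [card_xS Z hq hK, card_xS Z hq hK] at hc
    have hv : ∀ i : Fin 4, Nat.card ↥((𝔻).X i) = if i.val < 2 then q else q ^ 2 := fun i => by
      match i with
      | 0 => exact x0
      | 1 => exact x1
      | 2 => exact x2
      | 3 => exact x3
    rw [hv, hv] at hc
    have hne : q ≠ q ^ 2 := (lt_self_pow₀ hq.one_lt one_lt_two).ne
    by_cases a : j.val < 2 <;> by_cases b : j'.val < 2 <;> simp only [a, b, if_true, if_false] at hc ⊢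
    · exact absurd hc hne
    · exact absurd hc.symm hne
  have hmap : ∀ i i' j j' : Fin 4, (∀ x, φ x ∈ xS 𝔻 i' ↔ x ∈ xS 𝔻 i) →
      (∀ x, φ x ∈ xS 𝔻 j' ↔ x ∈ xS 𝔻 j) → (Comm Z hq hK i j ↔ Comm Z hq hK i' j') := by
    intro i i' j j' hi hj
    refine ⟨fun hC a ha b hb => ?_, fun hC a ha b hb => ?_⟩
    · obtain ⟨a, rfl⟩ := φ.surjective a
      obtain ⟨b, rfl⟩ := φ.surjective b
      rw [← map_mul, ← map_mul, hC a ((hi a).1 ha) b ((hj b).1 hb)]
    · exact φ.injective (by rw [map_mul, map_mul]; exact hC _ ((hi a).2 ha) _ ((hj b).2 hb))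
  have hex := fun j => (hyp Z hq hK hp hf hqf).exists_perm hφ j
  have one_to_one : ∀ i : Fin 4, (∀ x, φ x ∈ xS 𝔻 i ↔ x ∈ xS 𝔻 1) → i = 1 := by
    intro i hi
    obtain ⟨j, -, hj⟩ := hex 2
    have hcj := hcard 2 j hj
    have hci := hcard 1 i hi
    have hn := mt (hmap 1 i 2 j hi hj).2 c12
    match i, j with
    | 1, _ => rfl
    | 0, 2 => exact absurd c02 hn
    | 0, 3 => exact absurd c03 hn
    | 2, _ => simp at hci
    | 3, _ => simp at hci
    | 0, 0 => simp at hcj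
    | 0, 1 => simp at hcj
  have two_to_two : ∀ j : Fin 4, (∀ x, φ x ∈ xS 𝔻 j ↔ x ∈ xS 𝔻 2) → j = 2 := by
    intro j hj
    obtain ⟨i, -, hi⟩ := hex 1
    obtain rfl := one_to_one i hi
    have hcj := hcard 2 j hj
    have hn := mt (hmap 1 1 2 j hi hj).2 c12
    match j with
    | 2 => rfl
    | 3 => exact absurd c13 hn
    | 0 => simp at hcj
    | 1 => simp at hcj
  match k with
  | 1 => exact one_to_one k' h
  | 2 => exact two_to_two k' h
  | 0 =>
    obtain ⟨j, -, hj⟩ := hex 2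
    obtain rfl := two_to_two j hj
    have hck := hcard 0 k' h
    match k' with
    | 0 => rfl
    | 1 => exact absurd ((hmap 0 1 2 2 h hj).1 c02) c12
    | 2 => simp at hck
    | 3 => simp at hck
  | 3 =>
    obtain ⟨i, -, hi⟩ := hex 1
    obtain rfl := one_to_one i hi
    have hck := hcard 3 k' h
    match k' with
    | 3 => rfl
    | 2 => exact absurd ((hmap 1 1 3 2 hi h).1 c13) c12
    | 0 => simp at hck
    | 1 => simp at hck

/-- the scalars of a conjugate of a torus element by a representative of an orbit -/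
theorem weyl {x : ↥G₁} (hx : x ∈ tS 𝔻) {a : Par F q} (ha : Acts Z (MulAut.conj x) a) {k : Fin 4}
    {b : Par F q} (hb : Acts Z (MulAut.conj (sEl 𝔻 k * x * (sEl 𝔻 k)⁻¹)) b) :
    (k = 3 → b.2.1 = a.2.2 * a.2.1) ∧
    (k = 2 → (b.1.2 : Fˣ) = a.2.1 * (a.1.2 : Fˣ) * a.2.1 ^ q) ∧
    (k = 1 → (b.1.1 : Fˣ) = (a.1.1 : Fˣ) * (a.1.2 : Fˣ)) := by
  obtain ⟨c, a', hc, ha', e0, e1, e2, e3, e4⟩ := exists_chi Z hq hK hx
  obtain ⟨cy, b', hcy, hb', f0, f1, f2, -, -⟩ :=
    exists_chi Z hq hK ((hyp Z hq hK hp hf hqf).s_conj_tS (k := k) hx)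
  obtain rfl := acts_unique Z ha ha'
  obtain rfl := acts_unique Z hb hb'
  have hcy' : (gens Z hq hK).data.nJ k * tor MT K c * ((gens Z hq hK).data.nJ k)⁻¹ =
      tor MT K cy := by
    rw [← hcy, ← hc]
    rfl
  have hchi := fun r => chi_conj Z ((gens Z hq hK).data.nJ_coset k)
    ((gens Z hq hK).split.invol k) hcy' r
  obtain ⟨s57, s44, s47⟩ := chi_sums Z c
  refine ⟨?_, ?_, ?_⟩ <;> rintro rfl
  · rw [f2, hchi, show (gens Z hq hK).data.wd 3 = fd.O.wd 3 from rfl, actw_42, s57, e2, e3]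
  · rw [f1, hchi, show (gens Z hq hK).data.wd 2 = fd.O.wd 2 from rfl, actw_39, s44, e2, e1, ← e2, e4]
  · rw [f0, hchi, show (gens Z hq hK).data.wd 1 = fd.O.wd 1 from rfl, actw_46, s47, e0, e1]

/-- A stable automorphism fixing `x_k(1)` and the orbit `2` is trivial. -/
theorem eq_one_of_fix {φ : MulAut ↥G₁} (hφ : (hyp Z hq hK hp hf hqf).Stable φ)
    (h0 : φ (oneG Z m46 (one_pow q)) = oneG Z m46 (one_pow q))
    (h1 : φ (oneG Z m39 (one_pow q)) = oneG Z m39 (one_pow q))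
    (h2 : ∀ t, φ (twoG Z p42 t) = twoG Z p42 t)
    (h3 : φ (twoG Z p56 1) = twoG Z p56 1) : φ = 1 := by
  have H := hyp Z hq hK hp hf hqf
  have hpt : ∀ {x : ↥G₁}, x ∈ tS 𝔻 → φ x ∈ tS 𝔻 := fun {x} hx => (H.pres_tS hφ.1 x).2 hx
  have himg : ∀ {x : ↥G₁} {a a' : Par F q}, Acts Z (MulAut.conj x) a →
      Acts Z (MulAut.conj (φ x)) a' →
      φ (oneG Z m46 (fixU_val a.1.1)) = oneG Z m46 (fixU_val a'.1.1) ∧
      φ (oneG Z m39 (fixU_val a.1.2)) = oneG Z m39 (fixU_val a'.1.2) ∧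
      a'.2.1 = a.2.1 ∧ φ (twoG Z p56 (a.2.2 : F)) = twoG Z p56 (a'.2.2 : F) := by
    intro x a a' ha ha'
    have key : ∀ y, φ ((MulAut.conj x) y) = MulAut.conj (φ x) (φ y) := fun y => by
      simp only [MulAut.conj_apply, map_mul, map_inv]
    refine ⟨?_, ?_, ?_, ?_⟩
    · have e := key (oneG Z m46 (one_pow q))
      rw [ha.1.1, h0, ha'.1.1] at e
      exact ((congrArg φ (oneG_congr Z _ (mul_one _).symm)).trans e).trans
        (oneG_congr Z _ (mul_one _))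
    · have e := key (oneG Z m39 (one_pow q))
      rw [ha.1.2, h1, ha'.1.2] at e
      exact ((congrArg φ (oneG_congr Z _ (mul_one _).symm)).trans e).trans
        (oneG_congr Z _ (mul_one _))
    · have e := key (twoG Z p42 1)
      rw [ha.2.1, h2, h2, ha'.2.1] at e
      exact Units.ext (by simpa using (twoG_inj Z sub42 e).symm)
    · have e := key (twoG Z p56 1)
      rw [ha.2.2, h3, ha'.2.2, mul_one, mul_one] at e
      exact e
  have hsc : ∀ {x : ↥G₁}, x ∈ tS 𝔻 → ∃ a', Acts Z (MulAut.conj (φ x)) a' := fun hx => by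
    obtain ⟨-, a', -, ha', -⟩ := exists_chi Z hq hK (hpt hx)
    exact ⟨a', ha'⟩
  -- conjugates by the representatives
  have hy : ∀ (k : Fin 4) {x : ↥G₁}, x ∈ tS 𝔻 → ∃ b b', Acts Z (MulAut.conj (sEl 𝔻 k * x * (sEl 𝔻 k)⁻¹)) b ∧
      Acts Z (MulAut.conj (sEl 𝔻 k * φ x * (sEl 𝔻 k)⁻¹)) b' ∧
      Acts Z (MulAut.conj (φ (sEl 𝔻 k * x * (sEl 𝔻 k)⁻¹))) b' := fun k {x} hx => by
    obtain ⟨-, b, -, hb, -⟩ := exists_chi Z hq hK (H.s_conj_tS (k := k) hx)
    obtain ⟨b', hb'⟩ := hsc (H.s_conj_tS (k := k) hx)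
    exact ⟨b, b', hb, by rwa [← H.map_s_conj hφ k hx], hb'⟩
  have f3 : ∀ t, φ (twoG Z p56 t) = twoG Z p56 t := by
    intro t
    rcases eq_or_ne t 0 with rfl | ht
    · have e := twoG_add Z (qpow_hom hq hK).1 p56 (0 : F) 0
      rw [add_zero, mul_eq_left] at e
      rw [e, map_one]
    obtain ⟨x, hx, a, ha, -, -, e22⟩ := exists_xB Z hq hK (Units.mk0 t ht)⁻¹
    obtain ⟨a', ha'⟩ := hsc hx
    obtain ⟨b, b', hb, hb1, hb2⟩ := hy 3 hx
    have e21 := (himg ha ha').2.2.1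
    have w := (weyl Z hq hK hp hf hqf hx ha hb).1 rfl
    have w' := (weyl Z hq hK hp hf hqf (hpt hx) ha' hb1).1 rfl
    rw [(himg hb hb2).2.2.1, w, e21] at w'
    have e := (himg ha ha').2.2.2
    rw [← mul_right_cancel w', e22, inv_inv, Units.val_mk0] at e
    exact e
  have f1 : ∀ (t : F) (ht : t ^ q = t), φ (oneG Z m39 ht) = oneG Z m39 ht := by
    intro t ht
    rcases eq_or_ne t 0 with rfl | ht0
    · rw [(oneG_eq_one Z).2 rfl, map_one]
    obtain ⟨μ, hμ⟩ := exists_norm Z hq hK (u := Units.mk0 t ht0)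
      (Units.ext (by rw [Units.val_pow_eq_pow_val]; exact ht))
    obtain ⟨x, hx, a, ha, e12, e21⟩ := exists_xA Z hq hK μ
    obtain ⟨a', ha'⟩ := hsc hx
    obtain ⟨b, b', hb, hb1, hb2⟩ := hy 2 hx
    have i12 : (a'.1.2 : Fˣ) = 1 := by
      have e := (himg ha ha').2.1
      rw [oneG_congr Z _ (ht' := one_pow q) (by rw [e12, Units.val_one]), h1] at e
      exact Units.ext (by simpa using (oneG_inj Z e).symm)
    have w := (weyl Z hq hK hp hf hqf hx ha hb).2.1 rfl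
    have w' := (weyl Z hq hK hp hf hqf (hpt hx) ha' hb1).2.1 rfl
    rw [e12, mul_one, e21, hμ] at w
    rw [(himg ha ha').2.2.1, i12, mul_one, e21, hμ] at w'
    have e := (himg hb hb2).2.1
    rwa [oneG_congr Z _ (ht' := ht) (by rw [w, Units.val_mk0]),
      oneG_congr Z _ (t := ((b'.1.2 : Fˣ) : F)) (ht' := ht) (by rw [w', Units.val_mk0])] at e
  have f0 : ∀ (t : F) (ht : t ^ q = t), φ (oneG Z m46 ht) = oneG Z m46 ht := by
    intro t ht
    rcases eq_or_ne t 0 with rfl | ht0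
    · rw [(oneG_eq_one Z).2 rfl, map_one]
    obtain ⟨μ, hμ⟩ := exists_norm Z hq hK (u := (Units.mk0 t ht0)⁻¹)
      (Units.ext (by
        rw [Units.val_pow_eq_pow_val, Units.val_inv_eq_inv_val, Units.val_mk0, inv_pow, ht]))
    obtain ⟨x, hx, a, ha, e11, e12, -⟩ := exists_xB Z hq hK μ
    rw [← mul_inv, hμ, inv_inv] at e12
    obtain ⟨a', ha'⟩ := hsc hx
    obtain ⟨b, b', hb, hb1, hb2⟩ := hy 1 hx
    have i11 : (a'.1.1 : Fˣ) = 1 := by
      have e := (himg ha ha').1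
      rw [oneG_congr Z _ (ht' := one_pow q) (by rw [e11, Units.val_one]), h0] at e
      exact Units.ext (by simpa using (oneG_inj Z e).symm)
    have i12 : (a'.1.2 : Fˣ) = a.1.2 := by
      have e := (himg ha ha').2.1
      rw [f1] at e
      exact Units.ext (oneG_inj Z e).symm
    have w := (weyl Z hq hK hp hf hqf hx ha hb).2.2 rfl
    have w' := (weyl Z hq hK hp hf hqf (hpt hx) ha' hb1).2.2 rfl
    rw [e11, one_mul, e12] at w
    rw [i11, one_mul, i12, e12] at w'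
    have e := (himg hb hb2).1
    rwa [oneG_congr Z _ (ht' := ht) (by rw [w, Units.val_mk0]),
      oneG_congr Z _ (t := ((b'.1.1 : Fˣ) : F)) (ht' := ht) (by rw [w', Units.val_mk0])] at e
  refine (hyp Z hq hK hp hf hqf).eq_one_of_fix hφ fun k a ha => ?_
  match k with
  | 0 => obtain ⟨t, ht, rfl⟩ := exists_one Z hq hK m46 rfl sub46 ha; exact f0 t ht
  | 1 => obtain ⟨t, ht, rfl⟩ := exists_one Z hq hK m39 rfl sub39 ha; exact f1 t ht
  | 2 => obtain ⟨t, rfl⟩ := exists_two Z hq hK p42 rfl sub42 ha; exact h2 t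
  | 3 => obtain ⟨t, rfl⟩ := exists_two Z hq hK p56 rfl sub56 ha; exact f3 t

theorem eq_of_acts {φ ψ : MulAut ↥G₁} (hφ : (hyp Z hq hK hp hf hqf).Stable φ)
    (hψ : (hyp Z hq hK hp hf hqf).Stable ψ) {a : Par F q} (h : Acts Z φ a) (h' : Acts Z ψ a) :
    φ = ψ := by
  have hinv : (hyp Z hq hK hp hf hqf).Stable ψ⁻¹ :=
    ⟨⟨hψ.1.1.inv, hψ.1.2.inv⟩, fun k => ⟨(hψ.2 k).1.inv, (hψ.2 k).2.inv⟩⟩
  have h1 := (hyp Z hq hK hp hf hqf).eq_one_of_fix
    ((hyp Z hq hK hp hf hqf).stable_mul hinv hφ) fun k x hx => by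
      rw [MulAut.mul_apply, agree_of_acts Z hq hK h h' k x hx, MulAut.inv_apply_self]
  exact (inv_mul_eq_one.1 h1).symm

/-- the diagonal automorphism with given scalars -/
noncomputable def dia0 (a : Par F q) : MulAut ↥G₁ :=
  (exists_acts Z (qpow_hom hq hK).2.2 a).choose

theorem dia0_spec (a : Par F q) : (hyp Z hq hK hp hf hqf).Stable (dia0 Z hq hK a) ∧
    Acts Z (dia0 Z hq hK a) a := by
  obtain ⟨h, h'⟩ := (exists_acts Z (qpow_hom hq hK).2.2 a).choose_spec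
  exact ⟨⟨⟨h _, h _⟩, fun _ => ⟨h _, h _⟩⟩, h'⟩

/-- the diagonal automorphisms -/
noncomputable def dia : Par F q →* MulAut ↥G₁ :=
  MonoidHom.mk' (dia0 Z hq hK) fun a b => by
    obtain ⟨sa, ha⟩ := dia0_spec Z hq hK hp hf hqf a
    obtain ⟨sb, hb⟩ := dia0_spec Z hq hK hp hf hqf b
    obtain ⟨sab, hab⟩ := dia0_spec Z hq hK hp hf hqf (a * b)
    exact eq_of_acts Z hq hK hp hf hqf sab ((hyp Z hq hK hp hf hqf).stable_mul sa sb) hab
      (acts_mul Z ha hb)

theorem dia_spec (a : Par F q) : (hyp Z hq hK hp hf hqf).Stable (dia Z hq hK hp hf hqf a) ∧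
    Acts Z (dia Z hq hK hp hf hqf a) a := dia0_spec Z hq hK hp hf hqf a

/-- the scalars of the torus -/
noncomputable def scal : ↥(tS 𝔻) →* Par F q :=
  MonoidHom.mk' (fun x => (exists_chi Z hq hK x.2).choose_spec.choose) fun x y => by
    refine acts_unique Z (exists_chi Z hq hK (x * y).2).choose_spec.choose_spec.2.1 ?_
    rw [Subgroup.coe_mul, map_mul]
    exact acts_mul Z (exists_chi Z hq hK x.2).choose_spec.choose_spec.2.1
      (exists_chi Z hq hK y.2).choose_spec.choose_spec.2.1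

theorem conj_eq_dia (x : ↥(tS 𝔻)) :
    MulAut.conj (x : ↥G₁) = dia Z hq hK hp hf hqf (scal Z hq hK x) :=
  eq_of_acts Z hq hK hp hf hqf ((hyp Z hq hK hp hf hqf).stable_conj x.2)
    (dia_spec Z hq hK hp hf hqf _).1 (exists_chi Z hq hK x.2).choose_spec.choose_spec.2.1
    (dia_spec Z hq hK hp hf hqf _).2

theorem scal_injective : Function.Injective (scal Z hq hK) := by
  refine (injective_iff_map_eq_one _).2 fun x hx => ?_
  have h := conj_eq_dia Z hq hK hp hf hqf x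
  rw [hx, map_one] at h
  refine Subtype.ext (Subtype.ext ?_)
  refine (gens Z hq hK).faith torOk simple_orth _
    ⟨SetLike.coe_mem _, x.2⟩ fun k a ha => ?_
  set A : ↥G₁ := ⟨a, ha.1⟩
  have e : MulAut.conj (x : ↥G₁) A = A := by rw [h]; rfl
  rw [MulAut.conj_apply, mul_inv_eq_iff_eq_mul] at e
  exact (congrArg Subtype.val e :)

theorem exists_eq (α : MulAut ↥G₁) :
    ∃ g a τ, α = MulAut.conj g * (dia Z hq hK hp hf hqf a * fAut τ) := by
  classical
  have H := hyp Z hq hK hp hf hqf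
  obtain ⟨g, hg⟩ := H.exists_normalise α
  have hst : (hyp Z hq hK hp hf hqf).Stable (MulAut.conj g * α) :=
    (hyp Z hq hK hp hf hqf).stable_of_perm hg (perm_id Z hq hK hp hf hqf hg)
  set φ := MulAut.conj g * α with hφ
  obtain ⟨a₀, ha₀, e₀⟩ := exists_one Z hq hK m46 rfl sub46
    (((hst.2 0).2 _).2 (one_mem Z hq hK m46 (k := 0) (by decide) (one_pow q)))
  obtain ⟨a₁, ha₁, e₁⟩ := exists_one Z hq hK m39 rfl sub39
    (((hst.2 1).2 _).2 (one_mem Z hq hK m39 (k := 1) (by decide) (one_pow q)))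
  obtain ⟨a₃, e₃⟩ := exists_two Z hq hK p56 rfl sub56
    (((hst.2 3).2 _).2 (two_mem Z hq hK p56 (k := 3) (by decide) (by decide) (1 : F)))
  choose A hA using fun t => exists_two Z hq hK p42 rfl sub42
    (((hst.2 2).2 (twoG Z p42 t)).2 (two_mem Z hq hK p42 (k := 2) (by decide) (by decide) t))
  have hadd : ∀ s t, A (s + t) = A s + A t := fun s t => by
    have h := congrArg φ (twoG_add Z (qpow_hom hq hK).1 p42 s t)
    rw [map_mul, hA, hA, hA, twoG_add Z (qpow_hom hq hK).1] at h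
    exact (twoG_inj Z sub42 h).symm
  have h0 : a₀ ≠ 0 := fun h => by
    rw [(oneG_eq_one Z).2 h, MulEquiv.map_eq_one_iff, oneG_eq_one Z] at e₀
    exact one_ne_zero e₀
  have h1 : a₁ ≠ 0 := fun h => by
    rw [(oneG_eq_one Z).2 h, MulEquiv.map_eq_one_iff, oneG_eq_one Z] at e₁
    exact one_ne_zero e₁
  have h3 : a₃ ≠ 0 := by
    rintro rfl
    have e := twoG_add Z (qpow_hom hq hK).1 p56 (0 : F) 0
    rw [add_zero, mul_eq_left] at e
    rw [e, MulEquiv.map_eq_one_iff, ← e] at e₃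
    exact one_ne_zero (twoG_inj Z sub56 e₃)
  have hA1 : A 1 ≠ 0 := fun h => by
    have hz : A 0 = 0 := by simpa using hadd 0 0
    have e : φ (twoG Z p42 1) = φ (twoG Z p42 0) := by rw [hA, hA, h, hz]
    exact one_ne_zero (twoG_inj Z sub42 (φ.injective e))
  obtain ⟨τ, hτ⟩ := exists_ringEquiv_of_scale (fun t => (A 1)⁻¹ * A t)
    (fun s t => by simp only [hadd]; ring) (inv_mul_cancel₀ hA1) fun a ha => by
      obtain ⟨x, hx, s, hs, -, e21⟩ := exists_xA Z hq hK (Units.mk0 a ha)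
      obtain ⟨-, s', -, hs', -⟩ := exists_chi Z hq hK ((H.pres_tS hst.1 x).2 hx)
      refine ⟨(s'.2.1 : F), fun t => ?_⟩
      have h := congrArg φ (hs.2.1 t)
      rw [MulAut.conj_apply, map_mul, map_mul, map_inv, hA, ← MulAut.conj_apply, hs'.2.1, e21,
        Units.val_mk0, hA] at h
      rw [← twoG_inj Z sub42 h]; ring
  let a : Par F q := ((⟨Units.mk0 a₀ h0, mem_fixU.2 (Units.ext (by
      rw [Units.val_pow_eq_pow_val]; exact ha₀))⟩,
    ⟨Units.mk0 a₁ h1, mem_fixU.2 (Units.ext (by rw [Units.val_pow_eq_pow_val]; exact ha₁))⟩),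
    (Units.mk0 (A 1) hA1, Units.mk0 a₃ h3))
  obtain ⟨sa, aa⟩ := dia_spec Z hq hK hp hf hqf a
  set δ := dia Z hq hK hp hf hqf a
  have sinv : (hyp Z hq hK hp hf hqf).Stable δ⁻¹ :=
    ⟨⟨sa.1.1.inv, sa.1.2.inv⟩, fun k => ⟨(sa.2 k).1.inv, (sa.2 k).2.inv⟩⟩
  have hone : δ⁻¹ * φ * fAut τ.symm = 1 := by
    refine eq_one_of_fix Z hq hK hp hf hqf (H.stable_mul (H.stable_mul sinv hst)
      (H.stable_fieldAut mapW_e6Words τ.symm)) ?_ ?_ (fun t => ?_) ?_
    all_goals rw [MulAut.mul_apply, MulAut.mul_apply]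
    all_goals apply δ.injective
    all_goals rw [MulAut.apply_inv_self]
    · obtain ⟨_, e⟩ := fAut_one Z τ.symm m46 (one_pow q)
      rw [e, oneG_congr Z _ (ht' := one_pow q) (map_one _), e₀, aa.1.1]
      exact oneG_congr Z _ (by simp [a])
    · obtain ⟨_, e⟩ := fAut_one Z τ.symm m39 (one_pow q)
      rw [e, oneG_congr Z _ (ht' := one_pow q) (map_one _), e₁, aa.1.2]
      exact oneG_congr Z _ (by simp [a])
    · rw [fAut_two, hA, aa.2.1]
      congr 1
      have h := (hτ (τ.symm t)).trans (τ.apply_symm_apply t)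
      show A (τ.symm t) = A 1 * t
      conv_rhs => rw [← h]
      rw [← mul_assoc, mul_inv_cancel₀ hA1, one_mul]
    · rw [fAut_two, map_one, e₃, aa.2.2]
      simp [a]
  have hτ' : (fAut τ.symm : MulAut ↥G₁) = (fAut τ)⁻¹ := by rw [← map_inv]; rfl
  rw [hτ', mul_inv_eq_one, inv_mul_eq_iff_eq_mul, hφ] at hone
  exact ⟨g⁻¹, a, τ, by rw [← hone, map_inv, inv_mul_cancel_left]⟩

theorem eq_of_inner {a b : Par F q} {τ τ' : F ≃+* F} {g : ↥G₁}
    (h : dia Z hq hK hp hf hqf a * fAut τ = MulAut.conj g * (dia Z hq hK hp hf hqf b * fAut τ')) :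
    τ = τ' ∧ a * b⁻¹ ∈ (scal Z hq hK).range := by
  have H := hyp Z hq hK hp hf hqf
  have hg' : MulAut.conj g = dia Z hq hK hp hf hqf a * fAut (τ * τ'⁻¹) *
      (dia Z hq hK hp hf hqf b)⁻¹ := by
    rw [eq_mul_inv_iff_mul_eq, map_mul, map_inv, ← mul_assoc, eq_mul_inv_iff_mul_eq, h, mul_assoc]
  have sb := (dia_spec Z hq hK hp hf hqf b⁻¹).1
  rw [map_inv] at sb
  have hst : (hyp Z hq hK hp hf hqf).Stable (MulAut.conj g) := hg' ▸
    H.stable_mul (H.stable_mul (dia_spec Z hq hK hp hf hqf a).1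
      (H.stable_fieldAut mapW_e6Words (τ * τ'⁻¹))) sb
  have hg := H.mem_tS_of_stable hst
  set c := scal Z hq hK ⟨g, hg⟩ with hcdef
  have hc := conj_eq_dia Z hq hK hp hf hqf ⟨g, hg⟩
  rw [hg'] at hc
  rw [mul_inv_eq_iff_eq_mul, ← map_mul, ← hcdef] at hc
  have hσ : ∀ t, (a.2.1 : F) * (τ * τ'⁻¹) t = ((c * b).2.1 : F) * t := fun t => by
    have e := DFunLike.congr_fun hc (twoG Z p42 t)
    rw [MulAut.mul_apply, fAut_two, (dia_spec Z hq hK hp hf hqf a).2.2.1,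
      (dia_spec Z hq hK hp hf hqf (c * b)).2.2.1] at e
    exact twoG_inj Z sub42 e
  have h1 : (a.2.1 : F) = ((c * b).2.1 : F) := by simpa using hσ 1
  have hσ1 : τ * τ'⁻¹ = 1 := RingEquiv.ext fun t =>
    mul_left_cancel₀ a.2.1.ne_zero ((hσ t).trans (by rw [← h1]; rfl))
  rw [hσ1, map_one, mul_one] at hc
  have hab : a = c * b := by
    have e := (dia_spec Z hq hK hp hf hqf a).2
    rw [hc] at e
    exact (acts_unique Z (dia_spec Z hq hK hp hf hqf (c * b)).2 e).symm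
  exact ⟨mul_inv_eq_one.1 hσ1, ⟨⟨g, hg⟩, by rw [hab, mul_inv_cancel_right]⟩⟩

theorem index_scal : (scal Z hq hK).range.index = Nat.gcd 3 (q + 1) := by
  have h1 : Nat.card ↥(scal Z hq hK).range = Nat.card ↥(𝔻).H1 := by
    rw [← Nat.card_congr (MonoidHom.ofInjective (scal_injective Z hq hK hp hf hqf)).toEquiv]
    exact Nat.card_congr ⟨fun x => ⟨(x.1 : ↥(chevE6.group F)), x.1.2, x.2⟩,
      fun y => ⟨⟨y.1, y.2.1⟩, y.2.2⟩, fun _ => rfl, fun _ => rfl⟩
  have h2 : Nat.card (Par F q) = ((q ^ 2 - 1) * (q - 1)) ^ 2 := by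
    rw [Nat.card_prod, Nat.card_prod, Nat.card_prod, card_fixU Z hq hK, Nat.card_units,
      Nat.card_eq_fintype_card (α := F), hK]
    ring
  have h3 := Subgroup.card_mul_index (scal Z hq hK).range
  rw [h1, h2, ← card_H1 Z hq hK, mul_comm (Nat.gcd _ _)] at h3
  refine Nat.eq_of_mul_eq_mul_left ?_ h3
  haveI : Finite ↥(𝔻).H1 := inferInstance
  exact Nat.card_pos

theorem card_out : Nat.card (Cfsg.Out ↥(twistedE6 F q)) = 2 * Nat.gcd 3 (q + 1) * f := by
  classical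
  haveI : Fact p.Prime := ⟨hp⟩
  rw [twistedE6, ← card_out_congr (G := ↥G₁) (genEquiv MT K (e6Words F q))]
  let π := QuotientGroup.mk' (Cfsg.Inn ↥G₁)
  set Q := (scal Z hq hK).range
  have hQ : Q ≤ (π.comp (dia Z hq hK hp hf hqf)).ker := by
    rintro _ ⟨x, rfl⟩
    rw [MonoidHom.mem_ker, MonoidHom.comp_apply, ← conj_eq_dia Z hq hK hp hf hqf x]
    exact (QuotientGroup.eq_one_iff _).2 ⟨(x : ↥G₁), rfl⟩
  let L := QuotientGroup.lift Q (π.comp (dia Z hq hK hp hf hqf)) hQ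
  let θ : (Par F q ⧸ Q) × (F ≃+* F) → Cfsg.Out ↥G₁ := fun x => L x.1 * π (fAut x.2)
  have hθ : ∀ a τ, θ (QuotientGroup.mk a, τ) = π (dia Z hq hK hp hf hqf a * fAut τ) := fun a τ => by
    rw [map_mul]; rfl
  have hbij : Function.Bijective θ := by
    constructor
    · rintro ⟨a, τ⟩ ⟨b, τ'⟩ e
      obtain ⟨a, rfl⟩ := QuotientGroup.mk_surjective a
      obtain ⟨b, rfl⟩ := QuotientGroup.mk_surjective b
      rw [hθ, hθ] at e
      have e' := (QuotientGroup.eq_one_iff _).1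
        (show π ((dia Z hq hK hp hf hqf a * fAut τ) * (dia Z hq hK hp hf hqf b * fAut τ')⁻¹) = 1 by
          rw [map_mul, e, map_inv, mul_inv_cancel])
      obtain ⟨g, hg⟩ := e'
      have h12 : dia Z hq hK hp hf hqf a * fAut τ =
          MulAut.conj g * (dia Z hq hK hp hf hqf b * fAut τ') := by rw [hg]; group
      obtain ⟨rfl, hab⟩ := eq_of_inner Z hq hK hp hf hqf h12
      refine Prod.ext (QuotientGroup.eq.2 ?_) rfl
      have : a⁻¹ * b = (a * b⁻¹)⁻¹ := by rw [mul_inv, inv_inv]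
      exact this ▸ Q.inv_mem hab
    · intro o
      obtain ⟨α, rfl⟩ := QuotientGroup.mk'_surjective _ o
      obtain ⟨g, a, τ, rfl⟩ := exists_eq Z hq hK hp hf hqf α
      refine ⟨(QuotientGroup.mk a, τ), ?_⟩
      have h1 : π (MulAut.conj g) = 1 := (QuotientGroup.eq_one_iff _).2 ⟨g, rfl⟩
      rw [hθ, map_mul π (MulAut.conj g), h1, one_mul]
  rw [← Nat.card_congr (Equiv.ofBijective θ hbij), Nat.card_prod,
    show Nat.card (Par F q ⧸ Q) = Q.index from rfl, index_scal Z hq hK hp hf hqf,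
    CG26.card_fieldAut p (2 * f) (by rw [hK, hqf, ← pow_mul, mul_comm])]
  ring

end Cfsg.Agent.TwistedOut.UnitaryE6
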