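import Cfsg.Agent.TwistedOut.Fi22Data

/-! Checks of the letters, generators and commutant certificate (helper97). -/

set_option autoImplicit false
set_option maxRecDepth 100000

namespace Cfsg.Agent.TwistedOut.Fi22Check

open Cfsg.Agent.ChevCore Cfsg.Agent.TwistedOut.Fi22Code Cfsg.Agent.TwistedOut.Fi22Data

theorem letters_ok : kall pieces (fun p => kall p fun e => letterB e.1.1 e.1.2 e.2) = true := by
  decide +kernel

/-- the letters of a generator -/
noncomputable def genL (l : List ℕ) : List ((ℕ × ℕ) × List (ℕ × ℕ)) := kbind (fun k => kget pieces k []) l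

theorem gens_ok : kall2 genW gens (fun l G => eqList (kmap (appW (kmap (fun e => e.2) (genL l))) oneM) G) = true := by
  decide +kernel

theorem lengths_ok : kall ([oneM, span, spanInv, MB, MC, MD, ME, MF, MH, DB, DC, DD, DE, DF, DH] ++ gens)
    (fun A => Nat.beq A.length 78) = true := by decide +kernel

theorem deltaB : addM GB oneM = DB := eq_of_eqList (by decide +kernel)

theorem deltaC : addM GC oneM = DC := eq_of_eqList (by decide +kernel)

theorem deltaD : addM GD oneM = DD := eq_of_eqList (by decide +kernel)

theorem deltaE : addM GE oneM = DE := eq_of_eqList (by decide +kernel)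

theorem deltaF : addM GF oneM = DF := eq_of_eqList (by decide +kernel)

theorem deltaH : addM GH oneM = DH := eq_of_eqList (by decide +kernel)

/-- the projection along the common fixed vector -/
noncomputable def projM : List ℕ :=
  ktab 78 fun b => Nat.xor (Nat.shiftLeft 1 b) (scal (kget phi b 0) v0)

theorem proj_ok : addM (cmul MB DB) (addM (cmul MC DC) (addM (cmul MD DD) (addM (cmul ME DE)
    (addM (cmul MF DF) (cmul MH DH))))) = projM := eq_of_eqList (by decide +kernel)

theorem fixed_ok : kall [GB, GC, GD, GE, GF, GH] (fun G => Nat.beq (app G v0) v0) = true := by decide +kernel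

theorem phi_ok : kall phi (fun c => Nat.blt c 4) = true := by decide +kernel

theorem tree_ok : (Nat.beq (kget span 0 0) v0 && kallUpTo 77 (fun i =>
    Nat.blt (kget spanTree i (0, 0)).2 (i + 1) && Nat.blt 0 (kget spanTree i (0, 0)).1 &&
    Nat.blt (kget spanTree i (0, 0)).1 9 &&
    Nat.beq (kget span (i + 1) 0)
      (app (kget gens (kget spanTree i (0, 0)).1 []) (kget span (kget spanTree i (0, 0)).2 0)))) = true := by
  decide +kernel

theorem span_ok : cmul span spanInv = oneM := eq_of_eqList (by decide +kernel)

theorem ne_one : eqList GA oneM = false := by decide +kernel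

end Cfsg.Agent.TwistedOut.Fi22Check
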