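import Cfsg.Agent.TwistedOut.Fi22Rel
import Cfsg.Agent.TwistedOut.Fi22Check6
import Cfsg.Agent.Twisted.Groups.E6Inst
import Cfsg.Agent.TwistedOut.UnitaryE6

/-!
The homomorphism from `Fi₂₂` to `²E₆(2)` and the commutant of its image (helper97).
-/

set_option autoImplicit false
set_option linter.unusedSectionVars false
set_option maxRecDepth 100000

namespace Cfsg.Agent.TwistedOut.Fi22Hom

open Matrix (vecMulVec)
open scoped Matrix

open Cfsg.Lie Cfsg.Agent.ChevCore Cfsg.Agent.ChevGroup Cfsg.Agent.ChevIsogeny Cfsg.Agent.Twisted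
open Cfsg.Agent.Twisted.TypeE6 Cfsg.Spor
open Cfsg.Agent.TwistedOut.Fi22Code Cfsg.Agent.TwistedOut.Fi22Data Cfsg.Agent.TwistedOut.Fi22Check
open Cfsg.Agent.TwistedOut.Fi22Rel

universe u

variable {F : Type u} [Field F] [Fintype F] [CharP F 2] {ω : F}

/-- the number of a generator -/
def num : Fi22.Gen → ℕ
  | .a => 0 | .b => 1 | .c => 2 | .d => 3 | .e => 4 | .f => 5 | .g => 6 | .h => 7 | .i => 8

theorem gMat_eq (ω : F) (x : Fi22.Gen) : gMat ω x = evM ω (gens.getD (num x) []) := by
  cases x <;> rfl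

/-- the coded letters of a piece are a generating word -/
noncomputable def pieceB (P : List ((ℕ × ℕ) × List (ℕ × ℕ))) : Bool :=
  List.rec false (fun e P' _ => List.rec (Nat.beq e.1.2 1 && kany [e6p2, e6m2, e6p4, e6m4] (Nat.beq e.1.1))
    (fun e' P'' _ => P''.isEmpty && Nat.blt e.1.2 4 && Nat.beq e'.1.2 (mul4 e.1.2 e.1.2) &&
      kany [(e6p1, e6p6), (e6m1, e6m6), (e6p3, e6p5), (e6m3, e6m5)]
        (fun rs => Nat.beq e.1.1 rs.1 && Nat.beq e'.1.1 rs.2)) P') P

theorem pieces_ok : kall pieces pieceB = true := by decide +kernel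

/-- the word of coded letters -/
noncomputable def toWord (ω : F) (P : List ((ℕ × ℕ) × List (ℕ × ℕ))) : List (ℕ × F) :=
  P.map fun e => (e.1.1, sev ω e.1.2)

theorem piece_mem (h : Four F ω) {P : List ((ℕ × ℕ) × List (ℕ × ℕ))} (hP : pieceB P = true) :
    toWord ω P ∈ e6Words F 2 := by
  match P, hP with
  | [e], hP =>
    simp only [pieceB, Bool.and_eq_true, Nat.beq_eq, kany_iff] at hP
    obtain ⟨ht, r, hr, hrr⟩ := hP
    exact Or.inl ⟨1, one_pow 2, r, hr, by simp [toWord, ht, hrr, sev, bitF, show Nat.testBit 1 1 = false from rfl]⟩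
  | [e, e'], hP =>
    simp only [pieceB, Bool.and_eq_true, Nat.beq_eq, kany_iff, Nat.blt_eq] at hP
    obtain ⟨⟨⟨-, ht⟩, ht'⟩, rs, hrs, h1, h2⟩ := hP
    exact Or.inr ⟨sev ω e.1.2, rs, hrs, by simp [toWord, ht', h1, h2, h.sev_mul4 ht ht, pow_two]⟩
  | e :: e' :: e'' :: t, hP => simp [pieceB] at hP

theorem piece_get_mem (h : Four F ω) {k : ℕ} (hk : k < pieces.length) :
    toWord ω (kget pieces k []) ∈ e6Words F 2 := by
  refine piece_mem h ?_
  rw [kget_eq, List.getD_eq_getElem _ _ hk]
  exact (kall_iff _ _).1 pieces_ok _ (List.getElem_mem hk)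

theorem genW_lt : kall genW (fun l => kall l fun k => Nat.blt k pieces.length) = true := by decide +kernel

theorem genW_length : genW.length = 9 := rfl

theorem num_lt (x : Fi22.Gen) : num x < 9 := by cases x <;> decide

theorem piece_lt {x : Fi22.Gen} {k : ℕ} (hk : k ∈ genW.getD (num x) []) : k < pieces.length := by
  have hl : num x < genW.length := num_lt x
  rw [List.getD_eq_getElem _ _ hl] at hk
  exact Nat.blt_eq.mp ((kall_iff _ _).1 ((kall_iff _ _).1 genW_lt _ (List.getElem_mem hl)) k hk)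

theorem kall2_get {α β : Type} {p : α → β → Bool} : ∀ {A : List α} {B : List β}, kall2 A B p = true →
    ∀ (i : ℕ) (a : α) (b : β), i < A.length → p (A.getD i a) (B.getD i b) = true
  | [], _, _, i, _, _, hi => absurd hi (Nat.not_lt_zero i)
  | x :: A, [], h, _, _, _, _ => by simp [kall2] at h
  | x :: A, y :: B, h, i, a, b, hi => by
    have h' : (p x y && kall2 A B p) = true := h
    rw [Bool.and_eq_true] at h'
    cases i with
    | zero => exact h'.1
    | succ i => exact kall2_get h'.2 i a b (Nat.lt_of_succ_lt_succ hi)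

theorem wordMat_gen (h : Four F ω) (x : Fi22.Gen) :
    chevE6.wordMat F (toWord ω (genL (genW.getD (num x) []))) = gMat ω x := by
  have hL : Letters (genL (genW.getD (num x) [])) := by
    intro e he
    rw [genL, kbind_eq, List.mem_flatMap] at he
    obtain ⟨k, hk, he⟩ := he
    have hk' := piece_lt hk
    rw [kget_eq, List.getD_eq_getElem _ _ hk'] at he
    exact (kall_iff _ _).1 ((kall_iff _ _).1 letters_ok _ (List.getElem_mem hk')) e he
  have e := eq_of_eqList (kall2_get gens_ok (num x) [] [] (num_lt x))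
  rw [gMat_eq, ← e, kmap_eq (fun e : (ℕ × ℕ) × List (ℕ × ℕ) => e.2)]
  exact (rep_cols (rep_word h hL)).symm

set_option quotPrecheck false in
local notation "G₁" => genG MT (relsOfCommGood commGoodE6 F) (e6Words F 2)

/-- the image of a generator -/
noncomputable def gen (h : Four F ω) (x : Fi22.Gen) : ↥G₁ :=
  ⟨wv MT (relsOfCommGood commGoodE6 F) (toWord ω (genL (genW.getD (num x) []))), by
    rw [genL, kbind_eq, toWord, List.map_flatMap, wv, List.map_flatMap, List.flatMap,
      List.prod_flatten, List.map_map]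
    refine Subgroup.list_prod_mem _ ?_
    intro y hy
    obtain ⟨k, hk, rfl⟩ := List.mem_map.1 hy
    exact wv_mem (piece_get_mem h (piece_lt hk))⟩

/-- the matrix of an element -/
noncomputable def matHom : ↥G₁ →* Matrix chevE6.Idx chevE6.Idx F :=
  (Units.coeHom _).comp ((chevE6.group F).subtype.comp (genG MT (relsOfCommGood commGoodE6 F) (e6Words F 2)).subtype)

theorem matHom_injective : Function.Injective (matHom (F := F)) := fun _ _ e =>
  Subtype.ext (Subtype.ext (Units.ext e))

theorem matHom_gen (h : Four F ω) (x : Fi22.Gen) : matHom (gen h x) = gMat ω x :=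
  (mat_wv (T := MT) (K := relsOfCommGood commGoodE6 F) _).trans (wordMat_gen h x)

theorem kills (h : Four F ω) :
    ∀ r ∈ coxRelators Fi22.edges ∪ {r | r ∈ Fi22.extra}, FreeGroup.lift (gen h) r = 1 := by
  rintro r (⟨x, -, y, -, rfl⟩ | hr)
  · refine matHom_injective ?_
    simp only [map_pow, map_mul, FreeGroup.lift_apply_of, map_one, matHom_gen]
    exact pair h x y
  · refine matHom_injective ?_
    simp only [Fi22.extra, Set.mem_setOf_eq, List.mem_cons, List.not_mem_nil, or_false] at hr
    rcases hr with rfl | rfl | rfl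
    all_goals simp only [Fi22.a, Fi22.b, Fi22.c, Fi22.d, Fi22.e, Fi22.f, Fi22.g, Fi22.h, Fi22.i, map_pow,
      map_mul, FreeGroup.lift_apply_of, map_one, matHom_gen]
    exacts [extra0 h, extra1 h, extra2 h]

/-- `Fi₂₂` in `²E₆(2)` -/
noncomputable def hom (h : Four F ω) : Fi22 →* ↥G₁ := PresentedGroup.toGroup (kills h)

theorem hom_of (h : Four F ω) (x : Fi22.Gen) : hom h (PresentedGroup.of x) = gen h x :=
  PresentedGroup.toGroup.of _

/-! ### the commutant of `b, …, i` -/

theorem length_ok {A : List ℕ}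
    (hA : A ∈ [oneM, Fi22Data.span, spanInv, MB, MC, MD, ME, MF, MH, DB, DC, DD, DE, DF, DH] ++ Fi22Data.gens) :
    A.length = 78 :=
  Nat.eq_of_beq_eq_true ((kall_iff _ _).1 lengths_ok A hA)

theorem fixed_mul (h : Four F ω) {G : List ℕ} (hG : G ∈ Fi22Data.gens)
    (hfix : G ∈ [GB, GC, GD, GE, GF, GH]) : evM ω G *ᵥ ev ω v0 = ev ω v0 := by
  rw [← h.ev_app (length_ok (List.mem_append_right _ hG)),
    Nat.eq_of_beq_eq_true ((kall_iff _ _).1 fixed_ok G hfix)]

/-- A matrix commuting with `b, …, i` is a scalar. -/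
theorem scalar_of_commute (h : Four F ω) {M : Matrix chevE6.Idx chevE6.Idx F}
    (hM : ∀ x : Fi22.Gen, x ≠ .a → M * gMat ω x = gMat ω x * M) : ∃ c : F, M = c • 1 := by
  set u := M *ᵥ ev ω v0 with hu
  have key : ∀ (x : Fi22.Gen) (G D : List ℕ), x ≠ .a → gMat ω x = evM ω G → addM G oneM = D →
      G ∈ Fi22Data.gens → G ∈ [GB, GC, GD, GE, GF, GH] → evM ω D *ᵥ u = 0 := by
    intro x G D hx hxG hD hG hfix
    rw [← hD, h.evM_addM (length_ok (List.mem_append_right _ hG)) oneM_length, evM_oneM,
      Matrix.add_mulVec, Matrix.one_mulVec]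
    have e : evM ω G *ᵥ u = u := by
      rw [hu, Matrix.mulVec_mulVec, ← hxG, ← hM x hx, ← Matrix.mulVec_mulVec, hxG, fixed_mul h hG hfix]
    rw [e]
    funext a
    exact (CharTwo.add_self_eq_zero (u a))
  have kB := key .b GB DB (by decide) rfl deltaB (by simp [Fi22Data.gens]) (by simp)
  have kC := key .c GC DC (by decide) rfl deltaC (by simp [Fi22Data.gens]) (by simp)
  have kD := key .d GD DD (by decide) rfl deltaD (by simp [Fi22Data.gens]) (by simp)
  have kE := key .e GE DE (by decide) rfl deltaE (by simp [Fi22Data.gens]) (by simp)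
  have kF := key .f GF DF (by decide) rfl deltaF (by simp [Fi22Data.gens]) (by simp)
  have kH := key .h GH DH (by decide) rfl deltaH (by simp [Fi22Data.gens]) (by simp)
  have lM : ∀ {A}, A ∈ [MB, MC, MD, ME, MF, MH, DB, DC, DD, DE, DF, DH] → A.length = 78 := fun hA =>
    length_ok (List.mem_append_left _ (List.mem_cons_of_mem _ (List.mem_cons_of_mem _ (List.mem_cons_of_mem _ hA))))
  have hP : evM ω projM *ᵥ u = 0 := by
    have lC : ∀ A B : List ℕ, B.length = 78 → (cmul A B).length = 78 := fun A B hB => by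
      rw [cmul_length, hB]
    have l1 := lC MB DB (lM (by simp))
    have l2 := lC MC DC (lM (by simp))
    have l3 := lC MD DD (lM (by simp))
    have l4 := lC ME DE (lM (by simp))
    have l5 := lC MF DF (lM (by simp))
    have l6 := lC MH DH (lM (by simp))
    rw [← proj_ok, h.evM_addM l1 (addM_length l2 (addM_length l3 (addM_length l4 (addM_length l5 l6)))),
      h.evM_addM l2 (addM_length l3 (addM_length l4 (addM_length l5 l6))),
      h.evM_addM l3 (addM_length l4 (addM_length l5 l6)), h.evM_addM l4 (addM_length l5 l6),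
      h.evM_addM l5 l6, h.evM_cmul (lM (by simp)) (lM (by simp)), h.evM_cmul (lM (by simp)) (lM (by simp)),
      h.evM_cmul (lM (by simp)) (lM (by simp)), h.evM_cmul (lM (by simp)) (lM (by simp)),
      h.evM_cmul (lM (by simp)) (lM (by simp)), h.evM_cmul (lM (by simp)) (lM (by simp))]
    simp only [Matrix.add_mulVec, ← Matrix.mulVec_mulVec, kB, kC, kD, kE, kF, kH, Matrix.mulVec_zero,
      add_zero]
  set φ : chevE6.Idx → F := fun b => sev ω (phi.getD (code chevE6 b) 0) with hφ
  have hproj : evM ω projM = 1 + Matrix.vecMulVec (ev ω v0) φ := by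
    ext a b
    have hb := code_lt78 b
    have hc : phi.getD (code chevE6 b) 0 < 4 := by
      rcases Nat.lt_or_ge (code chevE6 b) phi.length with hl | hl
      · rw [List.getD_eq_getElem _ _ hl]
        exact Nat.blt_eq.mp ((kall_iff _ _).1 phi_ok _ (List.getElem_mem hl))
      · rw [List.getD_eq_default _ _ hl]; decide
    show ev ω (projM.getD (code chevE6 b) 0) a = _
    rw [projM, ktab_eq, List.getD_eq_getElem _ _ (by simpa using hb), List.getElem_map, List.getElem_range,
      kget_eq, h.ev_xor, h.ev_scal hc, show Nat.shiftLeft 1 (code chevE6 b) = 1 <<< code chevE6 b from rfl,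
      ev_single]
    simp [Matrix.vecMulVec_apply, Matrix.one_apply, Pi.single_apply, hφ, mul_comm]
  set l := φ ⬝ᵥ u with hl
  have hu0 : u = l • ev ω v0 := by
    rw [hproj, Matrix.add_mulVec, Matrix.one_mulVec, Matrix.vecMulVec_mulVec] at hP
    funext a
    have e := congrFun hP a
    simp only [Pi.add_apply, Pi.smul_apply, Pi.zero_apply, MulOpposite.smul_eq_mul_unop, MulOpposite.unop_op] at e
    rw [Pi.smul_apply, smul_eq_mul, mul_comm]
    exact CharTwo.add_eq_zero.1 e
  have ht := tree_ok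
  rw [Bool.and_eq_true, kallUpTo_iff] at ht
  obtain ⟨h0, ht⟩ := ht
  have hs : ∀ k, k < 78 → M *ᵥ ev ω (Fi22Data.span.getD k 0) = l • ev ω (Fi22Data.span.getD k 0) := by
    intro k
    induction k using Nat.strong_induction_on with
    | _ k ih =>
      intro hk
      rcases k with _ | i
      · rw [← kget_eq, Nat.eq_of_beq_eq_true h0]; exact hu0
      · have hi := ht i (Nat.lt_of_succ_lt_succ hk)
        simp only [Bool.and_eq_true, Nat.blt_eq, kget_eq] at hi
        obtain ⟨⟨⟨hp, hg0⟩, hg⟩, he⟩ := hi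
        set j := (spanTree.getD i (0, 0)).1
        set p := (spanTree.getD i (0, 0)).2
        obtain ⟨x, hx⟩ : ∃ x, num x = j := by
          have : ∀ j, j < 9 → ∃ x, num x = j := by
            intro j hj
            interval_cases j
            exacts [⟨.a, rfl⟩, ⟨.b, rfl⟩, ⟨.c, rfl⟩, ⟨.d, rfl⟩, ⟨.e, rfl⟩, ⟨.f, rfl⟩, ⟨.g, rfl⟩, ⟨.h, rfl⟩,
              ⟨.i, rfl⟩]
          exact this j hg
        have hxa : x ≠ .a := fun e => by subst e; rw [← hx] at hg0; exact lt_irrefl 0 hg0
        have hjl : j < Fi22Data.gens.length := hg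
        rw [Nat.eq_of_beq_eq_true he,
          h.ev_app (length_ok (List.mem_append_right _ (by
            rw [List.getD_eq_getElem _ _ hjl]; exact List.getElem_mem hjl))),
          ← hx, ← gMat_eq, Matrix.mulVec_mulVec, hM x hxa, ← Matrix.mulVec_mulVec,
          ih p hp (lt_trans hp hk), Matrix.mulVec_smul]
  have hMS : M * evM ω Fi22Data.span = l • evM ω Fi22Data.span := by
    ext a b
    exact congrFun (hs (code chevE6 b) (code_lt78 b)) a
  have hinv : evM ω Fi22Data.span * evM ω spanInv = 1 := by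
    rw [← h.evM_cmul (length_ok (by simp)) (length_ok (by simp)), span_ok, evM_oneM]
  exact ⟨l, by rw [← Matrix.mul_one M, ← hinv, ← Matrix.mul_assoc, hMS, Matrix.smul_mul, hinv]⟩

theorem hom_ne_one (h : Four F ω) : hom h ≠ 1 := by
  intro e
  have hg : ∀ x, gMat ω x = 1 := fun x => by
    rw [← matHom_gen h, ← hom_of, e, MonoidHom.one_apply, map_one]
  obtain ⟨c, hc⟩ := scalar_of_commute h (M := Matrix.single (Sum.inl ⟨0, by decide⟩) (Sum.inl ⟨1, by decide⟩) (1 : F))
    (fun x _ => by rw [hg, Matrix.mul_one, Matrix.one_mul])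
  have := congrFun (congrFun hc (Sum.inl ⟨0, by decide⟩)) (Sum.inl ⟨1, by decide⟩)
  simp at this

end Cfsg.Agent.TwistedOut.Fi22Hom
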