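import Cfsg.Agent.TwistedOut.E6SubIrr
import Cfsg.Agent.TwistedOut.Fi22Hom
import Cfsg.Agent.SporB.Fi22.Main

/-!
Three classes of images in `²E₆(2)` of subgroups of `Fi₂₂` that contain `b, …, i` (helper97).
-/

set_option autoImplicit false
set_option maxRecDepth 4000

namespace Cfsg.Agent.TwistedOut.Fi22Three

open Cfsg.Lie Cfsg.Agent.ChevCore Cfsg.Agent.ChevGroup Cfsg.Agent.ChevIsogeny Cfsg.Agent.Twisted
open Cfsg.Agent.Twisted.TypeE6 Cfsg.Agent.TwistedOut

universe u

theorem exists_omega {K : Type u} [Field K] [Fintype K] (hK : Fintype.card K = 4) :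
    ∃ ω : K, Fi22Code.Four K ω := by
  classical
  have h2 : (2 : K) = 0 := by
    have h : ((4 : ℕ) : K) = 0 := hK ▸ Nat.cast_card_eq_zero K
    push_cast at h
    exact mul_self_eq_zero.mp (by linear_combination h)
  obtain ⟨x, hx⟩ : ∃ x : K, x ∉ ({0, 1} : Finset K) := by
    by_contra! hall
    have := Finset.card_le_card (fun x _ => hall x : (Finset.univ : Finset K) ⊆ {0, 1})
    rw [Finset.card_univ, hK] at this
    exact absurd (this.trans Finset.card_le_two) (by norm_num)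
  simp only [Finset.mem_insert, Finset.mem_singleton, not_or] at hx
  have h3 : x ^ 3 = 1 := by
    have := FiniteField.pow_card_sub_one_eq_one x hx.1
    rwa [hK] at this
  refine ⟨x, h2, (mul_eq_zero.mp ?_).resolve_left (sub_ne_zero.mpr hx.2)⟩
  linear_combination h3

theorem three {K : Type u} [Field K] [Fintype K] (hK : Fintype.card K = 4)
    (L₀ : Subgroup Cfsg.Spor.Fi22) (hL₀ : ∀ x, x ≠ .a → PresentedGroup.of x ∈ L₀)
    (hout : Nat.card (Cfsg.Out ↥L₀) = 2) :
    ∃ H : Fin 3 → Subgroup (twistedE6 K 2), (∀ i, Nonempty (↥(H i) ≃* ↥L₀)) ∧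
      ∀ i j, i ≠ j → ∀ g : twistedE6 K 2, (H i).map (MulAut.conj g).toMonoidHom ≠ H j := by
  have hK' : Fintype.card K = 2 ^ 2 := by rw [hK]; norm_num
  haveI : CharP K 2 := charP_of_card_eq_prime_pow hK'
  obtain ⟨ω, hω⟩ := exists_omega hK
  let φ := Fi22Hom.hom hω
  haveI : IsSimpleGroup Cfsg.Spor.Fi22 := CosetEnum.Fi22.simple
  have hφ : Function.Injective φ := by
    rw [← MonoidHom.ker_eq_bot_iff]
    refine (IsSimpleGroup.eq_bot_or_eq_top_of_normal φ.ker inferInstance).resolve_right fun e => ?_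
    exact Fi22Hom.hom_ne_one hω (MonoidHom.ext fun x => MonoidHom.mem_ker.1 (e ▸ Subgroup.mem_top x))
  let e₀ : ↥(L₀.map φ) ≃* ↥L₀ := (L₀.equivMapOfInjective φ hφ).symm
  have hi := UnitaryE6.index_scal (frame₀ (F := K) Nat.prime_two.isPrimePow hK')
    Nat.prime_two.isPrimePow hK' Nat.prime_two le_rfl (pow_one 2).symm
  obtain ⟨H, hH, hne⟩ := UnitaryE6.exists_three_irr (frame₀ (F := K) Nat.prime_two.isPrimePow hK')
    Nat.prime_two.isPrimePow hK' Nat.prime_two le_rfl (pow_one 2).symm (by rw [hi]; rfl)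
    (L := L₀.map φ)
    (fun M hM => Fi22Hom.scalar_of_commute hω fun x hx => by
      have h := hM _ ⟨PresentedGroup.of x, hL₀ x hx, Fi22Hom.hom_of hω x⟩
      rwa [← Fi22Hom.matHom_gen hω])
    ((card_out_congr2 e₀).trans hout)
  let E : ↥(genG MT (relsOfCommGood commGoodE6 K) (e6Words K 2)) ≃* ↥(twistedE6 K 2) :=
    genEquiv MT (relsOfCommGood commGoodE6 K) (e6Words K 2)
  refine ⟨fun i => (H i).map E.toMonoidHom, fun i => ?_, fun i j hij g he => ?_⟩
  · obtain ⟨ei⟩ := hH i
    exact ⟨((H i).equivMapOfInjective E.toMonoidHom E.injective).symm.trans (ei.trans e₀)⟩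
  · obtain ⟨g, rfl⟩ := E.surjective g
    refine hne i j hij g (Subgroup.map_injective (f := E.toMonoidHom) E.injective ?_)
    dsimp only at he
    rw [← he, Subgroup.map_map, Subgroup.map_map]
    congr 1

end Cfsg.Agent.TwistedOut.Fi22Three
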