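import Cfsg.Agent.TwistedOut.UnitaryE6
import Cfsg.Agent.Twisted.Groups.E6Inst
import Cfsg.Agent.Twisted.Fixed
import Cfsg.Agent.Twisted.Fold.Equiv
import Cfsg.Agent.ChevAut.Types

/-!
Three classes of subgroups `F₄(2)` in `²E₆(2)`, permuted by the diagonal automorphisms (helper97).
-/

set_option autoImplicit false
set_option linter.unusedSectionVars false
set_option maxRecDepth 4000

namespace Cfsg.Agent.TwistedOut

open Cfsg.Lie Cfsg.Agent.ChevGroup Cfsg.Agent.ChevIsogeny Cfsg.Agent.Twisted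

/-- `Out` does not depend on the copy of the group. -/
theorem card_out_congr2 {G : Type*} {H : Type*} [Group G] [Group H] (e : G ≃* H) :
    Nat.card (Cfsg.Out G) = Nat.card (Cfsg.Out H) := by
  refine Nat.card_congr (QuotientGroup.congr _ _ (MulAut.congr e) ?_).toEquiv
  ext β
  constructor
  · rintro ⟨_, ⟨g, rfl⟩, rfl⟩
    exact ⟨e g, by ext x; simp⟩
  · rintro ⟨h, rfl⟩
    exact ⟨MulAut.conj (e.symm h), ⟨e.symm h, rfl⟩, by ext x; simp⟩

/-- with two outer classes every square is inner -/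
theorem exists_sq_inner {G : Type*} [Group G] (hc : Nat.card (Cfsg.Out G) = 2) (α : MulAut G) :
    ∃ h, α * α = MulAut.conj h := by
  haveI : Finite (Cfsg.Out G) := Nat.finite_of_card_ne_zero (by omega)
  have h1 : (QuotientGroup.mk α : Cfsg.Out G) ^ Nat.card (Cfsg.Out G) = 1 := pow_card_eq_one'
  rw [hc, pow_two, ← QuotientGroup.mk_mul, QuotientGroup.eq_one_iff] at h1
  obtain ⟨h, hh⟩ := h1
  exact ⟨h, hh.symm⟩

namespace Hyp

variable {Φ I : Type*} {G : Type*} [Group G] {F : Type*} [Field F] {S : RootIdx Φ I}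
  {R : RootRel G F S} {G₁ : Subgroup G} {κ : Type*} {D : Data R G₁ κ}
  {ι : Type*} [Fintype ι] [DecidableEq ι] {M : Shape R ι} {W0 : List κ} {p : ℕ}
  (h : Hyp D M W0 p)

include h

theorem bS_conj_oS {k : κ} {b x : ↥G₁} (hb : b ∈ bS D) (hx : x ∈ oS D k) :
    b * x * b⁻¹ ∈ oS D k := by
  obtain ⟨u, hu, t, ht, rfl⟩ := h.exists_ut hb
  obtain ⟨a, ha, c, hc, rfl⟩ := h.exists_ac k hu
  have h1 : t * x * t⁻¹ ∈ oS D k := h.tS_conj _ ht hx
  have h2 : c * (t * x * t⁻¹) * c⁻¹ ∈ oS D k := mul_mem (mul_mem hc h1) (inv_mem hc)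
  rw [show a * c * t * x * (a * c * t)⁻¹ = a * (c * (t * x * t⁻¹) * c⁻¹) * a⁻¹ by group]
  exact D.Uk_conj_Uo k (a := (a : G)) ha h2

theorem not_mem_oS {k : κ} {b u : ↥G₁} (hb : b ∈ bS D) (hu : u ∈ xS D k) (hu1 : u ≠ 1) :
    b⁻¹ * u * b ∉ oS D k := fun hv => by
  have h1 := h.bS_conj_oS hb hv
  rw [show b * (b⁻¹ * u * b) * b⁻¹ = u by group] at h1
  exact hu1 (Subtype.ext (D.Uk_inter_Uo M k (g := (u : G)) hu h1))

variable [Fintype κ] [Finite Φ] (hneg : ∀ r, S.pos (S.neg r) → S.pos (S.neg (D.ρ r)))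
  (hcomm : ∀ k r, D.ρ (S.actw (D.wd k) r) = S.actw (D.wd k) (D.ρ r))
  (hcov : ∀ i, ∃ k, S.simple i ∈ D.cls k)
  (horb : ∀ k, ∀ r ∈ D.cls k, ∀ s ∈ D.cls k, s = r ∨ s = D.ρ r ∨ s = D.ρ (D.ρ r))

include hneg hcomm hcov horb in
/-- An element of `U` that a word moves into `U` avoids the orbits that the word inverts. -/
theorem mem_oS_of_flip {k : κ} {W : List κ}
    (hW : ∀ r ∈ D.cls k, S.pos (S.neg (S.actw (D.aw W).reverse r))) {v : ↥G₁} (hv : v ∈ uS D)
    (hv' : (⟨D.nW W, D.nW_mem W⟩ : ↥G₁)⁻¹ * v * (⟨D.nW W, D.nW_mem W⟩ : ↥G₁) ∈ uS D) :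
    v ∈ oS D k := by
  have hwd : ∀ j r, S.actw (D.wd j).reverse r = S.actw (D.wd j) r := fun j r => by
    conv_lhs => rw [← h.split.invol j r]
    rw [S.actw_reverse']
  have hρ : ∀ (X : List κ) r, D.ρ (S.actw (D.aw X).reverse r) = S.actw (D.aw X).reverse (D.ρ r) := by
    intro X
    induction X with
    | nil => simp
    | cons j X ih => intro r; rw [D.actw_aw_cons_rev, D.actw_aw_cons_rev, ih, hwd, hwd, hcomm]
  obtain ⟨W', hred, hperm⟩ :=
    D.exists_red_word hneg h.split.invol hcomm hcov horb (D.aw (W ++ W0)).reverse (hρ _)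
  have hfwd : ∀ r, S.actw (D.aw W') r = S.actw (D.aw (W ++ W0)) r := fun r => by
    have e := hperm (S.actw (D.aw (W ++ W0)) r)
    rw [S.actw_reverse'] at e
    conv_lhs => rw [← e]
    rw [S.actw_reverse]
  have ht := D.mem_H1_of_perm hfwd
  have h1 : (D.nW (W ++ W0))⁻¹ * (v : G) * D.nW (W ++ W0) ∈ Twisted.V R := by
    have h2 := (D.nW_coset W0).inv_conj_Sg R (T' := fun r => S.pos (S.neg r)) h.long.2
      (u := (D.nW W)⁻¹ * (v : G) * D.nW W) hv'
    rw [D.nW_append, show (D.nW W * D.nW W0)⁻¹ * (v : G) * (D.nW W * D.nW W0) =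
      (D.nW W0)⁻¹ * ((D.nW W)⁻¹ * (v : G) * D.nW W) * D.nW W0 by group]
    exact h2
  have h2 : (D.nW W')⁻¹ * (v : G) * D.nW W' ∈ Twisted.V R := by
    have h3 := H_conj_Sg R (h := ((D.nW (W ++ W0))⁻¹ * D.nW W')⁻¹)
      (u := (D.nW (W ++ W0))⁻¹ * (v : G) * D.nW (W ++ W0)) (inv_mem ht.2) h1
    rw [show (D.nW W')⁻¹ * (v : G) * D.nW W' = ((D.nW (W ++ W0))⁻¹ * D.nW W')⁻¹ *
      ((D.nW (W ++ W0))⁻¹ * (v : G) * D.nW (W ++ W0)) * ((D.nW (W ++ W0))⁻¹ * D.nW W')⁻¹⁻¹ by group]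
    exact h3
  refine D.Sg_Inv_le_Uo (W := W') ?_ (D.mem_Inv M W' hred (v : G) hv h2)
  intro r hr
  rw [hperm, D.aw_append, List.reverse_append, S.actw_append]
  have h4 := h.long.2 _ (hW r hr)
  rwa [S.actw_neg, S.neg_neg] at h4

include hneg hcomm hcov horb in
/-- An element moving, for each orbit, an element of its root group into the same root group lies in `B`. -/
theorem mem_bS_of_fix {g : ↥G₁} (hu : ∀ k, ∃ u ∈ xS D k, u ≠ 1 ∧ g⁻¹ * u * g ∈ xS D k) :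
    g ∈ bS D := by
  obtain ⟨W, b, hb, b', hb', rfl⟩ := h.exists_bw g
  set n : ↥G₁ := ⟨D.nW W, D.nW_mem W⟩ with hn
  have hkeep : ∀ r, S.pos r → S.pos (S.actw (D.aw W).reverse r) := by
    refine h.keep W fun k => (h.split.dich k W).resolve_right fun hflip => ?_
    obtain ⟨u, hu0, hu1, hu2⟩ := hu k
    refine h.not_mem_oS hb hu0 hu1 (h.mem_oS_of_flip hneg hcomm hcov horb hflip ?_ ?_)
    · have := h.bS_conj_uS (inv_mem hb) (h.xS_le_uS k hu0)
      rwa [inv_inv] at this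
    · have := h.bS_conj_uS hb' (h.xS_le_uS k hu2)
      convert this using 1
      rw [← hn]
      group
  obtain ⟨t, ht, e⟩ := D.nW_coset W
  have hnH : D.nW W ∈ R.H := by
    rw [e]
    refine mul_mem ht (nw_mem_H_of_pos R (fun r hr => ?_) D.x_ne D.x_sep)
    refine (S.pos_or_neg _).resolve_right fun hp => ?_
    have := hkeep _ hp
    rw [S.actw_neg, S.actw_reverse'] at this
    exact S.not_pos_neg _ hr this
  exact mul_mem (mul_mem hb (h.tS_le_bS (x := n) hnH)) hb'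

end Hyp

namespace UnitaryE6

open Cfsg.Agent.Twisted.TypeE6

theorem cov_ok : ∀ j : Fin MT.tab.l, ∃ k : Fin 4, (MT.S).simple j ∈ fd.O.cls k := by decide +kernel

theorem orb_ok : ∀ k : Fin 4, ∀ r ∈ fd.O.cls k, ∀ s ∈ fd.O.cls k,
    s = r ∨ s = fd.O.rho r ∨ s = fd.O.rho (fd.O.rho r) := by decide +kernel

universe u

variable {F : Type u} [Field F] [Fintype F] {q : ℕ} {K : Rels chevE6 F}
variable (Z : Frame (T := MT) K PP q fd) (hq : IsPrimePow q) (hK : Fintype.card F = q ^ 2)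

set_option quotPrecheck false in
local notation "G₁" => genG MT K (e6Words F q)

set_option quotPrecheck false in
local notation "𝔻" => (gens Z hq hK).data

include Z hq hK

theorem mem_bS_of_fix {p f : ℕ} (hp : p.Prime) (hf : 1 ≤ f) (hqf : q = p ^ f) {g : ↥G₁}
    (hu : ∀ k, ∃ u ∈ xS 𝔻 k, u ≠ 1 ∧ g⁻¹ * u * g ∈ xS 𝔻 k) : g ∈ bS 𝔻 :=
  (hyp Z hq hK hp hf hqf).mem_bS_of_fix
    (fun r hr => by
      have := (OrbitData.root_of Z.O_ok ((MT.S).neg r)).1 hr
      rwa [(OrbitData.root_of Z.O_ok r).2.1] at this)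
    (fun k r => (OrbitData.cls_root Z.O_ok k r).2.1) cov_ok orb_ok hu

theorem xS_comm (k : Fin 4) {a b : ↥G₁} (ha : a ∈ xS 𝔻 k) (hb : b ∈ xS 𝔻 k) :
    a * b = b * a := by
  match k with
  | 0 =>
    obtain ⟨s, hs, rfl⟩ := exists_one Z hq hK m46 rfl sub46 ha
    obtain ⟨t, ht, rfl⟩ := exists_one Z hq hK m46 rfl sub46 hb
    exact Subtype.ext (by
      show (MT.rel K).x 46 s * (MT.rel K).x 46 t = (MT.rel K).x 46 t * (MT.rel K).x 46 s
      rw [← (MT.rel K).x_add, ← (MT.rel K).x_add, add_comm])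
  | 1 =>
    obtain ⟨s, hs, rfl⟩ := exists_one Z hq hK m39 rfl sub39 ha
    obtain ⟨t, ht, rfl⟩ := exists_one Z hq hK m39 rfl sub39 hb
    exact Subtype.ext (by
      show (MT.rel K).x 39 s * (MT.rel K).x 39 t = (MT.rel K).x 39 t * (MT.rel K).x 39 s
      rw [← (MT.rel K).x_add, ← (MT.rel K).x_add, add_comm])
  | 2 =>
    obtain ⟨s, rfl⟩ := exists_two Z hq hK p42 rfl sub42 ha
    obtain ⟨t, rfl⟩ := exists_two Z hq hK p42 rfl sub42 hb
    rw [twoG_add Z (qpow_hom hq hK).1, twoG_add Z (qpow_hom hq hK).1, add_comm]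
  | 3 =>
    obtain ⟨s, rfl⟩ := exists_two Z hq hK p56 rfl sub56 ha
    obtain ⟨t, rfl⟩ := exists_two Z hq hK p56 rfl sub56 hb
    rw [twoG_add Z (qpow_hom hq hK).1, twoG_add Z (qpow_hom hq hK).1, add_comm]

variable {p f : ℕ} (hp : p.Prime) (hf : 1 ≤ f) (hqf : q = p ^ f)
include hp hf hqf

/-- the fundamental elements with parameter `1`, one in each orbit -/
def IsUnit1 (x : ↥G₁) : Prop :=
  x = oneG Z m46 (one_pow q) ∨ x = oneG Z m39 (one_pow q) ∨ x = twoG Z p42 1 ∨ x = twoG Z p56 1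

theorem mem_range_of_fix {g : ↥G₁} {c : Par F q}
    (h : ∀ x, IsUnit1 Z x → g * dia Z hq hK hp hf hqf c x * g⁻¹ = x) :
    c ∈ (scal Z hq hK).range := by
  have H := hyp Z hq hK hp hf hqf
  obtain ⟨sc, ac⟩ := dia_spec Z hq hK hp hf hqf c
  have h0 := h _ (Or.inl rfl)
  have h1 := h _ (Or.inr (Or.inl rfl))
  have h2 := h _ (Or.inr (Or.inr (Or.inl rfl)))
  have h3 := h _ (Or.inr (Or.inr (Or.inr rfl)))
  have m0 := one_mem Z hq hK m46 (k := 0) (by decide) (one_pow q)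
  have m1 := one_mem Z hq hK m39 (k := 1) (by decide) (one_pow q)
  have m2 := two_mem Z hq hK p42 (k := 2) (by decide) (by decide) (1 : F)
  have m3 := two_mem Z hq hK p56 (k := 3) (by decide) (by decide) (1 : F)
  have n0 : oneG Z m46 (one_pow q) ≠ 1 := fun e => one_ne_zero ((oneG_eq_one Z).1 e)
  have n1 : oneG Z m39 (one_pow q) ≠ 1 := fun e => one_ne_zero ((oneG_eq_one Z).1 e)
  have z0 : ∀ {r : Fin MT.tab.n × Fin MT.tab.n} (hr : r ∈ pairs), twoG Z hr 0 = 1 := fun {r} hr => by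
    have e := twoG_add Z (qpow_hom hq hK).1 hr (0 : F) 0
    rwa [add_zero, mul_eq_left] at e
  have n2 : twoG Z p42 1 ≠ 1 := fun e => one_ne_zero (twoG_inj Z sub42 (e.trans (z0 p42).symm))
  have n3 : twoG Z p56 1 ≠ 1 := fun e => one_ne_zero (twoG_inj Z sub56 (e.trans (z0 p56).symm))
  have hB : g ∈ bS 𝔻 := by
    refine mem_bS_of_fix Z hq hK hp hf hqf fun k => ?_
    have key : ∀ x, x ∈ xS 𝔻 k → x ≠ 1 → g * dia Z hq hK hp hf hqf c x * g⁻¹ = x →
        ∃ u ∈ xS 𝔻 k, u ≠ 1 ∧ g⁻¹ * u * g ∈ xS 𝔻 k := fun x hx hx1 e => by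
      refine ⟨x, hx, hx1, ?_⟩
      have e' : g⁻¹ * x * g = dia Z hq hK hp hf hqf c x := by
        conv_lhs => rw [← e]
        group
      rw [e']
      exact ((sc.2 k).2 x).2 hx
    match k with
    | 0 => exact key _ m0 n0 h0
    | 1 => exact key _ m1 n1 h1
    | 2 => exact key _ m2 n2 h2
    | 3 => exact key _ m3 n3 h3
  obtain ⟨v, hv, t, ht, rfl⟩ := H.exists_ut hB
  -- `v` centralises the root group of each orbit modulo the others
  have key : ∀ k, ∀ x ∈ xS 𝔻 k, v * t * dia Z hq hK hp hf hqf c x * (v * t)⁻¹ = x →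
      dia Z hq hK hp hf hqf (scal Z hq hK ⟨t, ht⟩ * c) x = x := by
    intro k x hx e
    rw [map_mul, ← conj_eq_dia Z hq hK hp hf hqf ⟨t, ht⟩, MulAut.mul_apply, MulAut.conj_apply]
    show t * dia Z hq hK hp hf hqf c x * t⁻¹ = x
    set y := t * dia Z hq hK hp hf hqf c x * t⁻¹ with hy
    have hyk : y ∈ xS 𝔻 k := H.tS_conj_xS k ht (((sc.2 k).2 x).2 hx)
    obtain ⟨a, ha, c0, hc0, rfl⟩ := H.exists_ac k hv
    have e1 : y * (y⁻¹ * c0 * y * c0⁻¹) = a⁻¹ * x * a := by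
      conv_rhs => rw [← e]
      rw [hy]
      group
    have hc1 : y⁻¹ * c0 * y * c0⁻¹ ∈ oS 𝔻 k := by
      have := H.bS_conj_oS (H.uS_le_bS (H.xS_le_uS k (inv_mem hyk))) hc0
      rw [inv_inv] at this
      exact mul_mem this (inv_mem hc0)
    have hax : a⁻¹ * x * a = x := by
      rw [mul_assoc, xS_comm Z hq hK k hx ha, inv_mul_cancel_left]
    rw [hax] at e1
    have e2 := (𝔻).decomp_unique (MT.shapeR K) k hyk hx hc1 (Subgroup.one_mem _)
      (show (y : ↥(chevE6.group F)) * ((y⁻¹ * c0 * y * c0⁻¹ : ↥G₁) : ↥(chevE6.group F)) =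
        (x : ↥(chevE6.group F)) * 1 by rw [mul_one]; exact congrArg Subtype.val e1)
    exact Subtype.ext e2.1
  set d := scal Z hq hK ⟨t, ht⟩ * c with hd
  obtain ⟨-, ad⟩ := dia_spec Z hq hK hp hf hqf d
  have k0 := (ad.1.1 1 (one_pow q)).symm.trans (key 0 _ m0 h0)
  have k1 := (ad.1.2 1 (one_pow q)).symm.trans (key 1 _ m1 h1)
  have k2 := (ad.2.1 1).symm.trans (key 2 _ m2 h2)
  have k3 := (ad.2.2 1).symm.trans (key 3 _ m3 h3)
  have hd1 : d = 1 := by
    refine Prod.ext (Prod.ext ?_ ?_) (Prod.ext ?_ ?_)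
    · exact Subtype.ext (Units.ext (by simpa using oneG_inj Z k0))
    · exact Subtype.ext (Units.ext (by simpa using oneG_inj Z k1))
    · exact Units.ext (by simpa using twoG_inj Z sub42 k2)
    · exact Units.ext (by simpa using twoG_inj Z sub56 k3)
  rw [hd] at hd1
  rw [eq_inv_of_mul_eq_one_right hd1]
  exact inv_mem ⟨_, rfl⟩

/-- A diagonal automorphism times an inner one preserving a subgroup that holds the fundamental elements
and has two outer classes is inner, if the diagonal classes have odd order. -/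
theorem mem_range_of_preserve (hodd : (scal Z hq hK).range.index = 3) {L : Subgroup ↥G₁}
    (hL : ∀ x, IsUnit1 Z x → x ∈ L) (hout : Nat.card (Cfsg.Out ↥L) = 2) {g : ↥G₁} {b : Par F q}
    (h : ∀ x ∈ L, g * dia Z hq hK hp hf hqf b x * g⁻¹ ∈ L) : b ∈ (scal Z hq hK).range := by
  haveI : Finite ↥L := inferInstance
  let φ : ↥L →* ↥L := ((MulAut.conj g * dia Z hq hK hp hf hqf b).toMonoidHom.comp L.subtype).codRestrict L
    fun x => h x.1 x.2
  have hφ : Function.Injective φ := fun x y e => Subtype.ext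
    ((MulAut.conj g * dia Z hq hK hp hf hqf b).injective (congrArg Subtype.val e :))
  let α : MulAut ↥L := MulEquiv.ofBijective φ (Finite.injective_iff_bijective.1 hφ)
  obtain ⟨k, hk⟩ := exists_sq_inner hout α
  have h2 : b * b ∈ (scal Z hq hK).range := by
    refine mem_range_of_fix Z hq hK hp hf hqf
      (g := (k : ↥G₁)⁻¹ * g * dia Z hq hK hp hf hqf b g) fun x hx => ?_
    have e := congrArg Subtype.val (DFunLike.congr_fun hk ⟨x, hL x hx⟩)
    change g * dia Z hq hK hp hf hqf b (g * dia Z hq hK hp hf hqf b x * g⁻¹) * g⁻¹ =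
      (k : ↥G₁) * x * (k : ↥G₁)⁻¹ at e
    rw [map_mul, map_mul, map_inv] at e
    rw [map_mul (dia Z hq hK hp hf hqf), MulAut.mul_apply]
    calc (k : ↥G₁)⁻¹ * g * dia Z hq hK hp hf hqf b g * dia Z hq hK hp hf hqf b (dia Z hq hK hp hf hqf b x) *
          ((k : ↥G₁)⁻¹ * g * dia Z hq hK hp hf hqf b g)⁻¹
        = (k : ↥G₁)⁻¹ * (g * (dia Z hq hK hp hf hqf b g * dia Z hq hK hp hf hqf b (dia Z hq hK hp hf hqf b x) *
            (dia Z hq hK hp hf hqf b g)⁻¹) * g⁻¹) * (k : ↥G₁) := by group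
      _ = x := by rw [e]; group
  have h3 : b ^ 3 ∈ (scal Z hq hK).range := hodd ▸ Subgroup.pow_index_mem _ b
  have e : b = b ^ 3 * (b * b)⁻¹ := by rw [pow_succ, pow_two]; group
  rw [e]
  exact mul_mem h3 (inv_mem h2)

/-- Three pairwise non-conjugate images of such a subgroup. -/
theorem exists_three (hodd : (scal Z hq hK).range.index = 3) {L : Subgroup ↥G₁}
    (hL : ∀ x, IsUnit1 Z x → x ∈ L) (hout : Nat.card (Cfsg.Out ↥L) = 2) :
    ∃ H : Fin 3 → Subgroup ↥G₁, (∀ i, Nonempty (↥(H i) ≃* ↥L)) ∧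
      ∀ i j, i ≠ j → ∀ g : ↥G₁, (H i).map (MulAut.conj g).toMonoidHom ≠ H j := by
  obtain ⟨a, ha⟩ : ∃ a, a ∉ (scal Z hq hK).range := by
    by_contra! hall
    have e : (scal Z hq hK).range = ⊤ := eq_top_iff.2 fun x _ => hall x
    rw [e, Subgroup.index_top] at hodd
    omega
  refine ⟨fun i => L.map (dia Z hq hK hp hf hqf (a ^ i.val)).toMonoidHom, fun i =>
    ⟨(L.equivMapOfInjective _ (dia Z hq hK hp hf hqf (a ^ i.val)).injective).symm⟩, ?_⟩
  intro i j hij g e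
  have hb : (a ^ j.val)⁻¹ * a ^ i.val ∈ (scal Z hq hK).range := by
    refine mem_range_of_preserve Z hq hK hp hf hqf hodd hL hout
      (g := dia Z hq hK hp hf hqf (a ^ j.val)⁻¹ g) fun x hx => ?_
    have h1 : g * dia Z hq hK hp hf hqf (a ^ i.val) x * g⁻¹ ∈
        L.map (dia Z hq hK hp hf hqf (a ^ j.val)).toMonoidHom :=
      (SetLike.ext_iff.1 e _).1 ⟨_, ⟨x, hx, rfl⟩, rfl⟩
    obtain ⟨y, hy, hy'⟩ := h1
    change dia Z hq hK hp hf hqf (a ^ j.val) y = _ at hy'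
    have h2 : y = dia Z hq hK hp hf hqf (a ^ j.val)⁻¹ (g * dia Z hq hK hp hf hqf (a ^ i.val) x * g⁻¹) := by
      rw [← hy', map_inv, MulAut.inv_apply_self]
    rw [map_mul (dia Z hq hK hp hf hqf), MulAut.mul_apply]
    rw [map_mul, map_mul, map_inv (dia Z hq hK hp hf hqf (a ^ j.val)⁻¹)] at h2
    exact h2 ▸ hy
  have hne : (QuotientGroup.mk a : Par F q ⧸ (scal Z hq hK).range) ≠ 1 :=
    fun h => ha ((QuotientGroup.eq_one_iff a).1 h)
  haveI : Fact (Nat.Prime 3) := ⟨Nat.prime_three⟩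
  have ho : orderOf (QuotientGroup.mk a : Par F q ⧸ (scal Z hq hK).range) = 3 :=
    orderOf_eq_prime (by rw [← QuotientGroup.mk_pow, QuotientGroup.eq_one_iff];
                         exact hodd ▸ Subgroup.pow_index_mem _ a) hne
  have hc := QuotientGroup.eq.2 hb
  rw [QuotientGroup.mk_pow, QuotientGroup.mk_pow] at hc
  exact hij (Fin.ext (pow_injOn_Iio_orderOf (by rw [ho]; exact i.isLt) (by rw [ho]; exact j.isLt) hc.symm))

end UnitaryE6

end Cfsg.Agent.TwistedOut
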