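import Cfsg.Agent.TwistedOut.E6SubF4

/-!
Three classes of subgroups of `²E₆(2)` with scalar commutant and two outer classes (helper97).
-/

set_option autoImplicit false
set_option linter.unusedSectionVars false
set_option maxRecDepth 4000

namespace Cfsg.Agent.TwistedOut.UnitaryE6

open Cfsg.Lie Cfsg.Agent.ChevGroup Cfsg.Agent.ChevIsogeny Cfsg.Agent.Twisted
open Cfsg.Agent.Twisted.TypeE6

universe u

variable {F : Type u} [Field F] [Fintype F] {q : ℕ} {K : Rels chevE6 F}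

set_option quotPrecheck false in
local notation "G₁" => genG MT K (e6Words F q)

/-- the matrix of an element -/
noncomputable def gl : ↥G₁ →* GL chevE6.Idx F :=
  (chevE6.group F).subtype.comp (genG MT K (e6Words F q)).subtype

theorem gl_injective : Function.Injective (gl (F := F) (q := q) (K := K)) := fun _ _ e =>
  Subtype.ext (Subtype.ext e)

theorem conj_of_diagonal {d : ↥(chevE6.group F) ≃* ↥(chevE6.group F)} (hdd : chevE6.IsDiagonalAut d)
    (f : ↥G₁ →* ↥G₁) (hf : Function.Injective f) (he : ∀ g, ((f g : ↥G₁) : ↥(chevE6.group F)) = d g) :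
    ∃ E : GL chevE6.Idx F, ∀ x : ↥G₁,
      (((MulEquiv.ofBijective f (Finite.injective_iff_bijective.1 hf) x : ↥G₁) : ↥(chevE6.group F)) :
        GL chevE6.Idx F) = E * ((x : ↥(chevE6.group F)) : GL chevE6.Idx F) * E⁻¹ := by
  obtain ⟨χ, hχ, hc⟩ := hdd
  refine ⟨AutDecomp.diagGL χ, fun x => Units.ext ?_⟩
  rw [MulEquiv.ofBijective_apply, he]
  exact hc _

variable (Z : Frame (T := MT) K PP q fd)

/-- a diagonal automorphism is a conjugation by a matrix -/
theorem exists_acts_conj (a : Par F q) : ∃ φ : MulAut ↥G₁,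
    (∀ T : Fin MT.tab.n → Prop, Pres φ ((Sg (MT.rel K) T).subgroupOf G₁)) ∧ Acts Z φ a ∧
      ∃ E : GL chevE6.Idx F, ∀ x : ↥G₁,
        (((φ x : ↥G₁) : ↥(chevE6.group F)) : GL chevE6.Idx F) =
          E * ((x : ↥(chevE6.group F)) : GL chevE6.Idx F) * E⁻¹ := by
  classical
  have hG := ChevCore.good_of_mem (D := chevE6) (by simp)
  let b : ℕ → Fˣ := fun i => [a.2.2, (a.1.1 : Fˣ), a.2.1, (a.1.2 : Fˣ), a.2.1 ^ q, a.2.2 ^ q].getD i 1
  obtain ⟨d, hdd, hd⟩ := AutDecomp.exists_diagonal hG b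
  set χ := AutDecomp.charOf chevE6 b with hχ
  have hchar := AutDecomp.charOf_isRootCharacter hG b (F := F)
  have hs : ∀ i : Fin 6, χ (([56, 46, 42, 39, 37, 36] : List ℕ).getD i.val 0) = b i.val := fun i => by
    rw [← simple_vals i]
    exact AutDecomp.charOf_simple hG b i.isLt
  have hlt : ∀ r : Fin MT.tab.n, r.val < chevE6.nroots := fun r => MT.lt r
  have hneg : ∀ r : Fin MT.tab.n, χ (chevE6.neg r.val) = (χ r.val)⁻¹ := fun r => hchar.1 _ (hlt r)
  have c56 : χ 56 = a.2.2 := hs 0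
  have c46 : χ 46 = a.1.1 := hs 1
  have c42 : χ 42 = a.2.1 := hs 2
  have c39 : χ 39 = a.1.2 := hs 3
  have c37 : χ 37 = a.2.1 ^ q := hs 4
  have c36 : χ 36 = a.2.2 ^ q := hs 5
  obtain ⟨n46, n39, n42, n37, n56, n36⟩ := neg_vals
  have c25 : χ 25 = (χ 46)⁻¹ := n46 ▸ hneg 46
  have c32 : χ 32 = (χ 39)⁻¹ := n39 ▸ hneg 39
  have c29 : χ 29 = (χ 42)⁻¹ := n42 ▸ hneg 42
  have c34 : χ 34 = (χ 37)⁻¹ := n37 ▸ hneg 37
  have c15 : χ 15 = (χ 56)⁻¹ := n56 ▸ hneg 56
  have c35 : χ 35 = (χ 36)⁻¹ := n36 ▸ hneg 36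
  have hones : ∀ r ∈ ones, (χ r.val : F) ^ q = χ r.val := by
    intro r hr
    simp only [ones, List.mem_cons, List.not_mem_nil, or_false] at hr
    rw [← Units.val_pow_eq_pow_val]
    rcases hr with rfl | rfl | rfl | rfl
    · show ((χ 46 ^ q : Fˣ) : F) = (χ 46 : F)
      rw [c46, mem_fixU.1 a.1.1.2]
    · show ((χ 25 ^ q : Fˣ) : F) = (χ 25 : F)
      rw [c25, c46, inv_pow, mem_fixU.1 a.1.1.2]
    · show ((χ 39 ^ q : Fˣ) : F) = (χ 39 : F)
      rw [c39, mem_fixU.1 a.1.2.2]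
    · show ((χ 32 ^ q : Fˣ) : F) = (χ 32 : F)
      rw [c32, c39, inv_pow, mem_fixU.1 a.1.2.2]
  have hpairs : ∀ p ∈ pairs, χ p.2.val = χ p.1.val ^ q := by
    intro p hp
    simp only [pairs, List.mem_cons, List.not_mem_nil, or_false] at hp
    rcases hp with rfl | rfl | rfl | rfl
    · show χ 36 = χ 56 ^ q
      rw [c36, c56]
    · show χ 35 = χ 15 ^ q
      rw [c35, c15, c36, c56, inv_pow]
    · show χ 37 = χ 42 ^ q
      rw [c37, c42]
    · show χ 34 = χ 29 ^ q
      rw [c34, c29, c37, c42, inv_pow]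
  -- action on root elements
  have hx : ∀ (r : Fin MT.tab.n) (t : F),
      d ((MT.rel K).x r t) = (MT.rel K).x r ((χ r.val : F) * t) := by
    intro r t
    refine Model.mat_inj ?_
    rw [← IsoHyp.xN_val, ← IsoHyp.xN_val, IsoHyp.mat_xN]
    exact hd _ r.val t (hlt r) (IsoHyp.mat_xN _ _)
  have hone : ∀ {r : Fin MT.tab.n} (hr : r ∈ ones) {t : F} (ht : t ^ q = t),
      ((χ r.val : F) * t) ^ q = (χ r.val : F) * t := fun hr _ ht => by rw [mul_pow, hones _ hr, ht]
  have htwo : ∀ {p : Fin MT.tab.n × Fin MT.tab.n} (hp : p ∈ pairs) (t : F),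
      d (prodX MT K [p.1, p.2] (duo q p.1 t)) =
        prodX MT K [p.1, p.2] (duo q p.1 ((χ p.1.val : F) * t)) := fun {p} hp t => by
    rw [prodX, map_list_prod, List.map_map]
    refine congrArg List.prod (List.map_congr_left fun r hr => ?_)
    rw [Function.comp_apply, hx]
    simp only [List.mem_cons, List.not_mem_nil, or_false] at hr
    congr 1
    rcases hr with rfl | rfl
    · simp [duo]
    · simp [duo, (pairs_rho p hp).2.2, hpairs p hp, mul_pow]
  have hmem : G₁ ≤ (G₁).comap d.toMonoidHom := by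
    rw [genG, Subgroup.closure_le]
    rintro _ ⟨w, hw, rfl⟩
    rw [SetLike.mem_coe, Subgroup.mem_comap]
    rcases hw with ⟨t, ht, r, hr, rfl⟩ | ⟨t, rs, hr, rfl⟩
    · obtain ⟨r', hr', rfl⟩ : ∃ r' ∈ ones, r'.val = r := by
        simp only [List.mem_cons, List.not_mem_nil, or_false] at hr
        rcases hr with rfl | rfl | rfl | rfl
        exacts [⟨46, by decide, rfl⟩, ⟨25, by decide, rfl⟩, ⟨39, by decide, rfl⟩, ⟨32, by decide, rfl⟩]
      rw [Z.wv_cons, show wv MT K ([] : List (ℕ × F)) = 1 from rfl, mul_one]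
      show d ((MT.rel K).x r' t) ∈ G₁
      rw [hx]
      exact one_mem_G Z hr' (hone hr' ht)
    · obtain ⟨p, hp, rfl⟩ : ∃ p ∈ pairs, (p.1.val, p.2.val) = rs := by
        simp only [List.mem_cons, List.not_mem_nil, or_false] at hr
        rcases hr with rfl | rfl | rfl | rfl
        exacts [⟨(56, 36), by decide, rfl⟩, ⟨(15, 35), by decide, rfl⟩, ⟨(42, 37), by decide, rfl⟩,
          ⟨(29, 34), by decide, rfl⟩]
      rw [wv_pair Z hp]
      show d (prodX MT K [p.1, p.2] (duo q p.1 t)) ∈ G₁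
      rw [htwo hp]
      exact pair_mem_G Z hp _
  haveI : Finite ↥G₁ := inferInstance
  let f : ↥G₁ →* ↥G₁ := (d.toMonoidHom.comp (G₁).subtype).codRestrict G₁ fun g => hmem g.2
  have hf : Function.Injective f := fun g g' e => Subtype.ext (d.injective (congrArg Subtype.val e :))
  refine ⟨MulEquiv.ofBijective f (Finite.injective_iff_bijective.1 hf), fun T => ?_,
    ⟨⟨fun t ht => ?_, fun t ht => ?_⟩, fun t => ?_, fun t => ?_⟩, ?_⟩
  · refine pres_of_le fun g hg => ?_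
    have key : Sg (MT.rel K) T ≤ (Sg (MT.rel K) T).comap d.toMonoidHom := by
      rw [Sg, Subgroup.closure_le]
      rintro _ ⟨r, t, hr, rfl⟩
      rw [SetLike.mem_coe, Subgroup.mem_comap]
      show d ((MT.rel K).x r t) ∈ _
      rw [hx]
      exact x_mem_Sg (MT.rel K) hr _
    exact key hg
  · refine Subtype.ext ?_
    show d ((MT.rel K).x 46 t) = (MT.rel K).x 46 _
    rw [hx, show ((46 : Fin MT.tab.n).val) = 46 from rfl, c46]
  · refine Subtype.ext ?_
    show d ((MT.rel K).x 39 t) = (MT.rel K).x 39 _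
    rw [hx, show ((39 : Fin MT.tab.n).val) = 39 from rfl, c39]
  · refine Subtype.ext ?_
    show d (prodX MT K [42, 37] (duo q 42 t)) = prodX MT K [42, 37] (duo q 42 _)
    rw [htwo p42, show ((42 : Fin MT.tab.n).val) = 42 from rfl, c42]
  · refine Subtype.ext ?_
    show d (prodX MT K [56, 36] (duo q 56 t)) = prodX MT K [56, 36] (duo q 56 _)
    rw [htwo p56, show ((56 : Fin MT.tab.n).val) = 56 from rfl, c56]
  · exact conj_of_diagonal hdd f hf (fun g => rfl)


variable (hq : IsPrimePow q) (hK : Fintype.card F = q ^ 2) {p f : ℕ} (hp : p.Prime) (hf : 1 ≤ f) (hqf : q = p ^ f)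

include Z hq hK hp hf hqf

theorem dia_conj (a : Par F q) : ∃ E : GL chevE6.Idx F, ∀ x : ↥G₁,
    gl (dia Z hq hK hp hf hqf a x) = E * gl x * E⁻¹ := by
  obtain ⟨φ, hφ, hφ', E, hE⟩ := exists_acts_conj Z a
  refine ⟨E, fun x => ?_⟩
  rw [← eq_of_acts Z hq hK hp hf hqf ⟨⟨hφ _, hφ _⟩, fun _ => ⟨hφ _, hφ _⟩⟩
    (dia_spec Z hq hK hp hf hqf a).1 hφ' (dia_spec Z hq hK hp hf hqf a).2]
  exact hE x

/-- A diagonal automorphism times an inner one fixing a subgroup with scalar commutant is trivial. -/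
theorem mem_range_of_fix_irr {L : Subgroup ↥G₁}
    (hirr : ∀ M : Matrix chevE6.Idx chevE6.Idx F,
      (∀ x ∈ L, M * (gl x : Matrix chevE6.Idx chevE6.Idx F) = (gl x : Matrix chevE6.Idx chevE6.Idx F) * M) →
        ∃ c : F, M = c • 1)
    {g : ↥G₁} {c : Par F q} (h : ∀ x ∈ L, g * dia Z hq hK hp hf hqf c x * g⁻¹ = x) :
    c ∈ (scal Z hq hK).range := by
  obtain ⟨E, hE⟩ := dia_conj Z hq hK hp hf hqf c
  have hc : ∀ x ∈ L, Commute ((gl g * E : GL chevE6.Idx F) : Matrix chevE6.Idx chevE6.Idx F) (gl x) := by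
    intro x hx
    have e := congrArg gl (h x hx)
    rw [map_mul, map_mul, map_inv, hE] at e
    show _ * _ = _ * _
    rw [← Units.val_mul, ← Units.val_mul]
    refine congrArg Units.val ?_
    conv_rhs => rw [← e]
    group
  obtain ⟨k, hk⟩ := hirr _ hc
  have hcen : ∀ y : GL chevE6.Idx F, gl g * E * y = y * (gl g * E) := fun y => Units.ext (by
    rw [Units.val_mul, Units.val_mul (a := y), hk, Matrix.smul_mul, Matrix.mul_smul, Matrix.one_mul,
      Matrix.mul_one])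
  have hdia : dia Z hq hK hp hf hqf c = MulAut.conj g⁻¹ := by
    refine MulEquiv.ext fun x => gl_injective ?_
    rw [hE, MulAut.conj_apply, map_mul, map_mul, inv_inv, map_inv]
    have := hcen (gl x)
    calc E * gl x * E⁻¹ = (gl g)⁻¹ * (gl g * E * gl x) * E⁻¹ := by group
      _ = (gl g)⁻¹ * (gl x * (gl g * E)) * E⁻¹ := by rw [this]
      _ = (gl g)⁻¹ * gl x * gl g := by group
  have h1 := (eq_of_inner Z hq hK hp hf hqf (a := c) (b := 1) (τ := RingEquiv.refl F)
    (τ' := RingEquiv.refl F) (g := g⁻¹) (by rw [map_one, one_mul, hdia])).2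
  rwa [inv_one, mul_one] at h1


theorem mem_range_of_preserve_irr (hodd : (scal Z hq hK).range.index = 3) {L : Subgroup ↥G₁}
    (hirr : ∀ M : Matrix chevE6.Idx chevE6.Idx F,
      (∀ x ∈ L, M * (gl x : Matrix chevE6.Idx chevE6.Idx F) = (gl x : Matrix chevE6.Idx chevE6.Idx F) * M) →
        ∃ c : F, M = c • 1)
    (hout : Nat.card (Cfsg.Out ↥L) = 2) {g : ↥G₁} {b : Par F q}
    (h : ∀ x ∈ L, g * dia Z hq hK hp hf hqf b x * g⁻¹ ∈ L) : b ∈ (scal Z hq hK).range := by
  haveI : Finite ↥L := inferInstance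
  let φ : ↥L →* ↥L := ((MulAut.conj g * dia Z hq hK hp hf hqf b).toMonoidHom.comp L.subtype).codRestrict L
    fun x => h x.1 x.2
  have hφ : Function.Injective φ := fun x y e => Subtype.ext
    ((MulAut.conj g * dia Z hq hK hp hf hqf b).injective (congrArg Subtype.val e :))
  let α : MulAut ↥L := MulEquiv.ofBijective φ (Finite.injective_iff_bijective.1 hφ)
  obtain ⟨k, hk⟩ := exists_sq_inner hout α
  have h2 : b * b ∈ (scal Z hq hK).range := by
    refine mem_range_of_fix_irr Z hq hK hp hf hqf hirr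
      (g := (k : ↥G₁)⁻¹ * g * dia Z hq hK hp hf hqf b g) fun x hx => ?_
    have e := congrArg Subtype.val (DFunLike.congr_fun hk ⟨x, hx⟩)
    change g * dia Z hq hK hp hf hqf b (g * dia Z hq hK hp hf hqf b x * g⁻¹) * g⁻¹ =
      (k : ↥G₁) * x * (k : ↥G₁)⁻¹ at e
    rw [map_mul, map_mul, map_inv] at e
    rw [map_mul (dia Z hq hK hp hf hqf), MulAut.mul_apply]
    calc (k : ↥G₁)⁻¹ * g * dia Z hq hK hp hf hqf b g * dia Z hq hK hp hf hqf b (dia Z hq hK hp hf hqf b x) *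
          ((k : ↥G₁)⁻¹ * g * dia Z hq hK hp hf hqf b g)⁻¹
        = (k : ↥G₁)⁻¹ * (g * (dia Z hq hK hp hf hqf b g * dia Z hq hK hp hf hqf b (dia Z hq hK hp hf hqf b x) *
            (dia Z hq hK hp hf hqf b g)⁻¹) * g⁻¹) * (k : ↥G₁) := by group
      _ = x := by rw [e]; group
  have h3 : b ^ 3 ∈ (scal Z hq hK).range := hodd ▸ Subgroup.pow_index_mem _ b
  have e : b = b ^ 3 * (b * b)⁻¹ := by rw [pow_succ, pow_two]; group
  rw [e]
  exact mul_mem h3 (inv_mem h2)

/-- Three pairwise non-conjugate images of such a subgroup. -/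
theorem exists_three_irr (hodd : (scal Z hq hK).range.index = 3) {L : Subgroup ↥G₁}
    (hirr : ∀ M : Matrix chevE6.Idx chevE6.Idx F,
      (∀ x ∈ L, M * (gl x : Matrix chevE6.Idx chevE6.Idx F) = (gl x : Matrix chevE6.Idx chevE6.Idx F) * M) →
        ∃ c : F, M = c • 1)
    (hout : Nat.card (Cfsg.Out ↥L) = 2) :
    ∃ H : Fin 3 → Subgroup ↥G₁, (∀ i, Nonempty (↥(H i) ≃* ↥L)) ∧
      ∀ i j, i ≠ j → ∀ g : ↥G₁, (H i).map (MulAut.conj g).toMonoidHom ≠ H j := by
  obtain ⟨a, ha⟩ : ∃ a, a ∉ (scal Z hq hK).range := by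
    by_contra! hall
    have e : (scal Z hq hK).range = ⊤ := eq_top_iff.2 fun x _ => hall x
    rw [e, Subgroup.index_top] at hodd
    omega
  refine ⟨fun i => L.map (dia Z hq hK hp hf hqf (a ^ i.val)).toMonoidHom, fun i =>
    ⟨(L.equivMapOfInjective _ (dia Z hq hK hp hf hqf (a ^ i.val)).injective).symm⟩, ?_⟩
  intro i j hij g e
  have hb : (a ^ j.val)⁻¹ * a ^ i.val ∈ (scal Z hq hK).range := by
    refine mem_range_of_preserve_irr Z hq hK hp hf hqf hodd hirr hout
      (g := dia Z hq hK hp hf hqf (a ^ j.val)⁻¹ g) fun x hx => ?_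
    have h1 : g * dia Z hq hK hp hf hqf (a ^ i.val) x * g⁻¹ ∈
        L.map (dia Z hq hK hp hf hqf (a ^ j.val)).toMonoidHom :=
      (SetLike.ext_iff.1 e _).1 ⟨_, ⟨x, hx, rfl⟩, rfl⟩
    obtain ⟨y, hy, hy'⟩ := h1
    change dia Z hq hK hp hf hqf (a ^ j.val) y = _ at hy'
    have h2 : y = dia Z hq hK hp hf hqf (a ^ j.val)⁻¹ (g * dia Z hq hK hp hf hqf (a ^ i.val) x * g⁻¹) := by
      rw [← hy', map_inv, MulAut.inv_apply_self]
    rw [map_mul (dia Z hq hK hp hf hqf), MulAut.mul_apply]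
    rw [map_mul, map_mul, map_inv (dia Z hq hK hp hf hqf (a ^ j.val)⁻¹)] at h2
    exact h2 ▸ hy
  have hne : (QuotientGroup.mk a : Par F q ⧸ (scal Z hq hK).range) ≠ 1 :=
    fun h => ha ((QuotientGroup.eq_one_iff a).1 h)
  haveI : Fact (Nat.Prime 3) := ⟨Nat.prime_three⟩
  have ho : orderOf (QuotientGroup.mk a : Par F q ⧸ (scal Z hq hK).range) = 3 :=
    orderOf_eq_prime (by rw [← QuotientGroup.mk_pow, QuotientGroup.eq_one_iff];
                         exact hodd ▸ Subgroup.pow_index_mem _ a) hne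
  have hc := QuotientGroup.eq.2 hb
  rw [QuotientGroup.mk_pow, QuotientGroup.mk_pow] at hc
  exact hij (Fin.ext (pow_injOn_Iio_orderOf (by rw [ho]; exact i.isLt) (by rw [ho]; exact j.isLt) hc.symm))

end Cfsg.Agent.TwistedOut.UnitaryE6
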