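import Cfsg.Agent.TwistedOut.Fi22Data

/-! Generated products of matrices, part 0 (helper97). -/

set_option autoImplicit false
set_option maxRecDepth 100000

namespace Cfsg.Agent.TwistedOut.Fi22Check

open Cfsg.Agent.TwistedOut.Fi22Code Cfsg.Agent.TwistedOut.Fi22Data

theorem m0 : cmul GA GB = Pab := eq_of_eqList (by decide +kernel)

theorem m6 : cmul GD GA = Cad := eq_of_eqList (by decide +kernel)

theorem m12 : cmul GG GA = Cag := eq_of_eqList (by decide +kernel)

theorem m18 : cmul Pbc GB = Bbc := eq_of_eqList (by decide +kernel)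

theorem m24 : cmul GB GF = Cbf := eq_of_eqList (by decide +kernel)

theorem m30 : cmul GB GI = Cbi := eq_of_eqList (by decide +kernel)

theorem m36 : cmul GE GC = Cce := eq_of_eqList (by decide +kernel)

theorem m42 : cmul GH GC = Cch := eq_of_eqList (by decide +kernel)

theorem m48 : cmul GD GF = Cdf := eq_of_eqList (by decide +kernel)

theorem m54 : cmul GH Pdh = Bdh := eq_of_eqList (by decide +kernel)

theorem m60 : cmul GE GG = Ceg := eq_of_eqList (by decide +kernel)

theorem m66 : cmul GF GG = Pfg := eq_of_eqList (by decide +kernel)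

theorem m72 : cmul GI GF = Cfi := eq_of_eqList (by decide +kernel)

theorem m78 : cmul Phi GH = Bhi := eq_of_eqList (by decide +kernel)

theorem m84 : cmul GE GE = oneM := eq_of_eqList (by decide +kernel)

theorem m90 : cmul W0_0 GB = W0_1 := eq_of_eqList (by decide +kernel)

theorem m96 : cmul W0_6 GI = W0_7 := eq_of_eqList (by decide +kernel)

theorem m102 : cmul W1_0 GC = W1_1 := eq_of_eqList (by decide +kernel)

theorem m108 : cmul W1p2 W1p2 = W1p4 := eq_of_eqList (by decide +kernel)

theorem m114 : cmul W2_2 GF = W2_3 := eq_of_eqList (by decide +kernel)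

theorem m120 : cmul W2p8 W2_5 = oneM := eq_of_eqList (by decide +kernel)

end Cfsg.Agent.TwistedOut.Fi22Check
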