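import Cfsg.Agent.TwistedOut.Fi22Data

/-! Generated products of matrices, part 1 (helper97). -/

set_option autoImplicit false
set_option maxRecDepth 100000

namespace Cfsg.Agent.TwistedOut.Fi22Check

open Cfsg.Agent.TwistedOut.Fi22Code Cfsg.Agent.TwistedOut.Fi22Data

theorem m1 : cmul Pab GA = Bab := eq_of_eqList (by decide +kernel)

theorem m7 : cmul GA GE = Cae := eq_of_eqList (by decide +kernel)

theorem m13 : cmul GA GH = Cah := eq_of_eqList (by decide +kernel)

theorem m19 : cmul GC Pbc = Bbc := eq_of_eqList (by decide +kernel)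

theorem m25 : cmul GF GB = Cbf := eq_of_eqList (by decide +kernel)

theorem m31 : cmul GI GB = Cbi := eq_of_eqList (by decide +kernel)

theorem m37 : cmul GC GF = Ccf := eq_of_eqList (by decide +kernel)

theorem m43 : cmul GC GI = Cci := eq_of_eqList (by decide +kernel)

theorem m49 : cmul GF GD = Cdf := eq_of_eqList (by decide +kernel)

theorem m55 : cmul GD GI = Cdi := eq_of_eqList (by decide +kernel)

theorem m61 : cmul GG GE = Ceg := eq_of_eqList (by decide +kernel)

theorem m67 : cmul Pfg GF = Bfg := eq_of_eqList (by decide +kernel)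

theorem m73 : cmul GG GH = Cgh := eq_of_eqList (by decide +kernel)

theorem m79 : cmul GI Phi = Bhi := eq_of_eqList (by decide +kernel)

theorem m85 : cmul GF GF = oneM := eq_of_eqList (by decide +kernel)

theorem m91 : cmul W0_1 GD = W0_2 := eq_of_eqList (by decide +kernel)

theorem m97 : cmul W0_7 W0_7 = W0p2 := eq_of_eqList (by decide +kernel)

theorem m103 : cmul W1_1 GD = W1_2 := eq_of_eqList (by decide +kernel)

theorem m109 : cmul W1p4 W1p4 = W1p8 := eq_of_eqList (by decide +kernel)

theorem m115 : cmul W2_3 GG = W2_4 := eq_of_eqList (by decide +kernel)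

end Cfsg.Agent.TwistedOut.Fi22Check
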