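import Cfsg.Agent.TwistedOut.Fi22Data

/-! Generated products of matrices, part 2 (helper97). -/

set_option autoImplicit false
set_option maxRecDepth 100000

namespace Cfsg.Agent.TwistedOut.Fi22Check

open Cfsg.Agent.TwistedOut.Fi22Code Cfsg.Agent.TwistedOut.Fi22Data

theorem m2 : cmul GB Pab = Bab := eq_of_eqList (by decide +kernel)

theorem m8 : cmul GE GA = Cae := eq_of_eqList (by decide +kernel)

theorem m14 : cmul GH GA = Cah := eq_of_eqList (by decide +kernel)

theorem m20 : cmul GB GD = Cbd := eq_of_eqList (by decide +kernel)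

theorem m26 : cmul GB GG = Cbg := eq_of_eqList (by decide +kernel)

theorem m32 : cmul GC GD = Pcd := eq_of_eqList (by decide +kernel)

theorem m38 : cmul GF GC = Ccf := eq_of_eqList (by decide +kernel)

theorem m44 : cmul GI GC = Cci := eq_of_eqList (by decide +kernel)

theorem m50 : cmul GD GG = Cdg := eq_of_eqList (by decide +kernel)

theorem m56 : cmul GI GD = Cdi := eq_of_eqList (by decide +kernel)

theorem m62 : cmul GE GH = Ceh := eq_of_eqList (by decide +kernel)

theorem m68 : cmul GG Pfg = Bfg := eq_of_eqList (by decide +kernel)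

theorem m74 : cmul GH GG = Cgh := eq_of_eqList (by decide +kernel)

theorem m80 : cmul GA GA = oneM := eq_of_eqList (by decide +kernel)

theorem m86 : cmul GG GG = oneM := eq_of_eqList (by decide +kernel)

theorem m92 : cmul W0_2 GE = W0_3 := eq_of_eqList (by decide +kernel)

theorem m98 : cmul W0p2 W0p2 = W0p4 := eq_of_eqList (by decide +kernel)

theorem m104 : cmul W1_2 GE = W1_3 := eq_of_eqList (by decide +kernel)

theorem m110 : cmul W1p8 W1_5 = oneM := eq_of_eqList (by decide +kernel)

theorem m116 : cmul W2_4 GH = W2_5 := eq_of_eqList (by decide +kernel)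

end Cfsg.Agent.TwistedOut.Fi22Check
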