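import Cfsg.Agent.TwistedOut.Fi22Data

/-! Generated products of matrices, part 3 (helper97). -/

set_option autoImplicit false
set_option maxRecDepth 100000

namespace Cfsg.Agent.TwistedOut.Fi22Check

open Cfsg.Agent.TwistedOut.Fi22Code Cfsg.Agent.TwistedOut.Fi22Data

theorem m3 : cmul GA GC = Cac := eq_of_eqList (by decide +kernel)

theorem m9 : cmul GA GF = Caf := eq_of_eqList (by decide +kernel)

theorem m15 : cmul GA GI = Cai := eq_of_eqList (by decide +kernel)

theorem m21 : cmul GD GB = Cbd := eq_of_eqList (by decide +kernel)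

theorem m27 : cmul GG GB = Cbg := eq_of_eqList (by decide +kernel)

theorem m33 : cmul Pcd GC = Bcd := eq_of_eqList (by decide +kernel)

theorem m39 : cmul GC GG = Ccg := eq_of_eqList (by decide +kernel)

theorem m45 : cmul GD GE = Pde := eq_of_eqList (by decide +kernel)

theorem m51 : cmul GG GD = Cdg := eq_of_eqList (by decide +kernel)

theorem m57 : cmul GE GF = Pef := eq_of_eqList (by decide +kernel)

theorem m63 : cmul GH GE = Ceh := eq_of_eqList (by decide +kernel)

theorem m69 : cmul GF GH = Cfh := eq_of_eqList (by decide +kernel)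

theorem m75 : cmul GG GI = Cgi := eq_of_eqList (by decide +kernel)

theorem m81 : cmul GB GB = oneM := eq_of_eqList (by decide +kernel)

theorem m87 : cmul GH GH = oneM := eq_of_eqList (by decide +kernel)

theorem m93 : cmul W0_3 GF = W0_4 := eq_of_eqList (by decide +kernel)

theorem m99 : cmul W0p4 W0p4 = W0p8 := eq_of_eqList (by decide +kernel)

theorem m105 : cmul W1_3 GF = W1_4 := eq_of_eqList (by decide +kernel)

theorem m111 : cmul GB GC = W2_0 := eq_of_eqList (by decide +kernel)

theorem m117 : cmul W2_5 W2_5 = W2p2 := eq_of_eqList (by decide +kernel)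

end Cfsg.Agent.TwistedOut.Fi22Check
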