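import Cfsg.Agent.TwistedOut.Fi22Data

/-! Generated products of matrices, part 4 (helper97). -/

set_option autoImplicit false
set_option maxRecDepth 100000

namespace Cfsg.Agent.TwistedOut.Fi22Check

open Cfsg.Agent.TwistedOut.Fi22Code Cfsg.Agent.TwistedOut.Fi22Data

theorem m4 : cmul GC GA = Cac := eq_of_eqList (by decide +kernel)

theorem m10 : cmul GF GA = Caf := eq_of_eqList (by decide +kernel)

theorem m16 : cmul GI GA = Cai := eq_of_eqList (by decide +kernel)

theorem m22 : cmul GB GE = Cbe := eq_of_eqList (by decide +kernel)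

theorem m28 : cmul GB GH = Cbh := eq_of_eqList (by decide +kernel)

theorem m34 : cmul GD Pcd = Bcd := eq_of_eqList (by decide +kernel)

theorem m40 : cmul GG GC = Ccg := eq_of_eqList (by decide +kernel)

theorem m46 : cmul Pde GD = Bde := eq_of_eqList (by decide +kernel)

theorem m52 : cmul GD GH = Pdh := eq_of_eqList (by decide +kernel)

theorem m58 : cmul Pef GE = Bef := eq_of_eqList (by decide +kernel)

theorem m64 : cmul GE GI = Cei := eq_of_eqList (by decide +kernel)

theorem m70 : cmul GH GF = Cfh := eq_of_eqList (by decide +kernel)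

theorem m76 : cmul GI GG = Cgi := eq_of_eqList (by decide +kernel)

theorem m82 : cmul GC GC = oneM := eq_of_eqList (by decide +kernel)

theorem m88 : cmul GI GI = oneM := eq_of_eqList (by decide +kernel)

theorem m94 : cmul W0_4 GD = W0_5 := eq_of_eqList (by decide +kernel)

theorem m100 : cmul W0p8 W0p2 = oneM := eq_of_eqList (by decide +kernel)

theorem m106 : cmul W1_4 GH = W1_5 := eq_of_eqList (by decide +kernel)

theorem m112 : cmul W2_0 GD = W2_1 := eq_of_eqList (by decide +kernel)

theorem m118 : cmul W2p2 W2p2 = W2p4 := eq_of_eqList (by decide +kernel)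

end Cfsg.Agent.TwistedOut.Fi22Check
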