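import Cfsg.Agent.TwistedOut.Fi22Data

/-! Generated products of matrices, part 5 (helper97). -/

set_option autoImplicit false
set_option maxRecDepth 100000

namespace Cfsg.Agent.TwistedOut.Fi22Check

open Cfsg.Agent.TwistedOut.Fi22Code Cfsg.Agent.TwistedOut.Fi22Data

theorem m5 : cmul GA GD = Cad := eq_of_eqList (by decide +kernel)

theorem m11 : cmul GA GG = Cag := eq_of_eqList (by decide +kernel)

theorem m17 : cmul GB GC = Pbc := eq_of_eqList (by decide +kernel)

theorem m23 : cmul GE GB = Cbe := eq_of_eqList (by decide +kernel)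

theorem m29 : cmul GH GB = Cbh := eq_of_eqList (by decide +kernel)

theorem m35 : cmul GC GE = Cce := eq_of_eqList (by decide +kernel)

theorem m41 : cmul GC GH = Cch := eq_of_eqList (by decide +kernel)

theorem m47 : cmul GE Pde = Bde := eq_of_eqList (by decide +kernel)

theorem m53 : cmul Pdh GD = Bdh := eq_of_eqList (by decide +kernel)

theorem m59 : cmul GF Pef = Bef := eq_of_eqList (by decide +kernel)

theorem m65 : cmul GI GE = Cei := eq_of_eqList (by decide +kernel)

theorem m71 : cmul GF GI = Cfi := eq_of_eqList (by decide +kernel)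

theorem m77 : cmul GH GI = Phi := eq_of_eqList (by decide +kernel)

theorem m83 : cmul GD GD = oneM := eq_of_eqList (by decide +kernel)

theorem m89 : cmul GD GC = W0_0 := eq_of_eqList (by decide +kernel)

theorem m95 : cmul W0_5 GH = W0_6 := eq_of_eqList (by decide +kernel)

theorem m101 : cmul GA GB = W1_0 := eq_of_eqList (by decide +kernel)

theorem m107 : cmul W1_5 W1_5 = W1p2 := eq_of_eqList (by decide +kernel)

theorem m113 : cmul W2_1 GE = W2_2 := eq_of_eqList (by decide +kernel)

theorem m119 : cmul W2p4 W2p4 = W2p8 := eq_of_eqList (by decide +kernel)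

end Cfsg.Agent.TwistedOut.Fi22Check
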