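import Cfsg.Agent.Twisted.PolyWord
import Cfsg.Agent.Lib.ChevCore.CommAll
import Cfsg.Agent.Lib.ChevCore.CertE6Table

/-!
Vectors and matrices on the adjoint module of `E₆` over a field with four elements, coded by bit planes:
bit `a` and bit `78 + a` of a number are the coordinates of the entry with code `a` on `1, ω` (helper97).
-/

set_option autoImplicit false
set_option linter.unusedSectionVars false
set_option linter.unusedSimpArgs false
set_option maxRecDepth 100000

namespace Cfsg.Agent.TwistedOut.Fi22Code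

open Cfsg.Lie Cfsg.Agent.ChevCore Cfsg.Agent.Twisted

/-- `2 ^ 78 - 1` -/
def mask : ℕ := 302231454903657293676543

/-- multiplication by `ω` -/
def mulW (v : ℕ) : ℕ :=
  Nat.lor (Nat.land (Nat.shiftRight v 78) mask)
    (Nat.shiftLeft (Nat.land (Nat.xor v (Nat.shiftRight v 78)) mask) 78)

/-- bit `i` as a number -/
def bitN (v i : ℕ) : ℕ := Nat.land (Nat.shiftRight v i) 1

/-- the coordinate `b` of `v` times the vector `c` -/
def colPart (c v b : ℕ) : ℕ :=
  Nat.xor (Nat.mul (bitN v b) c) (Nat.mul (bitN v (Nat.add 78 b)) (mulW c))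

/-- a combination of columns from position `i` -/
noncomputable def appFrom (A : List ℕ) (v : ℕ) : ℕ → ℕ :=
  List.rec (fun _ => 0) (fun c _ ih i => Nat.xor (colPart c v i) (ih (Nat.succ i))) A

/-- a matrix given by its columns applied to a vector -/
noncomputable def app (A : List ℕ) (v : ℕ) : ℕ := appFrom A v 0

/-- product of matrices -/
noncomputable def cmul (A B : List ℕ) : List ℕ := kmap (app A) B

/-- the identity plus a few changed columns applied to a vector -/
noncomputable def appS (S : List (ℕ × ℕ)) (v : ℕ) : ℕ :=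
  List.rec v (fun e _ ih => Nat.xor (colPart e.2 v e.1) ih) S

/-- a product of such maps applied to a vector -/
noncomputable def appW (W : List (List (ℕ × ℕ))) (v : ℕ) : ℕ :=
  List.rec v (fun S _ ih => forceN ih fun u => appS S u) W

/-- equality of lists of numbers -/
noncomputable def eqList (A : List ℕ) : List ℕ → Bool :=
  List.rec (fun B => B.isEmpty)
    (fun a _ ih B => List.rec false (fun b t _ => Nat.beq a b && ih t) B) A

/-- sum of two matrices -/
noncomputable def addM (A : List ℕ) : List ℕ → List ℕ :=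
  List.rec (fun _ => []) (fun a _ ih B => List.rec [] (fun b t _ => Nat.xor a b :: ih t) B) A

/-- the scalar `c` times a vector -/
def scal : ℕ → ℕ → ℕ
  | 0, _ => 0
  | 1, v => v
  | 2, v => mulW v
  | _, v => mulW (mulW v)

/-- product of coded scalars -/
def mul4 (a b : ℕ) : ℕ :=
  Nat.land (Nat.shiftRight 2625168384 (Nat.mul 2 (Nat.add (Nat.mul 4 a) b))) 3

/-- value of a monomial when every variable is `c` -/
noncomputable def mon4 (c : ℕ) (m : PolyWord.Mon) : ℕ := List.rec 1 (fun _ _ ih => mul4 c ih) m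

/-- value of a polynomial when every variable is `c` -/
noncomputable def pol4 (c : ℕ) (p : PolyWord.Pol) : ℕ :=
  List.rec 0 (fun m _ ih => Nat.xor (mon4 c m) ih) p

/-- the code of a sparse vector of polynomials when every variable is `c` -/
noncomputable def toCode (c : ℕ) (L : PolyWord.PVec) : ℕ :=
  List.rec 0 (fun e _ ih =>
    bif Nat.blt e.1 78 then Nat.xor (scal (pol4 c e.2) (Nat.shiftLeft 1 e.1)) ih else ih) L

/-- the basis, in order -/
noncomputable def oneM : List ℕ := kmap (fun b => Nat.shiftLeft 1 b) (List.range 78)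

/-- `S` gives the action of `x_r(c)` -/
noncomputable def letterB (r c : ℕ) (S : List (ℕ × ℕ)) : Bool :=
  Nat.blt r 72 && Nat.blt c 4 && kall S (fun e => Nat.blt e.1 78) &&
    kallUpTo 78 fun b => Nat.beq (appS S (Nat.shiftLeft 1 b))
      (toCode c (PolyWord.applyRoot chevE6 (fast chevE6 packedE6) r [[0]] [(b, [[]])]))

/-! ### meaning -/

theorem bitN_eq (v i : ℕ) : bitN v i = (v.testBit i).toNat := by
  rw [Nat.toNat_testBit]
  show (v >>> i) &&& 1 = _
  rw [Nat.and_one_is_mod, Nat.shiftRight_eq_div_pow]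

/-- a field with four elements and a primitive cube root of unity -/
structure Four (F : Type*) [Field F] (ω : F) : Prop where
  two : (2 : F) = 0
  quad : ω ^ 2 + ω + 1 = 0

variable {F : Type*} [Field F] {ω : F}

/-- a bit as a field element -/
def bitF (F : Type*) [Field F] (b : Bool) : F := if b then 1 else 0

/-- a coded scalar as a field element -/
def sev (ω : F) (c : ℕ) : F := bitF F (c.testBit 0) + bitF F (c.testBit 1) * ω

theorem Four.bitF_xor (h : Four F ω) (a b : Bool) : bitF F (a ^^ b) = bitF F a + bitF F b := by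
  cases a <;> cases b <;> simp [bitF]
  linear_combination -h.two

theorem Four.omega_sq (h : Four F ω) : ω * ω = 1 + ω := by
  linear_combination h.quad - (1 + ω) * h.two

/-- the vector of a code -/
def ev (ω : F) (v : ℕ) : chevE6.Idx → F :=
  fun a => bitF F (v.testBit (code chevE6 a)) + bitF F (v.testBit (78 + code chevE6 a)) * ω

/-- the matrix with the given coded columns -/
def evM (ω : F) (A : List ℕ) : Matrix chevE6.Idx chevE6.Idx F :=
  Matrix.of fun a b => ev ω (A.getD (code chevE6 b) 0) a

theorem code_lt78 (a : chevE6.Idx) : code chevE6 a < 78 := code_lt chevE6 a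

theorem ev_zero : ev ω 0 = 0 := by funext a; simp [ev, bitF]

theorem Four.ev_xor (h : Four F ω) (a b : ℕ) : ev ω (Nat.xor a b) = ev ω a + ev ω b := by
  funext z
  simp only [ev, Pi.add_apply]
  rw [show Nat.xor a b = a ^^^ b from rfl, Nat.testBit_xor, Nat.testBit_xor, h.bitF_xor, h.bitF_xor]
  ring

theorem mask_bit (j : ℕ) : mask.testBit j = decide (j < 78) := by
  rw [show mask = 2 ^ 78 - 1 by decide +kernel]
  exact Nat.testBit_two_pow_sub_one 78 j

theorem Four.ev_mulW (h : Four F ω) (v : ℕ) : ev ω (mulW v) = ω • ev ω v := by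
  funext z
  have hz := code_lt78 z
  simp only [ev, Pi.smul_apply, smul_eq_mul]
  have h1 : (mulW v).testBit (code chevE6 z) = v.testBit (78 + code chevE6 z) := by
    show ((v >>> 78 &&& mask) ||| (((v ^^^ (v >>> 78)) &&& mask) <<< 78)).testBit _ = _
    simp [Nat.testBit_or, Nat.testBit_and, Nat.testBit_shiftRight, Nat.testBit_shiftLeft, mask_bit, hz,
      Nat.not_le.mpr hz]
  have h2 : (mulW v).testBit (78 + code chevE6 z) =
      (v.testBit (code chevE6 z) ^^ v.testBit (78 + code chevE6 z)) := by
    show ((v >>> 78 &&& mask) ||| (((v ^^^ (v >>> 78)) &&& mask) <<< 78)).testBit _ = _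
    simp [Nat.testBit_or, Nat.testBit_and, Nat.testBit_shiftRight, Nat.testBit_shiftLeft, mask_bit,
      Nat.testBit_xor, hz]
  rw [h1, h2, h.bitF_xor]
  linear_combination (-bitF F (v.testBit (78 + code chevE6 z))) * h.omega_sq

theorem Four.ev_bit (h : Four F ω) (b : Bool) (c : ℕ) :
    ev ω (Nat.mul b.toNat c) = bitF F b • ev ω c := by
  cases b
  · show ev ω (0 * c) = _
    rw [zero_mul, ev_zero]; simp [bitF]
  · show ev ω (1 * c) = _
    rw [one_mul]; simp [bitF]

/-- the entry of `v` at the code `i` -/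
def entry (ω : F) (v i : ℕ) : F := bitF F (v.testBit i) + bitF F (v.testBit (78 + i)) * ω

theorem ev_apply (v : ℕ) (a : chevE6.Idx) : ev ω v a = entry ω v (code chevE6 a) := rfl

theorem Four.ev_colPart (h : Four F ω) (c v i : ℕ) :
    ev ω (colPart c v i) = entry ω v i • ev ω c := by
  rw [colPart, h.ev_xor, bitN_eq, bitN_eq, h.ev_bit, h.ev_bit, h.ev_mulW, entry, add_smul, mul_smul]
  rfl

theorem Four.ev_appFrom (h : Four F ω) (A : List ℕ) (v i : ℕ) : ev ω (appFrom A v i) =
    ∑ k ∈ Finset.range A.length, entry ω v (i + k) • ev ω (A.getD k 0) := by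
  induction A generalizing i with
  | nil => simp [appFrom, ev_zero]
  | cons c A ih =>
    show ev ω (Nat.xor (colPart c v i) (appFrom A v (i + 1))) = _
    rw [h.ev_xor, h.ev_colPart, ih, List.length_cons, Finset.sum_range_succ', add_comm]
    simp [add_assoc, add_comm 1]

theorem sum_code {M : Type*} [AddCommMonoid M] (f : ℕ → M) :
    ∑ a : chevE6.Idx, f (code chevE6 a) = ∑ k ∈ Finset.range 78, f k := by
  refine Finset.sum_bij (fun a _ => code chevE6 a) (fun a _ => Finset.mem_range.2 (code_lt78 a))
    (fun a _ b _ e => code_injective chevE6 e) (fun k hk => ?_) (fun a _ => rfl)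
  obtain ⟨a, ha⟩ := exists_code_eq chevE6 (Finset.mem_range.1 hk :)
  exact ⟨a, Finset.mem_univ _, ha⟩

theorem Four.ev_app (h : Four F ω) {A : List ℕ} (hA : A.length = 78) (v : ℕ) :
    ev ω (app A v) = Matrix.mulVec (evM ω A) (ev ω v) := by
  rw [app, h.ev_appFrom, hA]
  funext a
  rw [Finset.sum_apply, ← sum_code fun k => (entry ω v (0 + k) • ev ω (A.getD k 0)) a]
  simp only [Matrix.mulVec, dotProduct]
  refine Finset.sum_congr rfl fun b _ => ?_
  simp [evM, ev_apply, mul_comm]

theorem cmul_length (A B : List ℕ) : (cmul A B).length = B.length := by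
  rw [cmul, kmap_eq, List.length_map]

theorem Four.evM_cmul (h : Four F ω) {A B : List ℕ} (hA : A.length = 78) (hB : B.length = 78) :
    evM ω (cmul A B) = evM ω A * evM ω B := by
  ext a b
  have hb : code chevE6 b < B.length := hB.symm ▸ code_lt78 b
  show ev ω ((kmap (app A) B).getD (code chevE6 b) 0) a = _
  rw [kmap_eq, List.getD_eq_getElem _ _ (by simpa using hb), List.getElem_map, h.ev_app hA]
  simp only [Matrix.mulVec, dotProduct, Matrix.mul_apply, evM, Matrix.of_apply, List.getD_eq_getElem _ _ hb]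

theorem oneM_getD {i : ℕ} (hi : i < 78) : oneM.getD i 0 = 1 <<< i := by
  rw [oneM, kmap_eq, List.getD_eq_getElem _ _ (by simpa using hi)]
  simp

theorem oneM_length : oneM.length = 78 := by rw [oneM, kmap_eq]; simp

theorem bit_shift (i j : ℕ) : (1 <<< i).testBit j = decide (j = i) := by
  rw [Nat.one_shiftLeft, Nat.testBit_two_pow]
  exact decide_eq_decide.2 eq_comm

theorem ev_single (b : chevE6.Idx) :
    ev ω (1 <<< code chevE6 b) = Pi.single b (1 : F) := by
  funext a
  have ha := code_lt78 a
  have hb := code_lt78 b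
  simp only [ev, bit_shift]
  by_cases h : a = b
  · subst h; simp [bitF]
  · have h' : code chevE6 a ≠ code chevE6 b := fun e => h (code_injective chevE6 e)
    rw [Pi.single_eq_of_ne h]
    simp [bitF, h', show ¬78 + code chevE6 a = code chevE6 b by omega]

theorem evM_oneM : evM ω oneM = (1 : Matrix chevE6.Idx chevE6.Idx F) := by
  ext a b
  simp only [evM, Matrix.of_apply, oneM_getD (code_lt78 b), ev_single, Matrix.one_apply, Pi.single_apply]

theorem eq_of_eqList : ∀ {A B : List ℕ}, eqList A B = true → A = B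
  | [], [], _ => rfl
  | a :: as, b :: bs, h => by
    have h' : (Nat.beq a b && eqList as bs) = true := h
    rw [Bool.and_eq_true] at h'
    rw [Nat.eq_of_beq_eq_true h'.1, eq_of_eqList h'.2]
  | [], _ :: _, h => by simp [eqList] at h
  | _ :: _, [], h => by simp [eqList] at h

theorem addM_eq : ∀ A B : List ℕ, addM A B = List.zipWith Nat.xor A B
  | [], _ => rfl
  | _ :: _, [] => rfl
  | a :: as, b :: bs => by
    show Nat.xor a b :: addM as bs = _
    rw [addM_eq as bs, List.zipWith_cons_cons]

theorem addM_length {A B : List ℕ} (hA : A.length = 78) (hB : B.length = 78) :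
    (addM A B).length = 78 := by
  simp [addM_eq, hA, hB]

theorem Four.evM_addM (h : Four F ω) {A B : List ℕ} (hA : A.length = 78) (hB : B.length = 78) :
    evM ω (addM A B) = evM ω A + evM ω B := by
  ext a b
  have hb := code_lt78 b
  simp only [evM, Matrix.add_apply, Matrix.of_apply, addM_eq]
  rw [List.getD_eq_getElem _ _ (by simp; omega), List.getElem_zipWith, h.ev_xor, Pi.add_apply,
    List.getD_eq_getElem _ _ (by omega), List.getD_eq_getElem _ _ (by omega)]

theorem Four.ev_scal (h : Four F ω) {c : ℕ} (hc : c < 4) (v : ℕ) :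
    ev ω (Fi22Code.scal c v) = sev ω c • ev ω v := by
  interval_cases c
  · simp [Fi22Code.scal, ev_zero, sev, bitF]
  · simp [Fi22Code.scal, sev, bitF, show Nat.testBit 1 1 = false from rfl]
  · simp [Fi22Code.scal, h.ev_mulW, sev, bitF, Nat.testBit_succ]
  · simp [Fi22Code.scal, h.ev_mulW, sev, bitF, Nat.testBit_succ, smul_smul, h.omega_sq]

theorem mul4_lt (a b : ℕ) : mul4 a b < 4 :=
  Nat.lt_succ_of_le (Nat.and_le_right (n := _ >>> _))

theorem Four.sev_mul4 (h : Four F ω) {a b : ℕ} (ha : a < 4) (hb : b < 4) :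
    sev ω (mul4 a b) = sev ω a * sev ω b := by
  have key : mul4 a b = (([[0, 0, 0, 0], [0, 1, 2, 3], [0, 2, 3, 1], [0, 3, 1, 2]] : List (List ℕ)).getD a []).getD b 0 := by
    interval_cases a <;> interval_cases b <;> decide +kernel
  rw [key]
  interval_cases a <;> interval_cases b <;>
    simp [sev, bitF, Nat.testBit_succ] <;> first
      | linear_combination -h.omega_sq
      | linear_combination -h.omega_sq - ω * h.two
      | linear_combination -h.omega_sq - (1 + ω) * h.two

theorem Four.sev_xor (h : Four F ω) (a b : ℕ) : sev ω (Nat.xor a b) = sev ω a + sev ω b := by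
  simp only [sev, show Nat.xor a b = a ^^^ b from rfl, Nat.testBit_xor, h.bitF_xor]
  ring

theorem mon4_lt {c : ℕ} (m : PolyWord.Mon) : mon4 c m < 4 := by
  cases m with
  | nil => exact Nat.one_lt_succ_succ 2
  | cons a t => exact mul4_lt _ _

theorem Four.sev_mon4 (h : Four F ω) {c : ℕ} (hc : c < 4) (m : PolyWord.Mon) :
    sev ω (mon4 c m) = PolyWord.mev (fun _ => sev ω c) m := by
  induction m with
  | nil => simp [mon4, PolyWord.mev, sev, bitF, show Nat.testBit 1 1 = false from rfl]
  | cons a t ih =>
    show sev ω (mul4 c (mon4 c t)) = _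
    rw [h.sev_mul4 hc (mon4_lt t), ih]
    simp [PolyWord.mev]

theorem pol4_lt {c : ℕ} (p : PolyWord.Pol) : pol4 c p < 4 := by
  induction p with
  | nil => exact Nat.succ_pos 3
  | cons m t ih => exact Nat.xor_lt_two_pow (n := 2) (mon4_lt m) ih

theorem Four.sev_pol4 (h : Four F ω) {c : ℕ} (hc : c < 4) (p : PolyWord.Pol) :
    sev ω (pol4 c p) = PolyWord.pev (fun _ => sev ω c) p := by
  induction p with
  | nil => simp [pol4, sev, bitF]
  | cons m t ih =>
    show sev ω (Nat.xor (mon4 c m) (pol4 c t)) = _
    rw [h.sev_xor, h.sev_mon4 hc, ih, PolyWord.pev_cons]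

theorem Four.ev_toCode (h : Four F ω) {c : ℕ} (hc : c < 4) (L : PolyWord.PVec) :
    ev ω (toCode c L) = PolyWord.pvec chevE6 (fun _ => sev ω c) L := by
  induction L with
  | nil => simp [toCode, ev_zero, PolyWord.pvec]; rfl
  | cons e t ih =>
    obtain ⟨k, p⟩ := e
    show ev ω (bif Nat.blt k 78 then Nat.xor (Fi22Code.scal (pol4 c p) (Nat.shiftLeft 1 k)) (toCode c t) else toCode c t) = _
    rw [PolyWord.pvec_cons]
    cases hk : Nat.blt k 78
    · rw [cond_false, ih]
      have hk' : ¬k < 78 := fun hlt => by simp_all [← Nat.blt_eq]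
      have : (fun a => if k = code chevE6 a then PolyWord.pev (fun _ => sev ω c) p else 0) =
          (0 : chevE6.Idx → F) := by
        funext a
        have := code_lt78 a
        simp [show k ≠ code chevE6 a by omega]
      rw [this, zero_add]
    · have hk' : k < 78 := by simpa [Nat.blt_eq] using hk
      obtain ⟨b, rfl⟩ := exists_code_eq chevE6 (v := k) hk'
      rw [cond_true, h.ev_xor, ih, h.ev_scal (pol4_lt p), h.sev_pol4 hc]
      congr 1
      rw [show Nat.shiftLeft 1 (code chevE6 b) = 1 <<< code chevE6 b from rfl, ev_single]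
      funext a
      by_cases e : b = a
      · subst e; simp
      · have hne : code chevE6 b ≠ code chevE6 a := fun he => e (code_injective chevE6 he)
        simp [Ne.symm e, hne]

/-- `u` maps to `ev u` under `f` and `M` compatibly -/
def Rep (ω : F) (f : ℕ → ℕ) (M : Matrix chevE6.Idx chevE6.Idx F) : Prop :=
  ∀ v, ev ω (f v) = Matrix.mulVec M (ev ω v)

theorem rep_cols {f : ℕ → ℕ} {M : Matrix chevE6.Idx chevE6.Idx F} (hf : Rep ω f M) :
    evM ω (kmap f oneM) = M := by
  ext a b
  have hb := code_lt78 b
  show ev ω ((kmap f oneM).getD (code chevE6 b) 0) a = _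
  rw [kmap_eq, List.getD_eq_getElem _ _ (by simpa [oneM_length] using hb), List.getElem_map, hf,
    ← List.getD_eq_getElem oneM 0 (by rw [oneM_length]; exact hb), oneM_getD hb, ev_single]
  simp

/-- the coordinate of a code -/
noncomputable def idx (i : ℕ) : chevE6.Idx :=
  if h : i < 78 then (exists_code_eq chevE6 (v := i) h).choose else (exists_code_eq chevE6 (v := 0) (Nat.zero_lt_succ 77)).choose

theorem code_idx {i : ℕ} (h : i < 78) : code chevE6 (idx i) = i := by
  rw [idx, dif_pos h]
  exact (exists_code_eq chevE6 (v := i) h).choose_spec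

/-- the linear map of a list of changed columns -/
noncomputable def linS (ω : F) (S : List (ℕ × ℕ)) : (chevE6.Idx → F) →ₗ[F] (chevE6.Idx → F) :=
  LinearMap.id + (S.map fun e : ℕ × ℕ =>
    (LinearMap.proj (idx e.1) : (chevE6.Idx → F) →ₗ[F] F).smulRight (ev ω e.2)).sum

theorem Four.ev_appS (h : Four F ω) : ∀ (S : List (ℕ × ℕ)), (∀ e ∈ S, e.1 < 78) → ∀ v : ℕ,
    ev ω (appS S v) = linS ω S (ev ω v)
  | [], _, v => by simp [appS, linS]
  | e :: S, hS, v => by
    show ev ω (Nat.xor (colPart e.2 v e.1) (appS S v)) = _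
    rw [h.ev_xor, h.ev_colPart, h.ev_appS S (fun x hx => hS x (List.mem_cons_of_mem _ hx)) v]
    have he := code_idx (hS e List.mem_cons_self)
    simp only [linS, List.map_cons, List.sum_cons, LinearMap.add_apply, LinearMap.smulRight_apply,
      LinearMap.proj_apply, ev_apply, he, LinearMap.id_apply]
    exact add_left_comm _ _ _

theorem rep_letter [CharP F 2] (h : Four F ω) {r c : ℕ} {S : List (ℕ × ℕ)} (hB : letterB r c S = true) :
    Rep ω (appS S) (chevE6.x F r (sev ω c)) := by
  simp only [letterB, Bool.and_eq_true, Nat.blt_eq, kall_iff, kallUpTo_iff] at hB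
  obtain ⟨⟨⟨hr, hc⟩, hS⟩, hb⟩ := hB
  rw [(fast_eq_std chkLinkE6).1] at hb
  intro v
  rw [h.ev_appS S hS]
  have e : linS ω S = Matrix.toLin' (chevE6.x F r (sev ω c)) := by
    refine LinearMap.pi_ext' fun b => LinearMap.ext_ring ?_
    simp only [LinearMap.comp_apply, LinearMap.coe_single]
    rw [← ev_single (ω := ω) b, ← h.ev_appS S hS,
      show 1 <<< code chevE6 b = Nat.shiftLeft 1 (code chevE6 b) from rfl,
      Nat.eq_of_beq_eq_true (hb (code chevE6 b) (code_lt78 b)), h.ev_toCode hc,
      show Nat.shiftLeft 1 (code chevE6 b) = 1 <<< code chevE6 b from rfl, ev_single, Matrix.toLin'_apply]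
    have h2 := PolyWord.pvec_applyW (D := chevE6) commGoodE6.toGood (fun _ => sev ω c)
      [(code chevE6 b, [[]])] [(r, [[0]])] (fun rp hrp => by rw [List.mem_singleton.1 hrp]; exact hr)
    rw [show PolyWord.applyW chevE6 (std chevE6) [(r, [[0]])] [(code chevE6 b, [[]])] =
      PolyWord.applyRoot chevE6 (std chevE6) r [[0]] [(code chevE6 b, [[]])] from rfl] at h2
    rw [h2]
    congr 1
    · simp [ChevalleyDatum.wordMat, PolyWord.pev, PolyWord.mev]
    · funext a
      by_cases e : b = a
      · subst e; simp [PolyWord.pvec, PolyWord.pev, PolyWord.mev]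
      · have hne : code chevE6 b ≠ code chevE6 a := fun he => e (code_injective chevE6 he)
        simp [PolyWord.pvec, Ne.symm e, hne]
  rw [e, Matrix.toLin'_apply]

/-- `W` lists the changed columns of the letters of `w` -/
def Letters (L : List ((ℕ × ℕ) × List (ℕ × ℕ))) : Prop := ∀ e ∈ L, letterB e.1.1 e.1.2 e.2 = true

theorem rep_word [CharP F 2] (h : Four F ω) {L : List ((ℕ × ℕ) × List (ℕ × ℕ))} (hL : Letters L) :
    Rep ω (appW (L.map Prod.snd))
      (chevE6.wordMat F (L.map fun e => (e.1.1, sev ω e.1.2))) := by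
  induction L with
  | nil => intro v; simp [appW, ChevalleyDatum.wordMat]
  | cons e L ih =>
    intro v
    show ev ω (forceN (appW (L.map Prod.snd) v) fun u => appS e.2 u) = _
    rw [forceN_eq, rep_letter h (hL e List.mem_cons_self), ih (fun x hx => hL x (List.mem_cons_of_mem _ hx)),
      Matrix.mulVec_mulVec]
    simp [ChevalleyDatum.wordMat]

end Cfsg.Agent.TwistedOut.Fi22Code
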