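import Cfsg.Agent.TwistedOut.Fi22Check0
import Cfsg.Agent.TwistedOut.Fi22Check1
import Cfsg.Agent.TwistedOut.Fi22Check2
import Cfsg.Agent.TwistedOut.Fi22Check3
import Cfsg.Agent.TwistedOut.Fi22Check4
import Cfsg.Agent.TwistedOut.Fi22Check5
import Cfsg.Prelude.Def_Spor_Fi22

/-! The relations of `Fi₂₂` between the nine matrices, generated (helper97). -/

set_option autoImplicit false
set_option maxRecDepth 100000
set_option linter.unusedSimpArgs false

namespace Cfsg.Agent.TwistedOut.Fi22Rel

open Cfsg.Lie Cfsg.Agent.TwistedOut.Fi22Code Cfsg.Agent.TwistedOut.Fi22Data Cfsg.Agent.TwistedOut.Fi22Check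
open Cfsg.Spor

variable {F : Type*} [Field F] {ω : F}

/-- the matrix of a generator -/
noncomputable def gMat (ω : F) : Fi22.Gen → Matrix chevE6.Idx chevE6.Idx F
  | .a => evM ω GA
  | .b => evM ω GB
  | .c => evM ω GC
  | .d => evM ω GD
  | .e => evM ω GE
  | .f => evM ω GF
  | .g => evM ω GG
  | .h => evM ω GH
  | .i => evM ω GI

theorem prod_of (h : Four F ω) {A B C : List ℕ} (e : cmul A B = C) (hA : A.length = 78)
    (hB : B.length = 78) : evM ω A * evM ω B = evM ω C := by rw [← h.evM_cmul hA hB, e]

theorem braid_pow {M : Type*} [Monoid M] {x y : M} (hx : x * x = 1) (hy : y * y = 1)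
    (h : x * y * x = y * (x * y)) : (x * y) ^ 3 = 1 := by
  calc (x * y) ^ 3 = (x * y * x) * (y * (x * y)) := by simp [pow_succ, pow_zero, mul_assoc]
    _ = (x * y * x) * (x * y * x) := by rw [h]
    _ = x * (y * ((x * x) * (y * x))) := by simp [mul_assoc]
    _ = x * ((y * y) * x) := by rw [hx, one_mul, mul_assoc]
    _ = 1 := by rw [hy, one_mul, hx]

theorem comm_pow {M : Type*} [Monoid M] {x y : M} (hx : x * x = 1) (hy : y * y = 1)
    (h : x * y = y * x) : (x * y) ^ 2 = 1 := by
  calc (x * y) ^ 2 = (x * y) * (y * x) := by rw [pow_two]; conv_lhs => arg 2; rw [h]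
    _ = x * ((y * y) * x) := by simp [mul_assoc]
    _ = 1 := by rw [hy, one_mul, hx]

theorem swap_pow {M : Type*} [Monoid M] {x y : M} (hx : x * x = 1) (hy : y * y = 1) {n : ℕ}
    (h : (x * y) ^ n = 1) : (y * x) ^ n = 1 := by
  induction n generalizing x y with
  | zero => exact pow_zero _
  | succ n _ =>
    calc (y * x) ^ (n + 1) = (y * x) ^ (n + 1) * (y * y) := by rw [hy, mul_one]
      _ = y * ((x * y) ^ (n + 1)) * y := by
        rw [← mul_assoc]
        congr 1
        exact (SemiconjBy.pow_right (show SemiconjBy y (x * y) (y * x) by simp [SemiconjBy, mul_assoc]) _).eq.symm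
      _ = 1 := by rw [h, mul_one, hy]

variable (h : Four F ω)

include h

theorem sq_a : gMat ω .a * gMat ω .a = 1 := (prod_of h m80 (show List.length GA = 78 by decide +kernel) (show List.length GA = 78 by decide +kernel)).trans evM_oneM

theorem sq_b : gMat ω .b * gMat ω .b = 1 := (prod_of h m81 (show List.length GB = 78 by decide +kernel) (show List.length GB = 78 by decide +kernel)).trans evM_oneM

theorem sq_c : gMat ω .c * gMat ω .c = 1 := (prod_of h m82 (show List.length GC = 78 by decide +kernel) (show List.length GC = 78 by decide +kernel)).trans evM_oneM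

theorem sq_d : gMat ω .d * gMat ω .d = 1 := (prod_of h m83 (show List.length GD = 78 by decide +kernel) (show List.length GD = 78 by decide +kernel)).trans evM_oneM

theorem sq_e : gMat ω .e * gMat ω .e = 1 := (prod_of h m84 (show List.length GE = 78 by decide +kernel) (show List.length GE = 78 by decide +kernel)).trans evM_oneM

theorem sq_f : gMat ω .f * gMat ω .f = 1 := (prod_of h m85 (show List.length GF = 78 by decide +kernel) (show List.length GF = 78 by decide +kernel)).trans evM_oneM

theorem sq_g : gMat ω .g * gMat ω .g = 1 := (prod_of h m86 (show List.length GG = 78 by decide +kernel) (show List.length GG = 78 by decide +kernel)).trans evM_oneM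

theorem sq_h : gMat ω .h * gMat ω .h = 1 := (prod_of h m87 (show List.length GH = 78 by decide +kernel) (show List.length GH = 78 by decide +kernel)).trans evM_oneM

theorem sq_i : gMat ω .i * gMat ω .i = 1 := (prod_of h m88 (show List.length GI = 78 by decide +kernel) (show List.length GI = 78 by decide +kernel)).trans evM_oneM

theorem rel_ab : (gMat ω .a * gMat ω .b) ^ 3 = 1 := by
  refine braid_pow (sq_a h) (sq_b h) ?_
  show evM ω GA * evM ω GB * evM ω GA = evM ω GB * (evM ω GA * evM ω GB)
  rw [prod_of h m0 (show List.length GA = 78 by decide +kernel) (show List.length GB = 78 by decide +kernel), prod_of h m1 (show List.length Pab = 78 by decide +kernel) (show List.length GA = 78 by decide +kernel), prod_of h m2 (show List.length GB = 78 by decide +kernel) (show List.length Pab = 78 by decide +kernel)]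

theorem rel_ac : (gMat ω .a * gMat ω .c) ^ 2 = 1 :=
  comm_pow (sq_a h) (sq_c h) ((prod_of h m3 (show List.length GA = 78 by decide +kernel) (show List.length GC = 78 by decide +kernel)).trans (prod_of h m4 (show List.length GC = 78 by decide +kernel) (show List.length GA = 78 by decide +kernel)).symm)

theorem rel_ad : (gMat ω .a * gMat ω .d) ^ 2 = 1 :=
  comm_pow (sq_a h) (sq_d h) ((prod_of h m5 (show List.length GA = 78 by decide +kernel) (show List.length GD = 78 by decide +kernel)).trans (prod_of h m6 (show List.length GD = 78 by decide +kernel) (show List.length GA = 78 by decide +kernel)).symm)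

theorem rel_ae : (gMat ω .a * gMat ω .e) ^ 2 = 1 :=
  comm_pow (sq_a h) (sq_e h) ((prod_of h m7 (show List.length GA = 78 by decide +kernel) (show List.length GE = 78 by decide +kernel)).trans (prod_of h m8 (show List.length GE = 78 by decide +kernel) (show List.length GA = 78 by decide +kernel)).symm)

theorem rel_af : (gMat ω .a * gMat ω .f) ^ 2 = 1 :=
  comm_pow (sq_a h) (sq_f h) ((prod_of h m9 (show List.length GA = 78 by decide +kernel) (show List.length GF = 78 by decide +kernel)).trans (prod_of h m10 (show List.length GF = 78 by decide +kernel) (show List.length GA = 78 by decide +kernel)).symm)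

theorem rel_ag : (gMat ω .a * gMat ω .g) ^ 2 = 1 :=
  comm_pow (sq_a h) (sq_g h) ((prod_of h m11 (show List.length GA = 78 by decide +kernel) (show List.length GG = 78 by decide +kernel)).trans (prod_of h m12 (show List.length GG = 78 by decide +kernel) (show List.length GA = 78 by decide +kernel)).symm)

theorem rel_ah : (gMat ω .a * gMat ω .h) ^ 2 = 1 :=
  comm_pow (sq_a h) (sq_h h) ((prod_of h m13 (show List.length GA = 78 by decide +kernel) (show List.length GH = 78 by decide +kernel)).trans (prod_of h m14 (show List.length GH = 78 by decide +kernel) (show List.length GA = 78 by decide +kernel)).symm)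

theorem rel_ai : (gMat ω .a * gMat ω .i) ^ 2 = 1 :=
  comm_pow (sq_a h) (sq_i h) ((prod_of h m15 (show List.length GA = 78 by decide +kernel) (show List.length GI = 78 by decide +kernel)).trans (prod_of h m16 (show List.length GI = 78 by decide +kernel) (show List.length GA = 78 by decide +kernel)).symm)

theorem rel_bc : (gMat ω .b * gMat ω .c) ^ 3 = 1 := by
  refine braid_pow (sq_b h) (sq_c h) ?_
  show evM ω GB * evM ω GC * evM ω GB = evM ω GC * (evM ω GB * evM ω GC)
  rw [prod_of h m17 (show List.length GB = 78 by decide +kernel) (show List.length GC = 78 by decide +kernel), prod_of h m18 (show List.length Pbc = 78 by decide +kernel) (show List.length GB = 78 by decide +kernel), prod_of h m19 (show List.length GC = 78 by decide +kernel) (show List.length Pbc = 78 by decide +kernel)]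

theorem rel_bd : (gMat ω .b * gMat ω .d) ^ 2 = 1 :=
  comm_pow (sq_b h) (sq_d h) ((prod_of h m20 (show List.length GB = 78 by decide +kernel) (show List.length GD = 78 by decide +kernel)).trans (prod_of h m21 (show List.length GD = 78 by decide +kernel) (show List.length GB = 78 by decide +kernel)).symm)

theorem rel_be : (gMat ω .b * gMat ω .e) ^ 2 = 1 :=
  comm_pow (sq_b h) (sq_e h) ((prod_of h m22 (show List.length GB = 78 by decide +kernel) (show List.length GE = 78 by decide +kernel)).trans (prod_of h m23 (show List.length GE = 78 by decide +kernel) (show List.length GB = 78 by decide +kernel)).symm)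

theorem rel_bf : (gMat ω .b * gMat ω .f) ^ 2 = 1 :=
  comm_pow (sq_b h) (sq_f h) ((prod_of h m24 (show List.length GB = 78 by decide +kernel) (show List.length GF = 78 by decide +kernel)).trans (prod_of h m25 (show List.length GF = 78 by decide +kernel) (show List.length GB = 78 by decide +kernel)).symm)

theorem rel_bg : (gMat ω .b * gMat ω .g) ^ 2 = 1 :=
  comm_pow (sq_b h) (sq_g h) ((prod_of h m26 (show List.length GB = 78 by decide +kernel) (show List.length GG = 78 by decide +kernel)).trans (prod_of h m27 (show List.length GG = 78 by decide +kernel) (show List.length GB = 78 by decide +kernel)).symm)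

theorem rel_bh : (gMat ω .b * gMat ω .h) ^ 2 = 1 :=
  comm_pow (sq_b h) (sq_h h) ((prod_of h m28 (show List.length GB = 78 by decide +kernel) (show List.length GH = 78 by decide +kernel)).trans (prod_of h m29 (show List.length GH = 78 by decide +kernel) (show List.length GB = 78 by decide +kernel)).symm)

theorem rel_bi : (gMat ω .b * gMat ω .i) ^ 2 = 1 :=
  comm_pow (sq_b h) (sq_i h) ((prod_of h m30 (show List.length GB = 78 by decide +kernel) (show List.length GI = 78 by decide +kernel)).trans (prod_of h m31 (show List.length GI = 78 by decide +kernel) (show List.length GB = 78 by decide +kernel)).symm)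

theorem rel_cd : (gMat ω .c * gMat ω .d) ^ 3 = 1 := by
  refine braid_pow (sq_c h) (sq_d h) ?_
  show evM ω GC * evM ω GD * evM ω GC = evM ω GD * (evM ω GC * evM ω GD)
  rw [prod_of h m32 (show List.length GC = 78 by decide +kernel) (show List.length GD = 78 by decide +kernel), prod_of h m33 (show List.length Pcd = 78 by decide +kernel) (show List.length GC = 78 by decide +kernel), prod_of h m34 (show List.length GD = 78 by decide +kernel) (show List.length Pcd = 78 by decide +kernel)]

theorem rel_ce : (gMat ω .c * gMat ω .e) ^ 2 = 1 :=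
  comm_pow (sq_c h) (sq_e h) ((prod_of h m35 (show List.length GC = 78 by decide +kernel) (show List.length GE = 78 by decide +kernel)).trans (prod_of h m36 (show List.length GE = 78 by decide +kernel) (show List.length GC = 78 by decide +kernel)).symm)

theorem rel_cf : (gMat ω .c * gMat ω .f) ^ 2 = 1 :=
  comm_pow (sq_c h) (sq_f h) ((prod_of h m37 (show List.length GC = 78 by decide +kernel) (show List.length GF = 78 by decide +kernel)).trans (prod_of h m38 (show List.length GF = 78 by decide +kernel) (show List.length GC = 78 by decide +kernel)).symm)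

theorem rel_cg : (gMat ω .c * gMat ω .g) ^ 2 = 1 :=
  comm_pow (sq_c h) (sq_g h) ((prod_of h m39 (show List.length GC = 78 by decide +kernel) (show List.length GG = 78 by decide +kernel)).trans (prod_of h m40 (show List.length GG = 78 by decide +kernel) (show List.length GC = 78 by decide +kernel)).symm)

theorem rel_ch : (gMat ω .c * gMat ω .h) ^ 2 = 1 :=
  comm_pow (sq_c h) (sq_h h) ((prod_of h m41 (show List.length GC = 78 by decide +kernel) (show List.length GH = 78 by decide +kernel)).trans (prod_of h m42 (show List.length GH = 78 by decide +kernel) (show List.length GC = 78 by decide +kernel)).symm)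

theorem rel_ci : (gMat ω .c * gMat ω .i) ^ 2 = 1 :=
  comm_pow (sq_c h) (sq_i h) ((prod_of h m43 (show List.length GC = 78 by decide +kernel) (show List.length GI = 78 by decide +kernel)).trans (prod_of h m44 (show List.length GI = 78 by decide +kernel) (show List.length GC = 78 by decide +kernel)).symm)

theorem rel_de : (gMat ω .d * gMat ω .e) ^ 3 = 1 := by
  refine braid_pow (sq_d h) (sq_e h) ?_
  show evM ω GD * evM ω GE * evM ω GD = evM ω GE * (evM ω GD * evM ω GE)
  rw [prod_of h m45 (show List.length GD = 78 by decide +kernel) (show List.length GE = 78 by decide +kernel), prod_of h m46 (show List.length Pde = 78 by decide +kernel) (show List.length GD = 78 by decide +kernel), prod_of h m47 (show List.length GE = 78 by decide +kernel) (show List.length Pde = 78 by decide +kernel)]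

theorem rel_df : (gMat ω .d * gMat ω .f) ^ 2 = 1 :=
  comm_pow (sq_d h) (sq_f h) ((prod_of h m48 (show List.length GD = 78 by decide +kernel) (show List.length GF = 78 by decide +kernel)).trans (prod_of h m49 (show List.length GF = 78 by decide +kernel) (show List.length GD = 78 by decide +kernel)).symm)

theorem rel_dg : (gMat ω .d * gMat ω .g) ^ 2 = 1 :=
  comm_pow (sq_d h) (sq_g h) ((prod_of h m50 (show List.length GD = 78 by decide +kernel) (show List.length GG = 78 by decide +kernel)).trans (prod_of h m51 (show List.length GG = 78 by decide +kernel) (show List.length GD = 78 by decide +kernel)).symm)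

theorem rel_dh : (gMat ω .d * gMat ω .h) ^ 3 = 1 := by
  refine braid_pow (sq_d h) (sq_h h) ?_
  show evM ω GD * evM ω GH * evM ω GD = evM ω GH * (evM ω GD * evM ω GH)
  rw [prod_of h m52 (show List.length GD = 78 by decide +kernel) (show List.length GH = 78 by decide +kernel), prod_of h m53 (show List.length Pdh = 78 by decide +kernel) (show List.length GD = 78 by decide +kernel), prod_of h m54 (show List.length GH = 78 by decide +kernel) (show List.length Pdh = 78 by decide +kernel)]

theorem rel_di : (gMat ω .d * gMat ω .i) ^ 2 = 1 :=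
  comm_pow (sq_d h) (sq_i h) ((prod_of h m55 (show List.length GD = 78 by decide +kernel) (show List.length GI = 78 by decide +kernel)).trans (prod_of h m56 (show List.length GI = 78 by decide +kernel) (show List.length GD = 78 by decide +kernel)).symm)

theorem rel_ef : (gMat ω .e * gMat ω .f) ^ 3 = 1 := by
  refine braid_pow (sq_e h) (sq_f h) ?_
  show evM ω GE * evM ω GF * evM ω GE = evM ω GF * (evM ω GE * evM ω GF)
  rw [prod_of h m57 (show List.length GE = 78 by decide +kernel) (show List.length GF = 78 by decide +kernel), prod_of h m58 (show List.length Pef = 78 by decide +kernel) (show List.length GE = 78 by decide +kernel), prod_of h m59 (show List.length GF = 78 by decide +kernel) (show List.length Pef = 78 by decide +kernel)]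

theorem rel_eg : (gMat ω .e * gMat ω .g) ^ 2 = 1 :=
  comm_pow (sq_e h) (sq_g h) ((prod_of h m60 (show List.length GE = 78 by decide +kernel) (show List.length GG = 78 by decide +kernel)).trans (prod_of h m61 (show List.length GG = 78 by decide +kernel) (show List.length GE = 78 by decide +kernel)).symm)

theorem rel_eh : (gMat ω .e * gMat ω .h) ^ 2 = 1 :=
  comm_pow (sq_e h) (sq_h h) ((prod_of h m62 (show List.length GE = 78 by decide +kernel) (show List.length GH = 78 by decide +kernel)).trans (prod_of h m63 (show List.length GH = 78 by decide +kernel) (show List.length GE = 78 by decide +kernel)).symm)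

theorem rel_ei : (gMat ω .e * gMat ω .i) ^ 2 = 1 :=
  comm_pow (sq_e h) (sq_i h) ((prod_of h m64 (show List.length GE = 78 by decide +kernel) (show List.length GI = 78 by decide +kernel)).trans (prod_of h m65 (show List.length GI = 78 by decide +kernel) (show List.length GE = 78 by decide +kernel)).symm)

theorem rel_fg : (gMat ω .f * gMat ω .g) ^ 3 = 1 := by
  refine braid_pow (sq_f h) (sq_g h) ?_
  show evM ω GF * evM ω GG * evM ω GF = evM ω GG * (evM ω GF * evM ω GG)
  rw [prod_of h m66 (show List.length GF = 78 by decide +kernel) (show List.length GG = 78 by decide +kernel), prod_of h m67 (show List.length Pfg = 78 by decide +kernel) (show List.length GF = 78 by decide +kernel), prod_of h m68 (show List.length GG = 78 by decide +kernel) (show List.length Pfg = 78 by decide +kernel)]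

theorem rel_fh : (gMat ω .f * gMat ω .h) ^ 2 = 1 :=
  comm_pow (sq_f h) (sq_h h) ((prod_of h m69 (show List.length GF = 78 by decide +kernel) (show List.length GH = 78 by decide +kernel)).trans (prod_of h m70 (show List.length GH = 78 by decide +kernel) (show List.length GF = 78 by decide +kernel)).symm)

theorem rel_fi : (gMat ω .f * gMat ω .i) ^ 2 = 1 :=
  comm_pow (sq_f h) (sq_i h) ((prod_of h m71 (show List.length GF = 78 by decide +kernel) (show List.length GI = 78 by decide +kernel)).trans (prod_of h m72 (show List.length GI = 78 by decide +kernel) (show List.length GF = 78 by decide +kernel)).symm)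

theorem rel_gh : (gMat ω .g * gMat ω .h) ^ 2 = 1 :=
  comm_pow (sq_g h) (sq_h h) ((prod_of h m73 (show List.length GG = 78 by decide +kernel) (show List.length GH = 78 by decide +kernel)).trans (prod_of h m74 (show List.length GH = 78 by decide +kernel) (show List.length GG = 78 by decide +kernel)).symm)

theorem rel_gi : (gMat ω .g * gMat ω .i) ^ 2 = 1 :=
  comm_pow (sq_g h) (sq_i h) ((prod_of h m75 (show List.length GG = 78 by decide +kernel) (show List.length GI = 78 by decide +kernel)).trans (prod_of h m76 (show List.length GI = 78 by decide +kernel) (show List.length GG = 78 by decide +kernel)).symm)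

theorem rel_hi : (gMat ω .h * gMat ω .i) ^ 3 = 1 := by
  refine braid_pow (sq_h h) (sq_i h) ?_
  show evM ω GH * evM ω GI * evM ω GH = evM ω GI * (evM ω GH * evM ω GI)
  rw [prod_of h m77 (show List.length GH = 78 by decide +kernel) (show List.length GI = 78 by decide +kernel), prod_of h m78 (show List.length Phi = 78 by decide +kernel) (show List.length GH = 78 by decide +kernel), prod_of h m79 (show List.length GI = 78 by decide +kernel) (show List.length Phi = 78 by decide +kernel)]

theorem extra0 : (gMat ω .d * gMat ω .c * gMat ω .b * gMat ω .d * gMat ω .e * gMat ω .f * gMat ω .d * gMat ω .h * gMat ω .i) ^ 10 = 1 := by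
  show (evM ω GD * evM ω GC * evM ω GB * evM ω GD * evM ω GE * evM ω GF * evM ω GD * evM ω GH * evM ω GI) ^ 10 = 1
  rw [prod_of h m89 (show List.length GD = 78 by decide +kernel) (show List.length GC = 78 by decide +kernel), prod_of h m90 (show List.length W0_0 = 78 by decide +kernel) (show List.length GB = 78 by decide +kernel), prod_of h m91 (show List.length W0_1 = 78 by decide +kernel) (show List.length GD = 78 by decide +kernel), prod_of h m92 (show List.length W0_2 = 78 by decide +kernel) (show List.length GE = 78 by decide +kernel), prod_of h m93 (show List.length W0_3 = 78 by decide +kernel) (show List.length GF = 78 by decide +kernel), prod_of h m94 (show List.length W0_4 = 78 by decide +kernel) (show List.length GD = 78 by decide +kernel), prod_of h m95 (show List.length W0_5 = 78 by decide +kernel) (show List.length GH = 78 by decide +kernel), prod_of h m96 (show List.length W0_6 = 78 by decide +kernel) (show List.length GI = 78 by decide +kernel)]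
  have e2 : evM ω W0_7 ^ 2 = evM ω W0p2 := (pow_two _).trans (prod_of h m97 (show List.length W0_7 = 78 by decide +kernel) (show List.length W0_7 = 78 by decide +kernel))
  have e4 : evM ω W0_7 ^ 4 = evM ω W0p4 :=
    (pow_add _ 2 2).trans ((congrArg₂ (· * ·) e2 e2).trans (prod_of h m98 (show List.length W0p2 = 78 by decide +kernel) (show List.length W0p2 = 78 by decide +kernel)))
  have e8 : evM ω W0_7 ^ 8 = evM ω W0p8 :=
    (pow_add _ 4 4).trans ((congrArg₂ (· * ·) e4 e4).trans (prod_of h m99 (show List.length W0p4 = 78 by decide +kernel) (show List.length W0p4 = 78 by decide +kernel)))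
  exact (pow_add _ 8 2).trans ((congrArg₂ (· * ·) e8 e2).trans ((prod_of h m100 (show List.length W0p8 = 78 by decide +kernel) (show List.length W0p2 = 78 by decide +kernel)).trans evM_oneM))

theorem extra1 : (gMat ω .a * gMat ω .b * gMat ω .c * gMat ω .d * gMat ω .e * gMat ω .f * gMat ω .h) ^ 9 = 1 := by
  show (evM ω GA * evM ω GB * evM ω GC * evM ω GD * evM ω GE * evM ω GF * evM ω GH) ^ 9 = 1
  rw [prod_of h m101 (show List.length GA = 78 by decide +kernel) (show List.length GB = 78 by decide +kernel), prod_of h m102 (show List.length W1_0 = 78 by decide +kernel) (show List.length GC = 78 by decide +kernel), prod_of h m103 (show List.length W1_1 = 78 by decide +kernel) (show List.length GD = 78 by decide +kernel), prod_of h m104 (show List.length W1_2 = 78 by decide +kernel) (show List.length GE = 78 by decide +kernel), prod_of h m105 (show List.length W1_3 = 78 by decide +kernel) (show List.length GF = 78 by decide +kernel), prod_of h m106 (show List.length W1_4 = 78 by decide +kernel) (show List.length GH = 78 by decide +kernel)]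
  have e2 : evM ω W1_5 ^ 2 = evM ω W1p2 := (pow_two _).trans (prod_of h m107 (show List.length W1_5 = 78 by decide +kernel) (show List.length W1_5 = 78 by decide +kernel))
  have e4 : evM ω W1_5 ^ 4 = evM ω W1p4 :=
    (pow_add _ 2 2).trans ((congrArg₂ (· * ·) e2 e2).trans (prod_of h m108 (show List.length W1p2 = 78 by decide +kernel) (show List.length W1p2 = 78 by decide +kernel)))
  have e8 : evM ω W1_5 ^ 8 = evM ω W1p8 :=
    (pow_add _ 4 4).trans ((congrArg₂ (· * ·) e4 e4).trans (prod_of h m109 (show List.length W1p4 = 78 by decide +kernel) (show List.length W1p4 = 78 by decide +kernel)))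
  exact (pow_add _ 8 1).trans ((congrArg₂ (· * ·) e8 (pow_one _)).trans ((prod_of h m110 (show List.length W1p8 = 78 by decide +kernel) (show List.length W1_5 = 78 by decide +kernel)).trans evM_oneM))

theorem extra2 : (gMat ω .b * gMat ω .c * gMat ω .d * gMat ω .e * gMat ω .f * gMat ω .g * gMat ω .h) ^ 9 = 1 := by
  show (evM ω GB * evM ω GC * evM ω GD * evM ω GE * evM ω GF * evM ω GG * evM ω GH) ^ 9 = 1
  rw [prod_of h m111 (show List.length GB = 78 by decide +kernel) (show List.length GC = 78 by decide +kernel), prod_of h m112 (show List.length W2_0 = 78 by decide +kernel) (show List.length GD = 78 by decide +kernel), prod_of h m113 (show List.length W2_1 = 78 by decide +kernel) (show List.length GE = 78 by decide +kernel), prod_of h m114 (show List.length W2_2 = 78 by decide +kernel) (show List.length GF = 78 by decide +kernel), prod_of h m115 (show List.length W2_3 = 78 by decide +kernel) (show List.length GG = 78 by decide +kernel), prod_of h m116 (show List.length W2_4 = 78 by decide +kernel) (show List.length GH = 78 by decide +kernel)]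
  have e2 : evM ω W2_5 ^ 2 = evM ω W2p2 := (pow_two _).trans (prod_of h m117 (show List.length W2_5 = 78 by decide +kernel) (show List.length W2_5 = 78 by decide +kernel))
  have e4 : evM ω W2_5 ^ 4 = evM ω W2p4 :=
    (pow_add _ 2 2).trans ((congrArg₂ (· * ·) e2 e2).trans (prod_of h m118 (show List.length W2p2 = 78 by decide +kernel) (show List.length W2p2 = 78 by decide +kernel)))
  have e8 : evM ω W2_5 ^ 8 = evM ω W2p8 :=
    (pow_add _ 4 4).trans ((congrArg₂ (· * ·) e4 e4).trans (prod_of h m119 (show List.length W2p4 = 78 by decide +kernel) (show List.length W2p4 = 78 by decide +kernel)))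
  exact (pow_add _ 8 1).trans ((congrArg₂ (· * ·) e8 (pow_one _)).trans ((prod_of h m120 (show List.length W2p8 = 78 by decide +kernel) (show List.length W2_5 = 78 by decide +kernel)).trans evM_oneM))

theorem sq (x : Fi22.Gen) : gMat ω x * gMat ω x = 1 :=
  match x with
  | .a => sq_a h
  | .b => sq_b h
  | .c => sq_c h
  | .d => sq_d h
  | .e => sq_e h
  | .f => sq_f h
  | .g => sq_g h
  | .h => sq_h h
  | .i => sq_i h

theorem pair : ∀ x y : Fi22.Gen, (gMat ω x * gMat ω y) ^ coxLabel Fi22.edges x y = 1
  | .a, .a => (pow_one _).trans (sq_a h)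
  | .a, .b => rel_ab h
  | .a, .c => rel_ac h
  | .a, .d => rel_ad h
  | .a, .e => rel_ae h
  | .a, .f => rel_af h
  | .a, .g => rel_ag h
  | .a, .h => rel_ah h
  | .a, .i => rel_ai h
  | .b, .a => swap_pow (sq_a h) (sq_b h) (rel_ab h)
  | .b, .b => (pow_one _).trans (sq_b h)
  | .b, .c => rel_bc h
  | .b, .d => rel_bd h
  | .b, .e => rel_be h
  | .b, .f => rel_bf h
  | .b, .g => rel_bg h
  | .b, .h => rel_bh h
  | .b, .i => rel_bi h
  | .c, .a => swap_pow (sq_a h) (sq_c h) (rel_ac h)
  | .c, .b => swap_pow (sq_b h) (sq_c h) (rel_bc h)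
  | .c, .c => (pow_one _).trans (sq_c h)
  | .c, .d => rel_cd h
  | .c, .e => rel_ce h
  | .c, .f => rel_cf h
  | .c, .g => rel_cg h
  | .c, .h => rel_ch h
  | .c, .i => rel_ci h
  | .d, .a => swap_pow (sq_a h) (sq_d h) (rel_ad h)
  | .d, .b => swap_pow (sq_b h) (sq_d h) (rel_bd h)
  | .d, .c => swap_pow (sq_c h) (sq_d h) (rel_cd h)
  | .d, .d => (pow_one _).trans (sq_d h)
  | .d, .e => rel_de h
  | .d, .f => rel_df h
  | .d, .g => rel_dg h
  | .d, .h => rel_dh h
  | .d, .i => rel_di h
  | .e, .a => swap_pow (sq_a h) (sq_e h) (rel_ae h)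
  | .e, .b => swap_pow (sq_b h) (sq_e h) (rel_be h)
  | .e, .c => swap_pow (sq_c h) (sq_e h) (rel_ce h)
  | .e, .d => swap_pow (sq_d h) (sq_e h) (rel_de h)
  | .e, .e => (pow_one _).trans (sq_e h)
  | .e, .f => rel_ef h
  | .e, .g => rel_eg h
  | .e, .h => rel_eh h
  | .e, .i => rel_ei h
  | .f, .a => swap_pow (sq_a h) (sq_f h) (rel_af h)
  | .f, .b => swap_pow (sq_b h) (sq_f h) (rel_bf h)
  | .f, .c => swap_pow (sq_c h) (sq_f h) (rel_cf h)
  | .f, .d => swap_pow (sq_d h) (sq_f h) (rel_df h)
  | .f, .e => swap_pow (sq_e h) (sq_f h) (rel_ef h)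
  | .f, .f => (pow_one _).trans (sq_f h)
  | .f, .g => rel_fg h
  | .f, .h => rel_fh h
  | .f, .i => rel_fi h
  | .g, .a => swap_pow (sq_a h) (sq_g h) (rel_ag h)
  | .g, .b => swap_pow (sq_b h) (sq_g h) (rel_bg h)
  | .g, .c => swap_pow (sq_c h) (sq_g h) (rel_cg h)
  | .g, .d => swap_pow (sq_d h) (sq_g h) (rel_dg h)
  | .g, .e => swap_pow (sq_e h) (sq_g h) (rel_eg h)
  | .g, .f => swap_pow (sq_f h) (sq_g h) (rel_fg h)
  | .g, .g => (pow_one _).trans (sq_g h)
  | .g, .h => rel_gh h
  | .g, .i => rel_gi h
  | .h, .a => swap_pow (sq_a h) (sq_h h) (rel_ah h)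
  | .h, .b => swap_pow (sq_b h) (sq_h h) (rel_bh h)
  | .h, .c => swap_pow (sq_c h) (sq_h h) (rel_ch h)
  | .h, .d => swap_pow (sq_d h) (sq_h h) (rel_dh h)
  | .h, .e => swap_pow (sq_e h) (sq_h h) (rel_eh h)
  | .h, .f => swap_pow (sq_f h) (sq_h h) (rel_fh h)
  | .h, .g => swap_pow (sq_g h) (sq_h h) (rel_gh h)
  | .h, .h => (pow_one _).trans (sq_h h)
  | .h, .i => rel_hi h
  | .i, .a => swap_pow (sq_a h) (sq_i h) (rel_ai h)
  | .i, .b => swap_pow (sq_b h) (sq_i h) (rel_bi h)
  | .i, .c => swap_pow (sq_c h) (sq_i h) (rel_ci h)
  | .i, .d => swap_pow (sq_d h) (sq_i h) (rel_di h)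
  | .i, .e => swap_pow (sq_e h) (sq_i h) (rel_ei h)
  | .i, .f => swap_pow (sq_f h) (sq_i h) (rel_fi h)
  | .i, .g => swap_pow (sq_g h) (sq_i h) (rel_gi h)
  | .i, .h => swap_pow (sq_h h) (sq_i h) (rel_hi h)
  | .i, .i => (pow_one _).trans (sq_i h)

end Cfsg.Agent.TwistedOut.Fi22Rel
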