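import Cfsg.Agent.TwistedOut.Frame
import Cfsg.Agent.Twisted.Groups.E6
import Cfsg.Agent.AutDecomp.Parts

/-!
Automorphisms of `²E₆(q)` acting by scalars on the root groups of the orbits (helper97).
-/

set_option autoImplicit false
set_option linter.unusedSectionVars false
set_option maxRecDepth 4000

namespace Cfsg.Agent.TwistedOut.UnitaryE6

open Cfsg.Lie Cfsg.Agent.ChevGroup Cfsg.Agent.ChevIsogeny Cfsg.Agent.Twisted
open Cfsg.Agent.Twisted.TypeE6

universe u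

theorem cover_ok : coverB (MT.S) orb = true := by decide +kernel

theorem opp_ok : oppB (MT.S) orb W0 = true := by decide +kernel

theorem m46 : (46 : Fin MT.tab.n) ∈ ones := by decide
theorem m39 : (39 : Fin MT.tab.n) ∈ ones := by decide
theorem p42 : ((42, 37) : Fin MT.tab.n × Fin MT.tab.n) ∈ pairs := by decide
theorem p56 : ((56, 36) : Fin MT.tab.n × Fin MT.tab.n) ∈ pairs := by decide

theorem sub46 : List.Sublist ([46] : List (Fin MT.tab.n)) MT.posList := by decide +kernel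
theorem sub39 : List.Sublist ([39] : List (Fin MT.tab.n)) MT.posList := by decide +kernel
theorem sub42 : List.Sublist ([37, 42] : List (Fin MT.tab.n)) MT.posList := by decide +kernel
theorem sub56 : List.Sublist ([36, 56] : List (Fin MT.tab.n)) MT.posList := by decide +kernel

variable {F : Type u} [Field F] [Fintype F] {q : ℕ} {K : Rels chevE6 F}

variable (F q) in
/-- the units fixed by the `q`-th power -/
def fixU : Subgroup Fˣ := (powMonoidHom q : Fˣ →* Fˣ).eqLocus (MonoidHom.id _)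

theorem mem_fixU {u : Fˣ} : u ∈ fixU F q ↔ u ^ q = u := Iff.rfl

theorem fixU_val (u : ↥(fixU F q)) : ((u : Fˣ) : F) ^ q = (u : Fˣ) := by
  rw [← Units.val_pow_eq_pow_val, mem_fixU.1 u.2]

theorem fix_mul (u : ↥(fixU F q)) {t : F} (ht : t ^ q = t) :
    (((u : Fˣ) : F) * t) ^ q = ((u : Fˣ) : F) * t := by rw [mul_pow, fixU_val, ht]

variable (F q) in
/-- the scalars on the four orbits -/
abbrev Par : Type u := (↥(fixU F q) × ↥(fixU F q)) × (Fˣ × Fˣ)

set_option quotPrecheck false in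
local notation "G₁" => genG MT K (e6Words F q)

variable (Z : Frame (T := MT) K PP q fd)

/-- an element of a one-root group -/
noncomputable def oneG {r : Fin MT.tab.n} (hr : r ∈ ones) {t : F} (ht : t ^ q = t) : ↥G₁ :=
  ⟨(MT.rel K).x r t, one_mem_G Z hr ht⟩

/-- an element of a two-root group -/
noncomputable def twoG {p : Fin MT.tab.n × Fin MT.tab.n} (hp : p ∈ pairs) (t : F) : ↥G₁ :=
  ⟨prodX MT K [p.1, p.2] (duo q p.1 t), pair_mem_G Z hp t⟩

theorem oneG_congr {r : Fin MT.tab.n} (hr : r ∈ ones) {t t' : F} {ht : t ^ q = t}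
    {ht' : t' ^ q = t'} (h : t = t') : oneG Z hr ht = oneG Z hr ht' := by subst h; rfl

theorem oneG_inj {r : Fin MT.tab.n} {hr : r ∈ ones} {t t' : F} {ht : t ^ q = t}
    {ht' : t' ^ q = t'} (h : oneG Z hr ht = oneG Z hr ht') : t = t' :=
  Z.iso.x_injective _ (congrArg Subtype.val h :)

theorem oneG_eq_one {r : Fin MT.tab.n} {hr : r ∈ ones} {t : F} {ht : t ^ q = t} :
    oneG Z hr ht = 1 ↔ t = 0 := by
  constructor
  · intro h
    have h' : (MT.rel K).x r t = (MT.rel K).x r 0 := by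
      rw [(MT.rel K).x_zero]; exact congrArg Subtype.val h
    exact Z.iso.x_injective _ h'
  · rintro rfl
    exact Subtype.ext ((MT.rel K).x_zero _)

include Z in
theorem two_list {p : Fin MT.tab.n × Fin MT.tab.n} (hp : p ∈ pairs) :
    commListB PP fd [p.1, p.2] = true :=
  list_ok Z _ (List.mem_append_right _ (List.mem_flatMap.2 ⟨p, hp, by simp⟩))

include Z in
theorem two_inj' {p : Fin MT.tab.n × Fin MT.tab.n} (hp : p ∈ pairs)
    (hsub : [p.2, p.1].Sublist MT.posList) {v w : Fin MT.tab.n → F}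
    (h : prodX MT K [p.1, p.2] v = prodX MT K [p.1, p.2] w) : v p.1 = w p.1 ∧ v p.2 = w p.2 := by
  rw [Z.prodX_perm (List.Perm.swap p.2 p.1 []) (two_list Z hp),
    Z.prodX_perm (List.Perm.swap p.2 p.1 []) (two_list Z hp)] at h
  have h' := Z.prodX_inj hsub h
  exact ⟨h' p.1 (by simp), h' p.2 (by simp)⟩

theorem twoG_inj {p : Fin MT.tab.n × Fin MT.tab.n} {hp : p ∈ pairs}
    (hsub : [p.2, p.1].Sublist MT.posList) {t t' : F} (h : twoG Z hp t = twoG Z hp t') : t = t' := by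
  simpa [duo] using (two_inj' Z hp hsub (congrArg Subtype.val h :)).1

theorem twoG_add (hadd : ∀ a b : F, (a + b) ^ q = a ^ q + b ^ q) {p : Fin MT.tab.n × Fin MT.tab.n}
    (hp : p ∈ pairs) (s t : F) : twoG Z hp s * twoG Z hp t = twoG Z hp (s + t) := by
  refine Subtype.ext ?_
  show prodX MT K [p.1, p.2] _ * prodX MT K [p.1, p.2] _ = prodX MT K [p.1, p.2] _
  rw [Z.prodX_mul (fun r hr s hs => Z.commList_commute (two_list Z hp) hr hs)]
  refine Z.prodX_congr fun r _ => ?_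
  simp only [Pi.add_apply, duo]
  split_ifs <;> simp [hadd]

/-- `φ` multiplies the parameters of the four orbits by the given scalars -/
def Acts (φ : MulAut ↥G₁) (a : Par F q) : Prop :=
  ((∀ (t : F) (ht : t ^ q = t), φ (oneG Z m46 ht) = oneG Z m46 (fix_mul a.1.1 ht)) ∧
    ∀ (t : F) (ht : t ^ q = t), φ (oneG Z m39 ht) = oneG Z m39 (fix_mul a.1.2 ht)) ∧
  (∀ t : F, φ (twoG Z p42 t) = twoG Z p42 ((a.2.1 : F) * t)) ∧
  ∀ t : F, φ (twoG Z p56 t) = twoG Z p56 ((a.2.2 : F) * t)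

theorem acts_unique {φ : MulAut ↥G₁} {a b : Par F q} (h : Acts Z φ a) (h' : Acts Z φ b) : a = b := by
  obtain ⟨⟨h0, h1⟩, h2, h3⟩ := h
  obtain ⟨⟨g0, g1⟩, g2, g3⟩ := h'
  refine Prod.ext (Prod.ext ?_ ?_) (Prod.ext ?_ ?_)
  · refine Subtype.ext (Units.ext ?_)
    simpa using oneG_inj Z ((h0 1 (one_pow q)).symm.trans (g0 1 (one_pow q)))
  · refine Subtype.ext (Units.ext ?_)
    simpa using oneG_inj Z ((h1 1 (one_pow q)).symm.trans (g1 1 (one_pow q)))
  · refine Units.ext ?_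
    simpa using twoG_inj Z sub42 ((h2 1).symm.trans (g2 1))
  · refine Units.ext ?_
    simpa using twoG_inj Z sub56 ((h3 1).symm.trans (g3 1))

theorem acts_mul {φ ψ : MulAut ↥G₁} {a b : Par F q} (h : Acts Z φ a) (h' : Acts Z ψ b) :
    Acts Z (φ * ψ) (a * b) := by
  obtain ⟨⟨h0, h1⟩, h2, h3⟩ := h
  obtain ⟨⟨g0, g1⟩, g2, g3⟩ := h'
  refine ⟨⟨fun t ht => ?_, fun t ht => ?_⟩, fun t => ?_, fun t => ?_⟩
  · rw [MulAut.mul_apply, g0, h0]; exact oneG_congr Z _ (by simp [mul_assoc])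
  · rw [MulAut.mul_apply, g1, h1]; exact oneG_congr Z _ (by simp [mul_assoc])
  · rw [MulAut.mul_apply, g2, h2]; simp [mul_assoc]
  · rw [MulAut.mul_apply, g3, h3]; simp [mul_assoc]

theorem acts_one : Acts Z (1 : MulAut ↥G₁) 1 :=
  ⟨⟨fun t ht => oneG_congr Z _ (ht := ht) (by simp), fun t ht => oneG_congr Z _ (ht := ht) (by simp)⟩,
    fun t => by simp, fun t => by simp⟩

theorem simple_vals : ∀ i : Fin 6,
    chevE6.simple i.val = ([56, 46, 42, 39, 37, 36] : List ℕ).getD i.val 0 := by decide +kernel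

theorem neg_vals : chevE6.neg 46 = 25 ∧ chevE6.neg 39 = 32 ∧ chevE6.neg 42 = 29 ∧
    chevE6.neg 37 = 34 ∧ chevE6.neg 56 = 15 ∧ chevE6.neg 36 = 35 := by
  decide +kernel

/-- the diagonal automorphisms -/
theorem exists_acts (hper : ∀ a : F, a ^ (q ^ 2) = a) (a : Par F q) : ∃ φ : MulAut ↥G₁,
    (∀ T : Fin MT.tab.n → Prop, Pres φ ((Sg (MT.rel K) T).subgroupOf G₁)) ∧ Acts Z φ a := by
  classical
  have hG := ChevCore.good_of_mem (D := chevE6) (by simp)
  let b : ℕ → Fˣ := fun i => [a.2.2, (a.1.1 : Fˣ), a.2.1, (a.1.2 : Fˣ), a.2.1 ^ q, a.2.2 ^ q].getD i 1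
  obtain ⟨d, -, hd⟩ := AutDecomp.exists_diagonal hG b
  set χ := AutDecomp.charOf chevE6 b with hχ
  have hchar := AutDecomp.charOf_isRootCharacter hG b (F := F)
  have hs : ∀ i : Fin 6, χ (([56, 46, 42, 39, 37, 36] : List ℕ).getD i.val 0) = b i.val := fun i => by
    rw [← simple_vals i]
    exact AutDecomp.charOf_simple hG b i.isLt
  have hlt : ∀ r : Fin MT.tab.n, r.val < chevE6.nroots := fun r => MT.lt r
  have hneg : ∀ r : Fin MT.tab.n, χ (chevE6.neg r.val) = (χ r.val)⁻¹ := fun r => hchar.1 _ (hlt r)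
  have c56 : χ 56 = a.2.2 := hs 0
  have c46 : χ 46 = a.1.1 := hs 1
  have c42 : χ 42 = a.2.1 := hs 2
  have c39 : χ 39 = a.1.2 := hs 3
  have c37 : χ 37 = a.2.1 ^ q := hs 4
  have c36 : χ 36 = a.2.2 ^ q := hs 5
  obtain ⟨n46, n39, n42, n37, n56, n36⟩ := neg_vals
  have c25 : χ 25 = (χ 46)⁻¹ := n46 ▸ hneg 46
  have c32 : χ 32 = (χ 39)⁻¹ := n39 ▸ hneg 39
  have c29 : χ 29 = (χ 42)⁻¹ := n42 ▸ hneg 42
  have c34 : χ 34 = (χ 37)⁻¹ := n37 ▸ hneg 37
  have c15 : χ 15 = (χ 56)⁻¹ := n56 ▸ hneg 56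
  have c35 : χ 35 = (χ 36)⁻¹ := n36 ▸ hneg 36
  have hones : ∀ r ∈ ones, (χ r.val : F) ^ q = χ r.val := by
    intro r hr
    simp only [ones, List.mem_cons, List.not_mem_nil, or_false] at hr
    rw [← Units.val_pow_eq_pow_val]
    rcases hr with rfl | rfl | rfl | rfl
    · show ((χ 46 ^ q : Fˣ) : F) = (χ 46 : F)
      rw [c46, mem_fixU.1 a.1.1.2]
    · show ((χ 25 ^ q : Fˣ) : F) = (χ 25 : F)
      rw [c25, c46, inv_pow, mem_fixU.1 a.1.1.2]
    · show ((χ 39 ^ q : Fˣ) : F) = (χ 39 : F)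
      rw [c39, mem_fixU.1 a.1.2.2]
    · show ((χ 32 ^ q : Fˣ) : F) = (χ 32 : F)
      rw [c32, c39, inv_pow, mem_fixU.1 a.1.2.2]
  have hpairs : ∀ p ∈ pairs, χ p.2.val = χ p.1.val ^ q := by
    intro p hp
    simp only [pairs, List.mem_cons, List.not_mem_nil, or_false] at hp
    rcases hp with rfl | rfl | rfl | rfl
    · show χ 36 = χ 56 ^ q
      rw [c36, c56]
    · show χ 35 = χ 15 ^ q
      rw [c35, c15, c36, c56, inv_pow]
    · show χ 37 = χ 42 ^ q
      rw [c37, c42]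
    · show χ 34 = χ 29 ^ q
      rw [c34, c29, c37, c42, inv_pow]
  -- action on root elements
  have hx : ∀ (r : Fin MT.tab.n) (t : F),
      d ((MT.rel K).x r t) = (MT.rel K).x r ((χ r.val : F) * t) := by
    intro r t
    refine Model.mat_inj ?_
    rw [← IsoHyp.xN_val, ← IsoHyp.xN_val, IsoHyp.mat_xN]
    exact hd _ r.val t (hlt r) (IsoHyp.mat_xN _ _)
  have hone : ∀ {r : Fin MT.tab.n} (hr : r ∈ ones) {t : F} (ht : t ^ q = t),
      ((χ r.val : F) * t) ^ q = (χ r.val : F) * t := fun hr _ ht => by rw [mul_pow, hones _ hr, ht]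
  have htwo : ∀ {p : Fin MT.tab.n × Fin MT.tab.n} (hp : p ∈ pairs) (t : F),
      d (prodX MT K [p.1, p.2] (duo q p.1 t)) =
        prodX MT K [p.1, p.2] (duo q p.1 ((χ p.1.val : F) * t)) := fun {p} hp t => by
    rw [prodX, map_list_prod, List.map_map]
    refine congrArg List.prod (List.map_congr_left fun r hr => ?_)
    rw [Function.comp_apply, hx]
    simp only [List.mem_cons, List.not_mem_nil, or_false] at hr
    congr 1
    rcases hr with rfl | rfl
    · simp [duo]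
    · simp [duo, (pairs_rho p hp).2.2, hpairs p hp, mul_pow]
  have hmem : G₁ ≤ (G₁).comap d.toMonoidHom := by
    rw [genG, Subgroup.closure_le]
    rintro _ ⟨w, hw, rfl⟩
    rw [SetLike.mem_coe, Subgroup.mem_comap]
    rcases hw with ⟨t, ht, r, hr, rfl⟩ | ⟨t, rs, hr, rfl⟩
    · obtain ⟨r', hr', rfl⟩ : ∃ r' ∈ ones, r'.val = r := by
        simp only [List.mem_cons, List.not_mem_nil, or_false] at hr
        rcases hr with rfl | rfl | rfl | rfl
        exacts [⟨46, by decide, rfl⟩, ⟨25, by decide, rfl⟩, ⟨39, by decide, rfl⟩, ⟨32, by decide, rfl⟩]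
      rw [Z.wv_cons, show wv MT K ([] : List (ℕ × F)) = 1 from rfl, mul_one]
      show d ((MT.rel K).x r' t) ∈ G₁
      rw [hx]
      exact one_mem_G Z hr' (hone hr' ht)
    · obtain ⟨p, hp, rfl⟩ : ∃ p ∈ pairs, (p.1.val, p.2.val) = rs := by
        simp only [List.mem_cons, List.not_mem_nil, or_false] at hr
        rcases hr with rfl | rfl | rfl | rfl
        exacts [⟨(56, 36), by decide, rfl⟩, ⟨(15, 35), by decide, rfl⟩, ⟨(42, 37), by decide, rfl⟩,
          ⟨(29, 34), by decide, rfl⟩]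
      rw [wv_pair Z hp]
      show d (prodX MT K [p.1, p.2] (duo q p.1 t)) ∈ G₁
      rw [htwo hp]
      exact pair_mem_G Z hp _
  haveI : Finite ↥G₁ := inferInstance
  let f : ↥G₁ →* ↥G₁ := (d.toMonoidHom.comp (G₁).subtype).codRestrict G₁ fun g => hmem g.2
  have hf : Function.Injective f := fun g g' e => Subtype.ext (d.injective (congrArg Subtype.val e :))
  refine ⟨MulEquiv.ofBijective f (Finite.injective_iff_bijective.1 hf), fun T => ?_,
    ⟨fun t ht => ?_, fun t ht => ?_⟩, fun t => ?_, fun t => ?_⟩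
  · refine pres_of_le fun g hg => ?_
    have key : Sg (MT.rel K) T ≤ (Sg (MT.rel K) T).comap d.toMonoidHom := by
      rw [Sg, Subgroup.closure_le]
      rintro _ ⟨r, t, hr, rfl⟩
      rw [SetLike.mem_coe, Subgroup.mem_comap]
      show d ((MT.rel K).x r t) ∈ _
      rw [hx]
      exact x_mem_Sg (MT.rel K) hr _
    exact key hg
  · refine Subtype.ext ?_
    show d ((MT.rel K).x 46 t) = (MT.rel K).x 46 _
    rw [hx, show ((46 : Fin MT.tab.n).val) = 46 from rfl, c46]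
  · refine Subtype.ext ?_
    show d ((MT.rel K).x 39 t) = (MT.rel K).x 39 _
    rw [hx, show ((39 : Fin MT.tab.n).val) = 39 from rfl, c39]
  · refine Subtype.ext ?_
    show d (prodX MT K [42, 37] (duo q 42 t)) = prodX MT K [42, 37] (duo q 42 _)
    rw [htwo p42, show ((42 : Fin MT.tab.n).val) = 42 from rfl, c42]
  · refine Subtype.ext ?_
    show d (prodX MT K [56, 36] (duo q 56 t)) = prodX MT K [56, 36] (duo q 56 _)
    rw [htwo p56, show ((56 : Fin MT.tab.n).val) = 56 from rfl, c56]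

variable (hq : IsPrimePow q) (hK : Fintype.card F = q ^ 2)

set_option quotPrecheck false in
local notation "𝔻" => (gens Z hq hK).data

include Z hq hK

theorem hyp {p f : ℕ} (hp : p.Prime) (hf : 1 ≤ f) (hqf : q = p ^ f) :
    Hyp 𝔻 (MT.shapeR K) W0 p := by
  obtain ⟨x0, x1, x2, x3⟩ := card_X Z hq hK
  refine hyp_of_gens (gens Z hq hK) long_ok distinct_ok orth_ok cover_ok opp_ok
    ((gens Z hq hK).faith torOk simple_orth) hp ⟨f * 36, ?_⟩ ?_
  · rw [(𝔻).card_U1 (MT.shapeR K) ((gens Z hq hK).longest long_ok)]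
    simp only [W0, List.map_cons, List.map_nil, List.prod_cons, List.prod_nil, x0, x1, x2, x3]
    rw [hqf]; ring
  · rw [Nat.coprime_comm, hp.coprime_iff_not_dvd]
    intro h
    have hdq : p ∣ q := hqf ▸ dvd_pow_self _ (by omega)
    have h1 : p ∣ ((q ^ 2 - 1) * (q - 1)) ^ 2 := card_H1 Z hq hK ▸ Dvd.dvd.mul_left h _
    rcases hp.dvd_mul.1 (hp.dvd_of_dvd_pow h1) with h' | h'
    · have h2 : p ∣ q ^ 2 - 1 + 1 := by
        rw [Nat.sub_add_cancel (Nat.one_le_pow _ _ hq.pos)]; exact dvd_pow hdq two_ne_zero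
      exact hp.one_lt.ne' (Nat.dvd_one.1 ((Nat.dvd_add_right h').1 h2))
    · have h2 : p ∣ q - 1 + 1 := by rwa [Nat.sub_add_cancel hq.one_lt.le]
      exact hp.one_lt.ne' (Nat.dvd_one.1 ((Nat.dvd_add_right h').1 h2))

theorem card_xS (k : Fin 4) : Nat.card ↥(xS 𝔻 k) = Nat.card ↥((𝔻).X k) :=
  Nat.card_congr ⟨fun x => ⟨(x.1 : ↥(chevE6.group F)), x.1.2, x.2⟩,
    fun y => ⟨⟨y.1, y.2.1⟩, y.2.2⟩, fun _ => rfl, fun _ => rfl⟩

theorem one_mem {r : Fin MT.tab.n} (hr : r ∈ ones) {k : Fin 4} (hk : r ∈ fd.O.cls k) {t : F}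
    (ht : t ^ q = t) : oneG Z hr ht ∈ xS 𝔻 k := (one_mem_X Z hq hK hr hk ht).2

theorem two_mem {p : Fin MT.tab.n × Fin MT.tab.n} (hp : p ∈ pairs) {k : Fin 4}
    (h1 : p.1 ∈ fd.O.cls k) (h2 : p.2 ∈ fd.O.cls k) (t : F) : twoG Z hp t ∈ xS 𝔻 k :=
  (pair_mem_X Z hq hK hp h1 h2 t).2

theorem exists_one {r : Fin MT.tab.n} (hr : r ∈ ones) {k : Fin 4} (hk : fd.O.cls k = [r])
    (hsub : [r].Sublist MT.posList) {x : ↥G₁} (hx : x ∈ xS 𝔻 k) :
    ∃ (t : F) (ht : t ^ q = t), x = oneG Z hr ht := by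
  have hx' : (x : ↥(chevE6.group F)) ∈ Sg (MT.rel K) (· ∈ fd.O.cls k) := hx
  rw [hk] at hx'
  obtain ⟨t, ht, h⟩ := cls_one Z hr hsub hx' ((gens Z hq hK).fixed _ x.2)
  exact ⟨t, ht, Subtype.ext h⟩

theorem exists_two {p : Fin MT.tab.n × Fin MT.tab.n} (hp : p ∈ pairs) {k : Fin 4}
    (hk : fd.O.cls k = [p.1, p.2]) (hsub : [p.2, p.1].Sublist MT.posList) {x : ↥G₁}
    (hx : x ∈ xS 𝔻 k) : ∃ t : F, x = twoG Z hp t := by
  have hx' : (x : ↥(chevE6.group F)) ∈ Sg (MT.rel K) (· ∈ fd.O.cls k) := hx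
  rw [hk] at hx'
  obtain ⟨t, h⟩ := cls_pair Z hp hsub hx' ((gens Z hq hK).fixed _ x.2)
  exact ⟨t, Subtype.ext h⟩

/-- two automorphisms with the same scalars agree on the root groups of the orbits -/
theorem agree_of_acts {φ ψ : MulAut ↥G₁} {a : Par F q} (h : Acts Z φ a) (h' : Acts Z ψ a)
    (k : Fin 4) (x : ↥G₁) (hx : x ∈ xS 𝔻 k) : φ x = ψ x := by
  match k with
  | 0 =>
    obtain ⟨t, ht, rfl⟩ := exists_one Z hq hK m46 rfl sub46 hx
    rw [h.1.1, h'.1.1]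
  | 1 =>
    obtain ⟨t, ht, rfl⟩ := exists_one Z hq hK m39 rfl sub39 hx
    rw [h.1.2, h'.1.2]
  | 2 =>
    obtain ⟨t, rfl⟩ := exists_two Z hq hK p42 rfl sub42 hx
    rw [h.2.1, h'.2.1]
  | 3 =>
    obtain ⟨t, rfl⟩ := exists_two Z hq hK p56 rfl sub56 hx
    rw [h.2.2, h'.2.2]

/-- The scalars by which an element of the torus acts. -/
theorem exists_chi {x : ↥G₁} (hx : x ∈ tS 𝔻) :
    ∃ (c : Fin MT.tab.l → Fˣ) (a : Par F q), (x : ↥(chevE6.group F)) = tor MT K c ∧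
      Acts Z (MulAut.conj x) a ∧ (a.1.1 : Fˣ) = chi MT c 46 ∧ (a.1.2 : Fˣ) = chi MT c 39 ∧
      a.2.1 = chi MT c 42 ∧ a.2.2 = chi MT c 56 ∧ chi MT c 37 = a.2.1 ^ q := by
  obtain ⟨c, hc⟩ := Z.exists_tor torOk (h := (x : ↥(chevE6.group F))) hx
  have h1 : ∀ {r : Fin MT.tab.n} (hr : r ∈ ones) {k : Fin 4}, fd.O.cls k = [r] →
      [r].Sublist MT.posList → ∀ {t : F} (ht : t ^ q = t), ∃ ht',
        x * oneG Z hr ht * x⁻¹ = oneG Z hr (t := (chi MT c r : F) * t) ht' := by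
    intro r hr k hk hsub t ht
    obtain ⟨t', ht', h⟩ := exists_one Z hq hK hr hk hsub (x := x * oneG Z hr ht * x⁻¹)
      (H_conj_Sg (MT.rel K) (h := (x : ↥(chevE6.group F))) hx
        (one_mem Z hq hK hr (k := k) (by rw [hk]; simp) ht))
    have h' : tor MT K c * (MT.rel K).x r t * (tor MT K c)⁻¹ = (MT.rel K).x r t' := by
      rw [hc]; exact congrArg Subtype.val h
    rw [Z.tor_conj] at h'
    obtain rfl := Z.iso.x_injective _ h'
    exact ⟨ht', h⟩
  have h2 : ∀ {p : Fin MT.tab.n × Fin MT.tab.n} (hp : p ∈ pairs) {k : Fin 4},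
      fd.O.cls k = [p.1, p.2] → [p.2, p.1].Sublist MT.posList →
        (∀ t : F, x * twoG Z hp t * x⁻¹ = twoG Z hp ((chi MT c p.1 : F) * t)) ∧
          chi MT c p.2 = chi MT c p.1 ^ q := by
    intro p hp k hk hsub
    have key : ∀ t : F, x * twoG Z hp t * x⁻¹ = twoG Z hp ((chi MT c p.1 : F) * t) ∧
        (chi MT c p.2 : F) * t ^ q = ((chi MT c p.1 : F) * t) ^ q := by
      intro t
      obtain ⟨t', h⟩ := exists_two Z hq hK hp hk hsub (x := x * twoG Z hp t * x⁻¹)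
        (H_conj_Sg (MT.rel K) (h := (x : ↥(chevE6.group F))) hx
          (two_mem Z hq hK hp (k := k) (by rw [hk]; simp) (by rw [hk]; simp) t))
      have h' : tor MT K c * prodX MT K [p.1, p.2] (duo q p.1 t) * (tor MT K c)⁻¹ =
          prodX MT K [p.1, p.2] (duo q p.1 t') := by rw [hc]; exact congrArg Subtype.val h
      rw [Z.tor_prodX_conj] at h'
      obtain ⟨e1, e2⟩ := two_inj' Z hp hsub h'
      simp only [duo, if_pos] at e1
      simp only [duo, (pairs_rho p hp).2.2, if_false] at e2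
      subst e1
      exact ⟨h, e2⟩
    refine ⟨fun t => (key t).1, Units.ext ?_⟩
    simpa using (key 1).2
  have hfix : ∀ {r : Fin MT.tab.n} (hr : r ∈ ones) {k : Fin 4}, fd.O.cls k = [r] →
      [r].Sublist MT.posList → chi MT c r ∈ fixU F q := fun {r} hr {k} hk hsub => by
    obtain ⟨h, -⟩ := h1 hr hk hsub (one_pow q)
    exact mem_fixU.2 (Units.ext (by rw [Units.val_pow_eq_pow_val]; simpa using h))
  refine ⟨c, ((⟨chi MT c 46, hfix m46 (k := 0) rfl sub46⟩,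
      ⟨chi MT c 39, hfix m39 (k := 1) rfl sub39⟩), (chi MT c 42, chi MT c 56)), hc.symm,
    ⟨⟨fun t ht => ?_, fun t ht => ?_⟩, fun t => ?_, fun t => ?_⟩, rfl, rfl, rfl, rfl,
      (h2 p42 (k := 2) rfl sub42).2⟩
  · obtain ⟨_, e⟩ := h1 m46 (k := 0) rfl sub46 ht
    exact e
  · obtain ⟨_, e⟩ := h1 m39 (k := 1) rfl sub39 ht
    exact e
  · exact (h2 p42 (k := 2) rfl sub42).1 t
  · exact (h2 p56 (k := 3) rfl sub56).1 t

theorem card_fixU : Nat.card ↥(fixU F q) = q - 1 := by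
  rw [← card_units_pow_eq_one (F := F) (n := q - 1) (hK ▸ Nat.sub_one_dvd_pow_sub_one q 2)]
  refine Nat.card_congr (Equiv.subtypeEquivRight fun u => ?_)
  rw [mem_fixU, ← pow_sub_mul_pow u hq.one_lt.le, pow_one, mul_eq_right]

theorem exists_norm {u : Fˣ} (hu : u ^ q = u) : ∃ μ : Fˣ, μ * μ ^ q = u := by
  obtain ⟨g, hg⟩ := IsCyclic.exists_monoid_generator (α := Fˣ)
  have ho : orderOf g = q ^ 2 - 1 := by
    rw [orderOf_eq_card_of_forall_mem_powers hg, Nat.card_units, Nat.card_eq_fintype_card, hK]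
  obtain ⟨k, hk⟩ := (Submonoid.mem_powers_iff _ _).1 (hg u)
  have h1 : (g ^ k) ^ (q - 1) = 1 := by
    rw [← pow_sub_mul_pow u hq.one_lt.le, pow_one, mul_eq_right] at hu
    rwa [hk]
  rw [← pow_mul, ← orderOf_dvd_iff_pow_eq_one, ho] at h1
  have e : q ^ 2 - 1 = (q + 1) * (q - 1) := by
    have := hq.pos
    zify [show 1 ≤ q by omega, Nat.one_le_pow 2 q this]
    ring
  rw [e] at h1
  obtain ⟨j, hj⟩ := Nat.dvd_of_mul_dvd_mul_right (Nat.sub_pos_of_lt hq.one_lt) h1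
  exact ⟨g ^ j, by rw [← hk, hj, ← pow_succ', ← pow_mul, mul_comm]⟩

end Cfsg.Agent.TwistedOut.UnitaryE6
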